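import Cfsg.Agent.H283.DescComp
import Cfsg.Agent.FixBN.LOAll
import Cfsg.Agent.CpAut.Base
import Cfsg.Agent.Schreier.Balance
import Cfsg.Agent.SignalizersComponents.Components
/-!
# Components of the centralizer of an involutory automorphism of a group of Lie type of odd characteristic (helper283)

`K` simple of Lie type in odd characteristic `p`, `x ∈ Aut(K)`, `x ^ 2 = 1`, `A` a component of `C_K(x)`, all the
`p`-elements of `C_K(x)` in `A C(A)`.

* `le_Hp` : `A` is contained in the subgroup generated by the `p`-elements of `C_K(x)`;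
* `odd_row` : `A / Z(A)` has a (B,N)-pair with `B = U (B ∩ N)`, `U` a normal `p`-subgroup of `B`; for the small Ree
  groups: `C_K(x) = 2 × L₂(q)`.
-/

set_option autoImplicit false
set_option linter.unusedSectionVars false

namespace Cfsg.Agent.H283.OddComp

open Cfsg Subgroup Cfsg.Agent.FixBN Cfsg.Agent.BpGate Cfsg.Agent.H283.DescInst Cfsg.Agent.H283.DescQuot
open Cfsg.Agent.H283.DescComp Cfsg.Agent.SignalizersComponents.Components

universe u v

section Abs

variable {H : Type*} [Group H] [Finite H] {p : ℕ} [hp : Fact p.Prime]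

/-- the `p`-elements are in `Hp p H` -/
theorem mem_Hp {y : H} {n : ℕ} (hy : y ^ p ^ n = 1) : y ∈ Hp p H := by
  have h1 : IsPGroup p ↥(zpowers y) := by
    rintro ⟨z, hz⟩
    obtain ⟨k, rfl⟩ := mem_zpowers_iff.1 hz
    refine ⟨n, Subtype.ext ?_⟩
    change (y ^ k) ^ p ^ n = 1
    rw [← zpow_natCast, ← zpow_mul, mul_comm, zpow_mul, zpow_natCast, hy, one_zpow]
  obtain ⟨b, hb⟩ := h1.exists_le_sylow
  exact le_Hp b (hb (mem_zpowers y))

/-- An element inducing an inner automorphism on `A / Z(A)`. -/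
theorem mem_sup_of_quo {A : Subgroup H} (hA : IsQuasisimple A) {u : H} (hu : u ∈ normalizer (A : Set H))
    {a : ↥A ⧸ center ↥A}
    (h : Schreier.Balance.quoAut ↥A (A.normalizerMonoidHom ⟨u, hu⟩) = MulAut.conj a) :
    u ∈ A ⊔ centralizer (A : Set H) := by
  obtain ⟨l, rfl⟩ := QuotientGroup.mk_surjective a
  have hln : (l : H) ∈ normalizer (A : Set H) := le_normalizer l.2
  have h4 : Schreier.Balance.quoAut A (A.normalizerMonoidHom (⟨l, hln⟩⁻¹ * ⟨u, hu⟩)) = 1 := by
    rw [map_mul, map_mul, map_inv, map_inv]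
    have h5 : Schreier.Balance.quoAut A (A.normalizerMonoidHom ⟨l, hln⟩) =
        MulAut.conj (QuotientGroup.mk l : A ⧸ Subgroup.center A) := by
      apply MulEquiv.ext
      intro x
      induction x using QuotientGroup.induction_on with
      | H a => rfl
    rw [h5, h, inv_mul_cancel]
  have h7 := Schreier.Balance.eq_one_of_quoAut_eq_one hA.1 h4
  have h8 : (l : H)⁻¹ * u ∈ centralizer (A : Set H) := by
    rw [mem_centralizer_iff]
    intro x hx
    have h8 : (A.normalizerMonoidHom (⟨l, hln⟩⁻¹ * ⟨u, hu⟩)) ⟨x, hx⟩ = ⟨x, hx⟩ := by rw [h7]; rfl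
    have h9 : ((l : H)⁻¹ * u) * x * ((l : H)⁻¹ * u)⁻¹ = x := congrArg Subtype.val h8
    rw [mul_inv_eq_iff_eq_mul] at h9
    exact h9.symm
  have h9 : u = (l : H) * ((l : H)⁻¹ * u) := by group
  rw [h9]
  exact mul_mem (mem_sup_left l.2) (mem_sup_right h8)

end Abs

/-- the hypothesis: the `p`-elements of `H` act on `A` as inner automorphisms -/
def Inn (p : ℕ) {H : Type*} [Group H] (A : Subgroup H) : Prop :=
  ∀ u : H, (∃ n : ℕ, u ^ p ^ n = 1) → u ∈ A ⊔ centralizer (A : Set H)

/-- the conclusion for all involutory automorphisms of `K` -/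
def OddRow (p : ℕ) (K : Type*) [Group K] : Prop :=
  ∀ x : MulAut K, x ^ 2 = 1 → ∀ A : Subgroup ↥(fixedSubgroup x), IsComponent A → Inn p A →
    CharBN p (↥A ⧸ center ↥A)

theorem notMem_B {G : Type*} [Group G] (P : BNPair G) {s : G} (hs : s ∈ P.S) : s ∉ P.B := by
  intro h
  refine P.conj_ne s hs ?_
  ext x
  constructor
  · rintro ⟨b, hb, rfl⟩
    exact mul_mem (mul_mem h hb) h
  · intro hx
    exact ⟨s⁻¹ * x * s⁻¹, mul_mem (mul_mem (inv_mem h) hx) (inv_mem h), by group⟩

theorem CharBN.congr {p : ℕ} {Q Q' : Type*} [Group Q] [Group Q'] (e : Q ≃* Q') (h : CharBN p Q) : CharBN p Q' := by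
  obtain ⟨P, U, h1, h2, h3, h4, h5⟩ := h
  refine ⟨quo P e.toMonoidHom e.surjective, U.map e.toMonoidHom, ?_, h2.map _, map_mono h3, ?_,
    quo_split P e.toMonoidHom e.surjective h5⟩
  · obtain ⟨s, hs⟩ := h1
    refine ⟨e s, s, ⟨hs, ?_⟩, rfl⟩
    rintro ⟨b, hb, hbs⟩
    have h6 : b = s := e.injective hbs
    exact notMem_B P hs (h6 ▸ hb)
  · rintro _ ⟨b, hb, rfl⟩ _ ⟨u, hu, rfl⟩
    exact ⟨b * u * b⁻¹, h4 b hb u hu, by rw [map_mul, map_mul, map_inv]⟩

/-- central quotients of isomorphic groups -/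
theorem exists_quoEquiv {A A' : Type*} [Group A] [Group A'] (e : A ≃* A') :
    Nonempty (A ⧸ center A ≃* A' ⧸ center A') :=
  ⟨QuotientGroup.congr (center A) (center A') e (by
    ext y
    constructor
    · rintro ⟨z, hz, rfl⟩
      rw [mem_center_iff]
      intro g
      obtain ⟨a, rfl⟩ := e.surjective g
      have h1 := mem_center_iff.1 hz a
      change e a * e z = e z * e a
      rw [← map_mul, h1, map_mul]
    · intro hy
      refine ⟨e.symm y, ?_, e.apply_symm_apply y⟩
      rw [SetLike.mem_coe, mem_center_iff]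
      intro g
      apply e.injective
      rw [map_mul, map_mul, e.apply_symm_apply]
      exact mem_center_iff.1 hy (e g))⟩

theorem Inn.map {p : ℕ} {H H' : Type*} [Group H] [Group H'] (e : H ≃* H') {A : Subgroup H} (h : Inn p A) :
    Inn p (A.map e.toMonoidHom) := by
  rintro u ⟨n, hn⟩
  have h1 : (e.symm u) ^ p ^ n = 1 := by rw [← map_pow, hn, map_one]
  have h2 := h (e.symm u) ⟨n, h1⟩
  have h3 : u ∈ (A ⊔ centralizer (A : Set H)).map e.toMonoidHom := ⟨e.symm u, h2, e.apply_symm_apply u⟩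
  rw [Subgroup.map_sup] at h3
  suffices h5 : (centralizer (A : Set H)).map e.toMonoidHom ≤ centralizer ((A.map e.toMonoidHom : Subgroup H') : Set H') from
    (sup_le le_sup_left (h5.trans le_sup_right)) h3
  rintro _ ⟨c, hc, rfl⟩
  rw [mem_centralizer_iff]
  rintro _ ⟨a, ha, rfl⟩
  have h4 := mem_centralizer_iff.1 hc a ha
  change e a * e c = e c * e a
  rw [← map_mul, h4, map_mul]

theorem OddRow.congr {p : ℕ} {K K' : Type*} [Group K] [Group K'] (e : K ≃* K') (h : OddRow p K) : OddRow p K' := by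
  intro x hx A hA hin
  obtain ⟨y, hy⟩ : ∃ y : MulAut K, y = (MulAut.congr e).symm x := ⟨_, rfl⟩
  have hxy : MulAut.congr e y = x := by rw [hy, MulEquiv.apply_symm_apply]
  subst hxy
  have h2 : y ^ 2 = 1 := by
    rw [← map_pow] at hx
    exact (MulAut.congr e).injective (by rw [hx, map_one])
  have f := CpAut.fixEquiv e y
  have h4 := h y h2 (A.map f.symm.toMonoidHom) (isComponent_map_equiv f.symm hA) (hin.map f.symm)
  obtain ⟨k⟩ := exists_quoEquiv (A.equivMapOfInjective f.symm.toMonoidHom f.symm.injective)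
  exact CharBN.congr k.symm h4

/-- **the groups with a good split (B,N)-pair** -/
theorem oddRow_of_good {K : Type*} [Group K] [Finite K] {p : ℕ} [hp : Fact p.Prime] (hp2 : p ≠ 2)
    (h : HasGoodSplit p K) : OddRow p K := by
  intro x hx A hA hin
  have hbn := exists_bn (r := 2) (fun e => hp2 e.symm) h.hasSplit x hx
  obtain ⟨P, U, -, hg⟩ := h
  have hxx : ∀ g, x (x g) = g := fun g => by
    have := congrArg (fun y : MulAut K => y g) hx
    simpa [pow_two] using this
  refine comp_bn hbn hA.2 ?_ fun b u hu => ?_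
  · -- THEOREM OUT
    have hperf : ⁅A, A⁆ = A := by
      have := hA.2.1
      exact Subgroup.commutator_eq_self (H := A)
    have hLp : ⁅A.map (fixedSubgroup x).subtype, A.map (fixedSubgroup x).subtype⁆ = A.map (fixedSubgroup x).subtype := by
      rw [← Subgroup.map_commutator, hperf]
    have h1 := GoodSplit.out hp2 hg (x : K ≃* K) hxx (L := A.map (fixedSubgroup x).subtype) (map_subtype_le A) hLp
    have h2 : Lib.PComponents.pElem p (Reduce.fixSub (x : K ≃* K)) ≤ (Hp p ↥(fixedSubgroup x)).map (fixedSubgroup x).subtype := by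
      unfold Lib.PComponents.pElem
      rw [closure_le]
      rintro y ⟨hy, n, hn⟩
      exact ⟨⟨y, hy⟩, mem_Hp (n := n) (Subtype.ext hn), rfl⟩
    intro a ha
    obtain ⟨b, hb, hba⟩ := h2 (h1 ⟨a, ha, rfl⟩)
    have h3 : b = a := Subtype.ext hba
    rwa [← h3]
  · obtain ⟨n, hn⟩ := b.isPGroup' ⟨u, hu⟩
    exact hin u ⟨n, congrArg Subtype.val hn⟩

theorem oddRow_of_model {G : Type*} [Group G] {p : ℕ} (hp2 : p ≠ 2) (h : GoodModel p G) : OddRow p G := by
  obtain ⟨K, _, _, _, _, h, ⟨e⟩⟩ := h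
  exact (oddRow_of_good hp2 h).congr e.symm

/-- **the theorem**, without the small Ree groups -/
theorem odd_row {G : Type*} [Group G] [IsSimpleGroup G] {p : ℕ} (hp2 : p ≠ 2) (hG : IsLieTypeChar p G)
    (hR : ¬ Lie.IsoRee G) : OddRow p G := by
  rcases exists_good_model hp2 hG with h | h
  · exact oddRow_of_model hp2 h
  · exact absurd h hR

end Cfsg.Agent.H283.OddComp
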