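import Cfsg.Agent.CTwoTab.Classes
import Cfsg.Agent.CTwoTab.Good
/-!
# Four-groups of inner automorphisms centralizing a component (S3092) (helper283)

`NoIn X` : let `t` be an involution of `X`, `K` a component of `C(t)` which is a component of `C(z)` for every involution
`z` of `C(K)`; then `t` is the only involution of `C(t)` which centralizes `K`.

* `NoIn.mk_of_classes`, `NoIn.of_equiv`
* `At.of_hom` (`C(t) / ⟨t⟩` simple), `At.of_top` (`C(t)` quasisimple), `Own.noIn` (`t` is the only involution of `Z(K)`).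
-/

set_option autoImplicit false

namespace Cfsg.Agent.H283.NoIn

open Cfsg Subgroup Cfsg.Agent.CTwoTab Cfsg.Agent.SignalizersComponents.Components

universe u v

section defs

variable {X : Type u} [Group X]

/-- `K` is a component of the centralizer of every involution which centralizes `K` -/
def AllC (K : Subgroup X) : Prop :=
  ∀ z : X, orderOf z = 2 → (∀ k ∈ K, z * k = k * z) → IsComponentOf K (centralizer ({z} : Set X))

/-- `t` is the only involution of `C(t)` centralizing a component -/
def At (t : X) : Prop := ∀ K : Subgroup X, IsComponentOf K (centralizer ({t} : Set X)) → AllC K →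
  ∀ s : X, s * s = 1 → s * t = t * s → (∀ k ∈ K, s * k = k * s) → s = 1 ∨ s = t

variable (X) in
/-- the property for all the involutions -/
def NoIn : Prop := ∀ t : X, orderOf t = 2 → At t

/-- `t` is the only involution of the center of a component of `C(t)` -/
def OwnAt (t : X) : Prop := ∀ K : Subgroup X, IsComponentOf K (centralizer ({t} : Set X)) → t ∈ K ∧
  ∀ a ∈ K, (∀ k ∈ K, a * k = k * a) → a * a = 1 → a = 1 ∨ a = t

variable (X) in
/-- the property for all the involutions -/
def Own : Prop := ∀ t : X, orderOf t = 2 → OwnAt t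

theorem Own.noIn (h : Own X) : NoIn X := by
  intro t ht K hK hall s hs hst hsK
  by_cases hs1 : s = 1
  · exact Or.inl hs1
  have hs2 : orderOf s = 2 := orderOf_eq_prime (by rw [pow_two]; exact hs) hs1
  exact (h t ht K hK).2 s (h s hs2 K (hall s hs2 hsK)).1 hsK hs

end defs

section transport

variable {X : Type u} {Y : Type v} [Group X] [Group Y]

theorem AllC.map (e : X ≃* Y) {K : Subgroup X} (h : AllC K) : AllC (K.map e.toMonoidHom) := by
  intro z hz hK
  have h1 := isComponentOf_map e (h (e.symm z) (by rw [MulEquiv.orderOf_eq, hz]) (fun k hk => by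
    apply e.injective
    rw [map_mul, map_mul, e.apply_symm_apply]
    exact hK _ ⟨k, hk, rfl⟩))
  rwa [map_centralizer_singleton, e.apply_symm_apply] at h1

theorem At.of_equiv (e : X ≃* Y) {t : X} (h : At t) : At (e t) := by
  intro K hK hall s hs hst hsK
  have h1 := isComponentOf_map e.symm hK
  rw [map_centralizer_singleton, e.symm_apply_apply] at h1
  have h2 := h _ h1 (hall.map e.symm) (e.symm s) (by rw [← map_mul, hs, map_one]) (by
    apply e.injective
    rw [map_mul, map_mul, e.apply_symm_apply, hst]) (by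
    rintro _ ⟨k, hk, rfl⟩
    change e.symm s * e.symm k = e.symm k * e.symm s
    rw [← map_mul, ← map_mul, hsK k hk])
  rcases h2 with h2 | h2
  · left
    rwa [EmbeddingLike.map_eq_one_iff] at h2
  · right
    rw [← h2, e.apply_symm_apply]

theorem At.conj {t : X} (h : At t) (g : X) : At (g * t * g⁻¹) := h.of_equiv (MulAut.conj g)

theorem NoIn.of_equiv (e : X ≃* Y) (h : NoIn X) : NoIn Y := by
  intro t ht
  have h1 := (h (e.symm t) (by rw [MulEquiv.orderOf_eq, ht])).of_equiv e
  rwa [e.apply_symm_apply] at h1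

theorem OwnAt.of_equiv (e : X ≃* Y) {t : X} (h : OwnAt t) : OwnAt (e t) := by
  intro K hK
  have h1 := isComponentOf_map e.symm hK
  rw [map_centralizer_singleton, e.symm_apply_apply] at h1
  obtain ⟨h2, h3⟩ := h _ h1
  constructor
  · obtain ⟨k, hk, hk2⟩ := h2
    have h4 : k = e t := by
      rw [← hk2]
      exact (e.apply_symm_apply k).symm
    rwa [← h4]
  · intro a ha hac haa
    rcases h3 (e.symm a) ⟨a, ha, rfl⟩ (by
      rintro _ ⟨k, hk, rfl⟩
      change e.symm a * e.symm k = e.symm k * e.symm a
      rw [← map_mul, ← map_mul, hac k hk]) (by rw [← map_mul, haa, map_one]) with h4 | h4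
    · left
      rwa [EmbeddingLike.map_eq_one_iff] at h4
    · right
      rw [← h4, e.apply_symm_apply]

theorem OwnAt.conj {t : X} (h : OwnAt t) (g : X) : OwnAt (g * t * g⁻¹) := h.of_equiv (MulAut.conj g)

theorem NoIn.mk_of_classes (P : X → Prop) (h : ∀ t : X, orderOf t = 2 → ∃ g s : X, P s ∧ t = g * s * g⁻¹)
    (hP : ∀ s : X, P s → At s) : NoIn X := by
  intro t ht
  obtain ⟨g, s, hs, rfl⟩ := h t ht
  exact (hP s hs).conj g

theorem Own.mk_of_classes (P : X → Prop) (h : ∀ t : X, orderOf t = 2 → ∃ g s : X, P s ∧ t = g * s * g⁻¹)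
    (hP : ∀ s : X, P s → OwnAt s) : Own X := by
  intro t ht
  obtain ⟨g, s, hs, rfl⟩ := h t ht
  exact (hP s hs).conj g

end transport

section crit

variable {X : Type u} [Group X]

theorem At.of_none {t : X} (h : ∀ K : Subgroup X, ¬ IsComponentOf K (centralizer ({t} : Set X))) : At t :=
  fun K hK => absurd hK (h K)

theorem OwnAt.of_none {t : X} (h : ∀ K : Subgroup X, ¬ IsComponentOf K (centralizer ({t} : Set X))) : OwnAt t :=
  fun K hK => absurd hK (h K)

/-- a subnormal subgroup of a simple group -/
theorem subnormal_simple {U : Type v} [Group U] [IsSimpleGroup U] {H : Subgroup U} (hH : H.IsSubnormal) :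
    H = ⊥ ∨ H = ⊤ := by
  induction hH with
  | top => exact Or.inr rfl
  | step H L h_le hSubn hN ih =>
    rcases ih with rfl | rfl
    · exact Or.inl (le_bot_iff.1 h_le)
    · rw [normal_subgroupOf_iff_le_normalizer h_le, top_le_iff, normalizer_eq_top_iff] at hN
      exact hN.eq_bot_or_eq_top

/-- **`C(t) / ⟨t⟩` is simple** -/
theorem At.of_hom {U : Type v} [Group U] [IsSimpleGroup U] (hna : ¬ IsMulCommutative U) {t : X}
    {f : ↥(centralizer ({t} : Set X)) →* U} (hf : Function.Surjective f) (hk : ∀ x, f x = 1 → (x : X) = 1 ∨ (x : X) = t) :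
    At t := by
  intro K hK _ s hs hst hsK
  have hcU := center_eq_bot_of_simple hna
  have h1 : (K.subgroupOf (centralizer ({t} : Set X))).map f = ⊤ := by
    rcases subnormal_simple (hK.2.1.map hf) with h | h
    · exfalso
      apply quasisimple_not_isMulCommutative hK.2.2
      refine ⟨⟨fun a b => ?_⟩⟩
      have h2 : f a.1 = 1 := by
        rw [← mem_bot, ← h]
        exact mem_map_of_mem f a.2
      apply Subtype.ext
      apply Subtype.ext
      change (a.1 : X) * (b.1 : X) = (b.1 : X) * (a.1 : X)
      rcases hk _ h2 with h3 | h3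
      · rw [h3, one_mul, mul_one]
      · rw [h3]
        exact (mem_centralizer_singleton_iff.1 b.1.2).symm
    · exact h
  let S : ↥(centralizer ({t} : Set X)) := ⟨s, mem_centralizer_singleton_iff.2 hst⟩
  have h2 : f S ∈ center U := by
    rw [mem_center_iff]
    intro u
    have hu : u ∈ (K.subgroupOf (centralizer ({t} : Set X))).map f := by rw [h1]; exact mem_top u
    obtain ⟨k, hk, rfl⟩ := hu
    rw [← map_mul, ← map_mul]
    congr 1
    exact Subtype.ext (hsK k (mem_subgroupOf.1 hk)).symm
  rw [hcU, mem_bot] at h2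
  exact hk S h2

/-- a central subgroup of order at most 2 -/
theorem of_center {K : Subgroup X} (hc : Nat.card ↥(center ↥K) = 2) {t a : X} (ht : t ∈ K) (ht1 : t ≠ 1)
    (htK : ∀ k ∈ K, t * k = k * t) (ha : a ∈ K) (haK : ∀ k ∈ K, a * k = k * a) : a = 1 ∨ a = t := by
  by_contra h
  push Not at h
  have hfin : Finite ↥(center ↥K) := Nat.finite_of_card_ne_zero (by rw [hc]; norm_num)
  have hm : ∀ b (hb : b ∈ K), (∀ k ∈ K, b * k = k * b) → (⟨b, hb⟩ : ↥K) ∈ center ↥K := by
    intro b hb hbK
    rw [mem_center_iff]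
    intro k
    exact Subtype.ext (hbK k k.2).symm
  obtain ⟨y, -, hy⟩ := (Nat.card_eq_two_iff' (1 : ↥(center ↥K))).1 hc
  have e1 := hy ⟨⟨t, ht⟩, hm t ht htK⟩ (fun h1 => ht1 (congrArg (fun z : ↥(center ↥K) => (z.1.1 : X)) h1))
  have e2 := hy ⟨⟨a, ha⟩, hm a ha haK⟩ (fun h1 => h.1 (congrArg (fun z : ↥(center ↥K) => (z.1.1 : X)) h1))
  exact h.2 (congrArg (fun z : ↥(center ↥K) => (z.1.1 : X)) (e2.trans e1.symm))

/-- the components equal `C(t)`, with center of order 2 -/
theorem At.of_eq {t : X} (ht : t ≠ 1) (h : ∀ K : Subgroup X, IsComponentOf K (centralizer ({t} : Set X)) →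
    K = centralizer ({t} : Set X)) (hc : Nat.card ↥(center ↥(centralizer ({t} : Set X))) = 2) : At t := by
  intro K hK _ s hs hst hsK
  have h1 := h K hK
  subst h1
  exact of_center hc (mem_centralizer_singleton_iff.2 rfl) ht
    (fun k hk => (mem_centralizer_singleton_iff.1 hk).symm) (mem_centralizer_singleton_iff.2 hst) hsK

/-- **`C(t)` is quasisimple** -/
theorem At.of_top [Finite X] {t : X} (ht : t ≠ 1) (hq : IsQuasisimple ↥(centralizer ({t} : Set X)))
    (hc : Nat.card ↥(center ↥(centralizer ({t} : Set X))) = 2) : At t :=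
  At.of_eq ht (fun _ hK => comp_eq_of_le hq le_rfl hK hK.1) hc

/-- the only component contains `t`, center of order 2 -/
theorem OwnAt.of_eq {t : X} (ht : t ≠ 1) {N : Subgroup X} (h : ∀ K : Subgroup X,
    IsComponentOf K (centralizer ({t} : Set X)) → K = N) (htN : t ∈ N) (hN : N ≤ centralizer ({t} : Set X))
    (hc : Nat.card ↥(center ↥N) = 2) : OwnAt t := by
  intro K hK
  have h1 := h K hK
  subst h1
  refine ⟨htN, fun a ha haK _ => ?_⟩
  exact of_center hc htN ht (fun k hk => (mem_centralizer_singleton_iff.1 (hN hk)).symm) ha haK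

/-- the order of the center from the orders -/
theorem card_center_of {K : Type v} [Group K] {n m c : ℕ} (hn : Nat.card K = n) (hm : Nat.card (K ⧸ center K) = m)
    (h : n = m * c) (hm0 : 0 < m) : Nat.card ↥(center K) = c := by
  have h1 := card_eq_card_quotient_mul_card_subgroup (center K)
  rw [hn, hm, h] at h1
  exact (Nat.eq_of_mul_eq_mul_left hm0 h1).symm

end crit

end Cfsg.Agent.H283.NoIn
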