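import Cfsg.Agent.H283.BRow
import Cfsg.Agent.H283.NoIn
/-!
# The Baby Monster: `NoIn` (S3092) (helper283)

`noIn` : for an involution `u` of `B` and a component `K` of `C(u)` which is a component of the centralizers of all the
involutions of `C(K)`, the only involution of `C(u)` centralizing `K` is `u`.

If `u` is a transposition then this follows from `Sec.Data.cen`. Otherwise there is a transposition `d` which centralizes
`K`; then `K` is a component of `C(d)`, which has order at least `|²E₆(2)|`, but `K` is isomorphic to a subgroup of the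
centralizer of an involutory automorphism of `²E₆(2)`.
-/

set_option autoImplicit false
set_option maxRecDepth 100000
set_option linter.unusedSectionVars false

namespace Cfsg.Agent.H283.BFour

open Subgroup Cfsg Cfsg.Agent.CTwoTab Cfsg.Agent.CpAut Cfsg.Agent.CpAut.TwoAbs Cfsg.Agent.SevenCases
open Cfsg.Agent.BabyComp Cfsg.Agent.BabyComp.NoSpec Cfsg.Agent.H283.NoIn

universe u v

/-- the property of the components -/
def Pf {X : Type u} [Group X] (u : X) (K : Subgroup X) : Prop :=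
  AllC K → ∀ s : X, s * s = 1 → s * u = u * s → (∀ k ∈ K, s * k = k * s) → s = 1 ∨ s = u

theorem Pf.conj {X : Type u} [Group X] (g u : X) (K : Subgroup X) (h : Pf u (K.map (MulAut.conj g⁻¹).toMonoidHom)) :
    Pf (g * u * g⁻¹) K := by
  intro hall s hs hsu hsK
  have h1 := h (hall.map (MulAut.conj g⁻¹)) (g⁻¹ * s * g) (by
    calc g⁻¹ * s * g * (g⁻¹ * s * g) = g⁻¹ * (s * s) * g := by group
      _ = 1 := by rw [hs]; group) (by
    calc g⁻¹ * s * g * u = g⁻¹ * (s * (g * u * g⁻¹)) * g := by group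
      _ = g⁻¹ * (g * u * g⁻¹ * s) * g := by rw [hsu]
      _ = u * (g⁻¹ * s * g) := by group) (by
    rintro _ ⟨k, hk, rfl⟩
    change g⁻¹ * s * g * (g⁻¹ * k * g⁻¹⁻¹) = g⁻¹ * k * g⁻¹⁻¹ * (g⁻¹ * s * g)
    calc g⁻¹ * s * g * (g⁻¹ * k * g⁻¹⁻¹) = g⁻¹ * (s * k) * g := by group
      _ = g⁻¹ * (k * s) * g := by rw [hsK k hk]
      _ = _ := by group)
  rcases h1 with h1 | h1
  · left
    calc s = g * (g⁻¹ * s * g) * g⁻¹ := by group
      _ = 1 := by rw [h1]; group
  · right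
    calc s = g * (g⁻¹ * s * g) * g⁻¹ := by group
      _ = _ := by rw [h1]

section main

variable {X : Type u} [Group X] [Finite X] {E : Type v} [Group E] [Finite E]

/-- the transpositions -/
theorem case_one [IsSimpleGroup E] {t : X} {X₀ : Subgroup X} {σ : ↥X₀ →* E} (H : Sec.Data t σ) {K : Subgroup X}
    (hK : IsComponentOf K (centralizer ({t} : Set X))) : Pf t K := by
  intro _ s hs hst hsK
  have hperf := isPerfect_of_comp hK
  have hKX : K ≤ X₀ := H.perf K hK.1 hperf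
  obtain ⟨f, hf, hk, -⟩ := TwoA.exists_hom H hK
  have hcard : ∀ m ∈ X₀, ∃ k ∈ K, m = k ∨ m = k * t := by
    intro m hm
    -- `σ(K) = E`
    have hXC : X₀ ≤ centralizer ({t} : Set X) := fun m hm => mem_centralizer_singleton_iff.2 (H.comm m hm)
    have hK' := Abs.comp_mono hK hKX hXC
    have h1 : (K.subgroupOf X₀).map σ = ⊤ := by
      rcases Cfsg.Agent.SignalizersComponents.ComponentImage.map_eq_bot_or_isComponent H.surj hK'.2 with h | h
      · exfalso
        obtain ⟨e, he⟩ := exists_ne (1 : E)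
        obtain ⟨k, rfl⟩ := hf e
        apply he
        rw [hk]
        have h2 : σ ⟨k, hKX k.2⟩ ∈ (K.subgroupOf X₀).map σ := ⟨⟨k, hKX k.2⟩, k.2, rfl⟩
        rw [h, mem_bot] at h2
        exact (H.ker _).1 h2
      · rcases h.1.eq_bot_or_top_of_isSimpleGroup inferInstance with h2 | h2
        · exact absurd h2 (Cfsg.Agent.SignalizersComponents.Components.component_ne_bot h)
        · exact h2
    have h2 : σ ⟨m, hm⟩ ∈ (K.subgroupOf X₀).map σ := by rw [h1]; exact mem_top _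
    obtain ⟨k, hkK, hkm⟩ := h2
    exact ⟨k, mem_subgroupOf.1 hkK, H.map_eq.1 hkm.symm⟩
  refine H.cen s hst fun m hm => Or.inl ?_
  obtain ⟨k, hk, rfl | rfl⟩ := hcard m hm
  · rw [hsK _ hk, mul_inv_cancel_right]
  · calc s * (k * t) * s⁻¹ = (s * k) * t * s⁻¹ := by group
      _ = k * (s * t) * s⁻¹ := by rw [hsK k hk]; group
      _ = k * t := by rw [hst]; group

theorem case_two
    (hE : ∀ v : E, orderOf v = 2 → IsOfCharacteristicTwo ↥(centralizer ({v} : Set E))) [IsSimpleGroup E]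
    {T : Set X} (HT : Pair.Trans T)
    (hsec : ∀ d ∈ T, ∃ (X₀ : Subgroup X) (σ : ↥X₀ →* E), Sec.Data d σ)
    {u d : X} (hu : u * u = 1) (hu1 : u ≠ 1) (hd : d ∈ T) (hc : u * d = d * u) (hud : u * d ∈ T)
    (hb : centralizerPPrimeCore 2 u = ⊥) {K : Subgroup X}
    (hK : IsComponentOf K (centralizer ({u} : Set X))) : Pf u K := by
  intro hall
  exfalso
  obtain ⟨X₀, σ, H, x, L, hx2, hx, hs, hna, hLn, hCL, hct, ⟨e⟩⟩ :=
    CaseTwo.main hE HT hsec hu hu1 hd hc hud hb hK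
  have hKd := Pair.comm_of_pair HT hu hu1 hd hc hud hK
  have hd2 : orderOf d = 2 := orderOf_eq_prime (by rw [pow_two]; exact HT.sq d hd) (HT.ne d hd)
  have hKd' := hall d hd2 (fun k hk => (hKd k hk).symm)
  obtain ⟨f, hf, -, -⟩ := TwoA.exists_hom H hKd'
  have h1 : Nat.card E ≤ Nat.card ↥K := Nat.card_le_card_of_surjective f hf
  have h2 : Nat.card ↥K ≤ Nat.card ↥(fixedSubgroup x) := by
    rw [Nat.card_congr e.toEquiv]
    exact Nat.card_le_card_of_injective _ L.subtype_injective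
  have h3 : fixedSubgroup x = ⊤ := by
    rw [← card_eq_iff_eq_top]
    exact le_antisymm (Nat.card_le_card_of_injective _ (fixedSubgroup x).subtype_injective) (h1.trans h2)
  have h4 : x = 1 := by
    ext y
    have h5 : y ∈ fixedSubgroup x := by rw [h3]; exact mem_top y
    exact h5
  rw [h4, orderOf_one] at hx2
  omega

end main

end Cfsg.Agent.H283.BFour

namespace Cfsg.Agent.H283.BFour

open Subgroup Cfsg Cfsg.Lie Cfsg.Agent.Bimonster Cfsg.Agent.BabyU Cfsg.Agent.TwoESix.Cover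
open Cfsg.Agent.MonsterX.KSide Cfsg.Agent.MonsterX.KLift Cfsg.Agent.MonsterX.KModel
open Cfsg.Agent.MonsterX.Model Cfsg.Agent.MonsterX.MainPack Cfsg.Agent.MonsterX.MainSimple
open Cfsg.Agent.MonsterX.MainBasic Cfsg.Agent.MonsterU.Assembly Cfsg.Agent.MonsterN Cfsg.Agent.MonsterN.Lit
open Cfsg.Agent.MonsterN.LitInst Cfsg.Agent.MonsterU.Lam2 Cfsg.Agent.MonsterU.TwoCls
open Cfsg.Agent.BabyComp Cfsg.Agent.BabyComp.Par Cfsg.Agent.H283.NoIn

variable {V P W : Type} [AddCommGroup V] [Module ℚ V] [Group P] [AddCommGroup W] [Module ℚ W]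
  {D : MData V} {M : KS ↥D.G V P W} {x₀ : P} {θ : leechLattice → P} {K₀ : Type} [Group K₀]

/-- **The involutions of the Baby Monster.** -/
theorem pack_of (A : All D K₀) (H : Link D M x₀) (L : Lift M θ) {τ : D.G} {y' : P}
    (T : Cfsg.Agent.MonsterU.InvTwo.TauHyp M θ ⊤ τ y') {y : ℕ → D.G} (hP : PRel y) (hne : y 0 ≠ y 1)
    (hy : ∃ g : D.G, g * tG A.hG A.hR * g⁻¹ = y 10)
    (bal : ∀ u : Spor.BabyMonster, orderOf u = 2 → centralizerPPrimeCore 2 u = ⊥) :
    ∀ u : Spor.BabyMonster, orderOf u = 2 → ∀ K : Subgroup Spor.BabyMonster,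
      IsComponentOf K (centralizer ({u} : Set Spor.BabyMonster)) → Pf u K := by
  have hfin : Finite D.G := G_finite A.hO
  have hB : Cfsg.IsB Cfsg.Spor.BabyMonster := Cfsg.Agent.S1704.result
  obtain ⟨⟨h1, h2, h3⟩, h43⟩ := ModelB.fieldsKS A H L hP hne hy hB H.x₀_mem
  obtain ⟨f₁, f₂, f₃, f₄, Fc, hcz, hcd, p, hp, hp2, hp2'⟩ := FusInst.exists_facts A H L T H.x₀_mem
  have hzm : M.z ∈ BB M x₀ := mem_centralizer_singleton_iff.2 (by
    show M.ι M.zc * M.ι x₀ = M.ι x₀ * M.ι M.zc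
    rw [← map_mul, ← map_mul, M.zc_comm])
  have hE : Emb (BB M x₀).subtype M.z (tb M x₀) f₁ f₂ f₃ :=
    ⟨Subtype.val_injective, nineteen H A, ((BB M x₀).subtype.map_isConj (hcz hzm)).symm, hcd⟩
  -- the group `²E₆(2)`
  let K := GaloisField 2 2
  let _i : Fintype K := Fintype.ofFinite K
  have hK : Fintype.card K = 4 := by
    rw [← Nat.card_eq_fintype_card]
    exact GaloisField.card 2 2 (by norm_num)
  have hF : Fintype.card K = 2 ^ 2 := by rw [hK]; norm_num
  have hsE := EInst.isSimple K hK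
  obtain ⟨e0, r, he0, hgen, hr, -, hconj⟩ := TwoESix.GoodInst.exists_good K hK
  have hR : ∀ i, e0 i ∈ rootClass K := fun i => by
    obtain ⟨g, hg⟩ := hconj i
    exact ⟨g, r, hr, hg⟩
  have hHB : Finite HB := Cfsg.Agent.BM.HBFinal.finite_HB
  have hcard := Cfsg.Agent.BM.HBFinal.hcard K hK
  have big_a : KEq.Big (BB M x₀) (tb M x₀) f₁ := by
    have hm : M.ι p ∈ BB M x₀ := by rw [← hp]; exact f₁.2
    have e : f₁ = ⟨M.ι p, hm⟩ := Subtype.ext hp
    rw [e]
    exact BigAConf.big_a L T H.x₀_mem h43 hp2 hp2'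
  obtain ⟨q, yB, hpre, π, hq, h10, DK, hc5, hq5⟩ :=
    NodesB.nodes he0 hgen hcard (Cfsg.Agent.BM.HBFinal.card_E K hK) hR h1 h2 h3 Fc hE
  obtain ⟨M₁, Bs⟩ := BaseB.exists_base hq5
  have hfX : Finite Spor.BabyMonster := Finite.of_surjective q hq.surj
  have big : KEq.Big (BB M x₀) (tb M x₀) (yB 5) := big_a.conj (fun x => (Fc.cen x).symm) hc5
  have hz : M.z = zG A.hG := Subtype.ext H.z_eq.symm
  have hL : Cfsg.Agent.Co2Type.Quad.Large (D.Q.subgroupOf D.G) M.z := by
    rw [hz]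
    exact Cfsg.Agent.MonsterU.ModelChart.large A.hG A.hR A.hL A.hO A.hT
  have hr : ∀ x : D.G, x * (BB M x₀).subtype (tb M x₀) = (BB M x₀).subtype (tb M x₀) * x →
      ∃ b, (BB M x₀).subtype b = x := fun x hx => ⟨⟨x, mem_centralizer_singleton_iff.2 hx⟩, rfl⟩
  obtain ⟨σ, hσ⟩ := Main.exists_sigma hq h10 DK
  have HD := Main.data hq h10 DK big hσ
  intro u hu K' hK'
  refine BRow.comp_all' (E := twistedE6 K 2) (hF := hF) hq h10 DK Fc hE.inj hr hE.conj_z hE.conj_d hL hc5 big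
      (Cfsg.Agent.TwoESix.LeviG.rootFacts hK hF) (KeyInst.extra hF) (Cfsg.Agent.TwoESix.RootsInst.roots K hF)
      Bs (Pr := Pf) Pf.conj ?_ ?_ u hu K' hK'
  · intro K₁ hK₁
    exact case_one HD hK₁
  · intro u d huu hu1 hd hc hud K₁ hK₁
    have hu2 : orderOf u = 2 := orderOf_eq_prime (by rw [pow_two, huu]) hu1
    refine case_two (EFacts.charTwo K hK) (Bs.trans HD.t_sq HD.t_ne) ?_ huu hu1 hd hc hud (bal u hu2) hK₁
    intro d hd
    obtain ⟨g, rfl⟩ := isConj_iff.1 hd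
    have h1 := HD.comap (MulAut.conj g⁻¹)
    have h2 : (MulAut.conj g⁻¹).symm (q (yB 5)) = g * q (yB 5) * g⁻¹ := by
      rw [MulEquiv.symm_apply_eq, MulAut.conj_apply]
      group
    rw [h2] at h1
    exact ⟨_, _, h1⟩

end Cfsg.Agent.H283.BFour

namespace Cfsg.Agent.H283.BFour

open Subgroup
open Cfsg Cfsg.Agent.MonsterX Cfsg.Agent.MonsterX.Space Cfsg.Agent.MonsterX.Conc Cfsg.Agent.MonsterX.Model
open Cfsg.Agent.MonsterX.InstData Cfsg.Agent.MonsterX.MainPack Cfsg.Agent.MonsterU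
open Cfsg.Agent.MonsterP Cfsg.Agent.MonsterP.NodeData Cfsg.Agent.MonsterP.NodesConj Cfsg.Agent.CTwoTab.BInst
open Cfsg.Agent.H283.NoIn

/-- **`NoIn` for the presented Baby Monster.** -/
theorem noIn_model : NoIn Spor.BabyMonster :=
  pack_of all KDone.lnk KDone.lft
    (TauInst.tauHyp (Final.cent InstanceFinal.mOrbit Instance.mTrans)) (NodesGrp.prel H) (NodesNe.ne H)
    conj_ten CTwoTab.B.bal

/-- **`B`** -/
theorem noIn {X : Type*} [Group X] (h : Spor.IsoB X) : NoIn X := by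
  obtain ⟨e⟩ := h
  exact NoIn.of_equiv e.symm noIn_model

end Cfsg.Agent.H283.BFour
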