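import Cfsg.Agent.CTwoTab.B
import Cfsg.Agent.BabyComp.Par
import Cfsg.Agent.H287.FixCard
/-!
# The Baby Monster: the components of the centralizers of the involutions (helper283)

`pack` : for an involution `u` of a group `X ≅ B` and a component `K` of `C_X(u)`: either `|K / Z(K)| = |²E₆(2)|`, or
`K` is simple, with the centralizers of its involutions of characteristic 2, `|K|` divides `|²E₆(2)|`,
`|Aut(K)| > 5 · 10¹²`, and there is an involution `d ≠ u` commuting with `u` and centralizing `K`.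
-/

set_option autoImplicit false
set_option maxRecDepth 100000
set_option linter.unusedSectionVars false

namespace Cfsg.Agent.H283.BRow

open Subgroup Cfsg Cfsg.Agent.CTwoTab Cfsg.Agent.CpAut Cfsg.Agent.CpAut.TwoAbs Cfsg.Agent.SevenCases
open Cfsg.Agent.BabyComp Cfsg.Agent.BabyComp.NoSpec

universe u v

section all

open Cfsg.Agent.R01.Lifts Cfsg.Agent.MonsterN Cfsg.Agent.MonsterN.Lit Cfsg.Agent.BabyComp.Main

variable {B : Type*} {X : Type u} {E : Type v} [Group B] [Group X] [Group E] [Finite B] [Finite X] [Finite E]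
  {q : B →* X} {τ : B} {R : Set E}
variable {y : ℕ → B} {h : Pre y} {π : KK y →* E} {f₁ f₂ f₃ f₄ : B}

/-- `NoSpec.comp_all` with a property of `(u, K)`. -/
theorem comp_all' [IsSimpleGroup E] {Γ : Type*} [Group Γ] [Finite Γ] (hq : Ext q τ) (h10 : y 10 = τ) (D : KD h R π)
    (Fc : FusionType.Facts τ f₁ f₂ f₃ f₄) {θ : B →* Γ} {z : Γ}
    (hθ : Function.Injective θ) (hr : ∀ x : Γ, x * θ τ = θ τ * x → ∃ b, θ b = x)
    (hcz : IsConj z (θ (τ * (f₁ * f₂)))) (hcd : IsConj z (θ (f₁ * f₂ * f₃)))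
    {Q : Subgroup Γ} (hL : Cfsg.Agent.Co2Type.Quad.Large Q z)
    (hc5 : IsConj f₁ (y 5))
    {F : Type*} [Field F] [Fintype F] {hF : Fintype.card F = 2 ^ 2}
    (big : KEq.Big B τ (y 5))
    (hR : Cfsg.Agent.BabyU.RootCfg.RootFacts hF R) (hX : Cfsg.Agent.BabyU.Key.Extra hF R)
    (Rt : Cfsg.Agent.BabyU.Lab.Roots E R) {M₁ : Subgroup X} (Bs : Base (q (y 5)) M₁)
    {Pr : X → Subgroup X → Prop}
    (hPr : ∀ (g u : X) (K : Subgroup X), Pr u (K.map (MulAut.conj g⁻¹).toMonoidHom) → Pr (g * u * g⁻¹) K)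
    (hA : ∀ K : Subgroup X, IsComponentOf K (centralizer ({q (y 5)} : Set X)) → Pr (q (y 5)) K)
    (hB : ∀ u d : X, u * u = 1 → u ≠ 1 → IsConj (q (y 5)) d → u * d = d * u → IsConj (q (y 5)) (u * d) →
      ∀ K : Subgroup X, IsComponentOf K (centralizer ({u} : Set X)) → Pr u K)
    (u : X) (hu : orderOf u = 2) (K : Subgroup X) (hK : IsComponentOf K (centralizer ({u} : Set X))) : Pr u K := by
  have huu : u * u = 1 := by rw [← pow_two, ← hu, pow_orderOf_eq_one]
  have hu1 : u ≠ 1 := by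
    rintro rfl
    rw [orderOf_one] at hu
    omega
  -- conjugation
  have hconj : ∀ g v : X, (∀ K : Subgroup X, IsComponentOf K (centralizer ({v} : Set X)) → Pr v K) →
      ∀ K : Subgroup X, IsComponentOf K (centralizer ({g * v * g⁻¹} : Set X)) → Pr (g * v * g⁻¹) K := by
    intro g v hv K hK
    have h1 := isComponentOf_map (MulAut.conj g⁻¹) hK
    rw [map_centralizer_singleton] at h1
    have e : (MulAut.conj g⁻¹) (g * v * g⁻¹) = v := by
      rw [MulAut.conj_apply]; group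
    rw [e] at h1
    exact hPr _ _ _ (hv _ h1)
  rcases Bs.classes u huu hu1 with ⟨g, hg⟩ | ⟨d, hd, hc, hud⟩
  · -- case I
    obtain ⟨k, hk, hqk⟩ := M_le hq h10 big Bs _ hg
    have hgu : u = g * q k * g⁻¹ := by rw [hqk]; group
    rw [hgu] at hK ⊢
    refine hconj g (q k) ?_ K hK
    clear hK K
    intro K hK
    have hkk : k * k = 1 := by
      refine lift_sq hR hX Rt hq h10 D hk ?_
      rw [hqk]
      calc g⁻¹ * u * g * (g⁻¹ * u * g) = g⁻¹ * (u * u) * g := by group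
        _ = 1 := by rw [huu]; group
    have hqk1 : q k ≠ 1 := by
      intro e
      apply hu1
      rw [hgu, e]; group
    have hk1 : k ≠ 1 := fun e => hqk1 (by rw [e, map_one])
    have hkτ : k ≠ τ := fun e => hqk1 (by rw [e, hq.mapz])
    rcases Fc.classes k hkk hk1 hkτ with h1 | h1 | h1 | h1
    · obtain ⟨c, hc⟩ := isConj_iff.1 (q.map_isConj (hc5.symm.trans h1))
      rw [← hc] at hK ⊢
      exact hconj c _ hA K hK
    · refine absurd hK ?_
      refine no_comp_of_large hq hθ hr hL (v := k) (w := k * τ) (Or.inr rfl) ?_ K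
      refine hcz.trans (θ.map_isConj ?_)
      rw [hq.comm]
      exact FusionType.conj_mul_t Fc.cen h1
    · exact absurd hK (no_comp_of_large hq hθ hr hL (v := k) (w := k) (Or.inl rfl) (hcz.trans (θ.map_isConj h1)) K)
    · exact absurd hK (no_comp_of_large hq hθ hr hL (v := k) (w := k) (Or.inl rfl) (hcd.trans (θ.map_isConj h1)) K)
  · exact hB u d huu hu1 hd hc hud K hK

end all

/-- the property of the components -/
def Pb {X : Type u} [Group X] (u : X) (K : Subgroup X) : Prop :=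
  Nat.card (↥K ⧸ center ↥K) = 76532479683774853939200 ∨
    (IsSimpleGroup ↥K ∧ ¬ IsMulCommutative ↥K ∧
      (∀ v : ↥K, orderOf v = 2 → IsOfCharacteristicTwo ↥(centralizer ({v} : Set ↥K))) ∧
      Nat.card ↥K ∣ 76532479683774853939200 ∧ 5000000000000 < Nat.card (MulAut ↥K) ∧
      ∃ d : X, orderOf d = 2 ∧ d ≠ u ∧ u * d = d * u ∧ K ≤ centralizer ({d} : Set X))

theorem isSimple_of_equiv {A B : Type*} [Group A] [Group B] (e : A ≃* B) (h : IsSimpleGroup A) : IsSimpleGroup B :=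
  e.symm.isSimpleGroup

theorem not_comm_of_equiv {A B : Type*} [Group A] [Group B] (e : A ≃* B) (h : ¬ IsMulCommutative A) :
    ¬ IsMulCommutative B := by
  intro hc
  apply h
  refine ⟨⟨fun a b => e.injective ?_⟩⟩
  rw [map_mul, map_mul]
  exact hc.is_comm.comm _ _

theorem ct_of_equiv {A : Type u} {B : Type v} [Group A] [Finite A] [Group B] [Finite B] (e : A ≃* B)
    (h : ∀ v : A, orderOf v = 2 → IsOfCharacteristicTwo ↥(centralizer ({v} : Set A))) (v : B) (hv : orderOf v = 2) :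
    IsOfCharacteristicTwo ↥(centralizer ({v} : Set B)) := by
  have h1 := h (e.symm v) (by rw [MulEquiv.orderOf_eq, hv])
  have h2 := centEquiv e (e.symm v)
  rw [e.apply_symm_apply] at h2
  exact ct_congr h2 h1

theorem Pb.conj {X : Type u} [Group X] [Finite X] (g u : X) (K : Subgroup X) (h : Pb u (K.map (MulAut.conj g⁻¹).toMonoidHom)) :
    Pb (g * u * g⁻¹) K := by
  have e := (subMap (MulAut.conj g⁻¹) K).symm
  rcases h with h | ⟨h1, h2, h3, h4, h5, d, h6, h7, h8, h9⟩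
  · left
    rw [← h]
    exact (Nat.card_congr (quoEquiv (subMap (MulAut.conj g⁻¹) K)).toEquiv)
  · right
    refine ⟨isSimple_of_equiv e h1, not_comm_of_equiv e h2, ct_of_equiv e h3, ?_, ?_, g * d * g⁻¹, ?_, ?_, ?_, ?_⟩
    · rwa [← Nat.card_congr e.toEquiv]
    · rwa [← Nat.card_congr (MulAut.congr e).toEquiv]
    · rw [← h6]
      exact MulEquiv.orderOf_eq (MulAut.conj g) d
    · intro h
      exact h7 (mul_left_cancel (mul_right_cancel h))
    · calc g * u * g⁻¹ * (g * d * g⁻¹) = g * (u * d) * g⁻¹ := by group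
        _ = g * (d * u) * g⁻¹ := by rw [h8]
        _ = _ := by group
    · intro k hk
      have h10 := mem_centralizer_singleton_iff.1 (h9 (mem_map_of_mem (MulAut.conj g⁻¹).toMonoidHom hk))
      have h11 : g⁻¹ * k * g⁻¹⁻¹ * d = d * (g⁻¹ * k * g⁻¹⁻¹) := h10
      rw [mem_centralizer_singleton_iff]
      calc k * (g * d * g⁻¹) = g * (g⁻¹ * k * g⁻¹⁻¹ * d) * g⁻¹ := by group
        _ = g * (d * (g⁻¹ * k * g⁻¹⁻¹)) * g⁻¹ := by rw [h11]
        _ = g * d * g⁻¹ * k := by group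

section main

variable {X : Type u} [Group X] [Finite X] {E : Type v} [Group E] [Finite E]

theorem case_two
    (hE : ∀ v : E, orderOf v = 2 → IsOfCharacteristicTwo ↥(centralizer ({v} : Set E)))
    (hcard : Nat.card E = 76532479683774853939200)
    {T : Set X} (HT : Pair.Trans T) (hN : Nat.card ↥T ≤ 13571955000)
    (hsec : ∀ d ∈ T, ∃ (X₀ : Subgroup X) (σ : ↥X₀ →* E), Sec.Data d σ)
    {u d : X} (hu : u * u = 1) (hu1 : u ≠ 1) (hd : d ∈ T) (hc : u * d = d * u) (hud : u * d ∈ T)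
    (hb : centralizerPPrimeCore 2 u = ⊥) {K : Subgroup X}
    (hK : IsComponentOf K (centralizer ({u} : Set X))) : Pb u K := by
  obtain ⟨X₀, σ, H, x, L, hx2, hx, hs, hna, hLn, hCL, hct, ⟨e⟩⟩ :=
    CaseTwo.main hE HT hsec hu hu1 hd hc hud hb hK
  have h1 := card_le_fix HT.conj hN H hc hud hx
  rw [hcard] at h1
  have h2 := card_le_aut L hLn hCL
  have h3 : 5000000000000 < Nat.card (MulAut ↥L) := by
    have : 76532479683774853939200 ≤ 13571955000 * Nat.card (MulAut ↥L) := h1.trans (Nat.mul_le_mul_left _ h2)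
    omega
  have h4 : Nat.card ↥L ∣ 76532479683774853939200 := by
    rw [← hcard]
    exact (card_subgroup_dvd_card L).trans (card_subgroup_dvd_card (fixedSubgroup x))
  have hKd := Pair.comm_of_pair HT hu hu1 hd hc hud hK
  have hd1 : d ≠ 1 := by
    rintro rfl
    exact H.t_ne rfl
  refine Or.inr ⟨isSimple_of_equiv e.symm hs, not_comm_of_equiv e.symm hna, ct_of_equiv e.symm hct, ?_, ?_, d,
    orderOf_eq_prime (by rw [pow_two]; exact HT.sq d hd) hd1, ?_, hc,
    fun k hk => mem_centralizer_singleton_iff.2 (hKd k hk)⟩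
  · rwa [Nat.card_congr e.toEquiv]
  · rwa [Nat.card_congr (MulAut.congr e).toEquiv]
  · rintro rfl
    rw [hu] at hud
    obtain ⟨X₁, σ₁, H₁⟩ := hsec 1 hud
    exact H₁.t_ne rfl

end main

end Cfsg.Agent.H283.BRow

namespace Cfsg.Agent.H283.BRow

open Subgroup Cfsg Cfsg.Lie Cfsg.Agent.Bimonster Cfsg.Agent.BabyU Cfsg.Agent.TwoESix.Cover
open Cfsg.Agent.MonsterX.KSide Cfsg.Agent.MonsterX.KLift Cfsg.Agent.MonsterX.KModel
open Cfsg.Agent.MonsterX.Model Cfsg.Agent.MonsterX.MainPack Cfsg.Agent.MonsterX.MainSimple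
open Cfsg.Agent.MonsterX.MainBasic Cfsg.Agent.MonsterU.Assembly Cfsg.Agent.MonsterN Cfsg.Agent.MonsterN.Lit
open Cfsg.Agent.MonsterN.LitInst Cfsg.Agent.MonsterU.Lam2 Cfsg.Agent.MonsterU.TwoCls
open Cfsg.Agent.BabyComp Cfsg.Agent.BabyComp.Par

variable {V P W : Type} [AddCommGroup V] [Module ℚ V] [Group P] [AddCommGroup W] [Module ℚ W]
  {D : MData V} {M : KS ↥D.G V P W} {x₀ : P} {θ : leechLattice → P} {K₀ : Type} [Group K₀]

/-- **The involutions of the Baby Monster.** -/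
theorem pack_of (A : All D K₀) (H : Link D M x₀) (L : Lift M θ) {τ : D.G} {y' : P}
    (T : Cfsg.Agent.MonsterU.InvTwo.TauHyp M θ ⊤ τ y') {y : ℕ → D.G} (hP : PRel y) (hne : y 0 ≠ y 1)
    (hy : ∃ g : D.G, g * tG A.hG A.hR * g⁻¹ = y 10)
    (bal : ∀ u : Spor.BabyMonster, orderOf u = 2 → centralizerPPrimeCore 2 u = ⊥) :
    ∀ u : Spor.BabyMonster, orderOf u = 2 → ∀ K : Subgroup Spor.BabyMonster,
      IsComponentOf K (centralizer ({u} : Set Spor.BabyMonster)) → Pb u K := by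
  have hfin : Finite D.G := G_finite A.hO
  have hB : Cfsg.IsB Cfsg.Spor.BabyMonster := Cfsg.Agent.S1704.result
  obtain ⟨⟨h1, h2, h3⟩, h43⟩ := ModelB.fieldsKS A H L hP hne hy hB H.x₀_mem
  obtain ⟨f₁, f₂, f₃, f₄, Fc, hcz, hcd, p, hp, hp2, hp2'⟩ := FusInst.exists_facts A H L T H.x₀_mem
  have hzm : M.z ∈ BB M x₀ := mem_centralizer_singleton_iff.2 (by
    show M.ι M.zc * M.ι x₀ = M.ι x₀ * M.ι M.zc
    rw [← map_mul, ← map_mul, M.zc_comm])
  have hE : Emb (BB M x₀).subtype M.z (tb M x₀) f₁ f₂ f₃ :=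
    ⟨Subtype.val_injective, nineteen H A, ((BB M x₀).subtype.map_isConj (hcz hzm)).symm, hcd⟩
  -- the group `²E₆(2)`
  let K := GaloisField 2 2
  let _i : Fintype K := Fintype.ofFinite K
  have hK : Fintype.card K = 4 := by
    rw [← Nat.card_eq_fintype_card]
    exact GaloisField.card 2 2 (by norm_num)
  have hF : Fintype.card K = 2 ^ 2 := by rw [hK]; norm_num
  have hsE := EInst.isSimple K hK
  obtain ⟨e0, r, he0, hgen, hr, -, hconj⟩ := TwoESix.GoodInst.exists_good K hK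
  have hR : ∀ i, e0 i ∈ rootClass K := fun i => by
    obtain ⟨g, hg⟩ := hconj i
    exact ⟨g, r, hr, hg⟩
  have hHB : Finite HB := Cfsg.Agent.BM.HBFinal.finite_HB
  have hcard := Cfsg.Agent.BM.HBFinal.hcard K hK
  have big_a : KEq.Big (BB M x₀) (tb M x₀) f₁ := by
    have hm : M.ι p ∈ BB M x₀ := by rw [← hp]; exact f₁.2
    have e : f₁ = ⟨M.ι p, hm⟩ := Subtype.ext hp
    rw [e]
    exact BigAConf.big_a L T H.x₀_mem h43 hp2 hp2'
  obtain ⟨q, yB, hpre, π, hq, h10, DK, hc5, hq5⟩ :=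
    NodesB.nodes he0 hgen hcard (Cfsg.Agent.BM.HBFinal.card_E K hK) hR h1 h2 h3 Fc hE
  obtain ⟨M₁, Bs⟩ := BaseB.exists_base hq5
  have hfX : Finite Spor.BabyMonster := Finite.of_surjective q hq.surj
  have big : KEq.Big (BB M x₀) (tb M x₀) (yB 5) := big_a.conj (fun x => (Fc.cen x).symm) hc5
  have hz : M.z = zG A.hG := Subtype.ext H.z_eq.symm
  have hL : Cfsg.Agent.Co2Type.Quad.Large (D.Q.subgroupOf D.G) M.z := by
    rw [hz]
    exact Cfsg.Agent.MonsterU.ModelChart.large A.hG A.hR A.hL A.hO A.hT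
  have hr : ∀ x : D.G, x * (BB M x₀).subtype (tb M x₀) = (BB M x₀).subtype (tb M x₀) * x →
      ∃ b, (BB M x₀).subtype b = x := fun x hx => ⟨⟨x, mem_centralizer_singleton_iff.2 hx⟩, rfl⟩
  obtain ⟨σ, hσ⟩ := Main.exists_sigma hq h10 DK
  have HD := Main.data hq h10 DK big hσ
  intro u hu K' hK'
  refine comp_all' (E := twistedE6 K 2) (hF := hF) hq h10 DK Fc hE.inj hr hE.conj_z hE.conj_d hL hc5 big
      (Cfsg.Agent.TwoESix.LeviG.rootFacts hK hF) (KeyInst.extra hF) (Cfsg.Agent.TwoESix.RootsInst.roots K hF)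
      Bs (Pr := Pb) Pb.conj ?_ ?_ u hu K' hK'
  · intro K₁ hK₁
    obtain ⟨f, hf, hk, hcen⟩ := TwoA.exists_hom HD hK₁
    have e := CTwoTab.quoCenterEquiv hf (CTwoTab.simple_center_eq_bot (EFacts.noncomm K hK)) hcen
    left
    rw [Nat.card_congr e.toEquiv]
    exact Cfsg.Agent.BM.HBFinal.card_E K hK
  · intro u d huu hu1 hd hc hud K₁ hK₁
    have hu2 : orderOf u = 2 := orderOf_eq_prime (by rw [pow_two, huu]) hu1
    refine case_two (EFacts.charTwo K hK) (Cfsg.Agent.BM.HBFinal.card_E K hK) (Bs.trans HD.t_sq HD.t_ne)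
      (card_class hq5) ?_ huu hu1 hd hc hud (bal u hu2) hK₁
    intro d hd
    obtain ⟨g, rfl⟩ := isConj_iff.1 hd
    have h1 := HD.comap (MulAut.conj g⁻¹)
    have h2 : (MulAut.conj g⁻¹).symm (q (yB 5)) = g * q (yB 5) * g⁻¹ := by
      rw [MulEquiv.symm_apply_eq, MulAut.conj_apply]
      group
    rw [h2] at h1
    exact ⟨_, _, h1⟩

end Cfsg.Agent.H283.BRow

namespace Cfsg.Agent.H283.BRow

open Subgroup
open Cfsg Cfsg.Agent.MonsterX Cfsg.Agent.MonsterX.Space Cfsg.Agent.MonsterX.Conc Cfsg.Agent.MonsterX.Model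
open Cfsg.Agent.MonsterX.InstData Cfsg.Agent.MonsterX.MainPack Cfsg.Agent.MonsterU
open Cfsg.Agent.MonsterP Cfsg.Agent.MonsterP.NodeData Cfsg.Agent.MonsterP.NodesConj Cfsg.Agent.CTwoTab.BInst

/-- **The components of the centralizers of the involutions of the presented Baby Monster.** -/
theorem pack_model : ∀ u : Spor.BabyMonster, orderOf u = 2 → ∀ K : Subgroup Spor.BabyMonster,
    IsComponentOf K (centralizer ({u} : Set Spor.BabyMonster)) → Pb u K :=
  pack_of all KDone.lnk KDone.lft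
    (TauInst.tauHyp (Final.cent InstanceFinal.mOrbit Instance.mTrans)) (NodesGrp.prel H) (NodesNe.ne H)
    conj_ten CTwoTab.B.bal

end Cfsg.Agent.H283.BRow
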