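import Mathlib
import Cfsg.Agent.BpGate.Main
/-!
# THEOREM DESC, the abstract part: a (B,N)-pair from a gate system

`H` is a finite group whose Sylow `p`-subgroups form a chamber system with gates (`FixBN.Gates.GSys`). `m a b` is the
order of `a ⊓ b`. `DSys` collects the further properties of the gate systems coming from fixed points of automorphisms
of buildings: the groups `Bs a` (stabilisers of geometric chambers), transitivity on opposite Sylow subgroups, existence
of ascending panels, and the separation property. `Ap a c` is the apartment of the opposite pair `a`, `c`.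
-/

set_option autoImplicit false
set_option linter.unusedSectionVars false

open scoped Pointwise

namespace Cfsg.Agent.H283.Desc

open Cfsg.Agent.FixBN.Gates Cfsg.Agent.BpGate

variable {H : Type*} [Group H] {p : ℕ}

/-- the order of the intersection of two Sylow subgroups -/
noncomputable def m (a b : Sylow p H) : ℕ := Nat.card ↥((a : Subgroup H) ⊓ (b : Subgroup H))

theorem m_comm (a b : Sylow p H) : m a b = m b a := by
  unfold m; rw [inf_comm]

theorem gate_smul {a c : Sylow p H} {S : Set (Sylow p H)} (h : Gate a S c) (g : H) :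
    Gate (g • a) (g • S) (g • c) := by
  refine ⟨fun u hu huS => ?_, fun b hb b' hb' hbc hbc' => ?_⟩
  · have h1 : g⁻¹ * u * g ∈ a := mem_smul_iff.1 hu
    have h2 : (g⁻¹ * u * g) • S = S := by
      rw [mul_smul, mul_smul, huS, inv_smul_smul]
    have h3 := h.fix _ h1 h2
    calc u • g • c = g • ((g⁻¹ * u * g) • c) := by
          rw [← mul_smul, ← mul_smul]; congr 1; group
      _ = g • c := by rw [h3]
  · have h1 : g⁻¹ • b ∈ S := Set.mem_smul_set_iff_inv_smul_mem.1 hb
    have h2 : g⁻¹ • b' ∈ S := Set.mem_smul_set_iff_inv_smul_mem.1 hb'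
    obtain ⟨u, hu, huS, hub⟩ := h.tr _ h1 _ h2
      (fun e => hbc (by rw [← e, smul_inv_smul])) (fun e => hbc' (by rw [← e, smul_inv_smul]))
    refine ⟨g * u * g⁻¹, ?_, ?_, ?_⟩
    · rw [mem_smul_iff]
      have e1 : g⁻¹ * (g * u * g⁻¹) * g = u := by group
      rw [e1]; exact hu
    · rw [mul_smul, inv_smul_smul, mul_smul, huS]
    · rw [mul_smul, mul_smul, hub, smul_inv_smul]

/-- the subgroup generated by the Sylow subgroups of a panel -/
def LS (S : Set (Sylow p H)) : Subgroup H := ⨆ x ∈ S, (x : Subgroup H)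

theorem le_LS {S : Set (Sylow p H)} {x : Sylow p H} (hx : x ∈ S) : (x : Subgroup H) ≤ LS S :=
  le_iSup₂_of_le x hx le_rfl

theorem mem_LS {S : Set (Sylow p H)} {x : Sylow p H} (hx : x ∈ S) {u : H} (hu : u ∈ x) : u ∈ LS S :=
  le_LS hx hu

theorem LS_le {S : Set (Sylow p H)} {K : Subgroup H} (h : ∀ x ∈ S, ∀ u ∈ x, u ∈ K) : LS S ≤ K :=
  iSup₂_le fun x hx u hu => h x hx u hu

theorem conj_mem_LS {S : Set (Sylow p H)} {l : H} (hl : l ∈ LS S) (g : H) : g * l * g⁻¹ ∈ LS (g • S) := by
  have h1 : LS S ≤ (LS (g • S)).comap (MulAut.conj g).toMonoidHom := by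
    refine LS_le fun x hx u hu => ?_
    refine mem_LS (x := g • x) (Set.smul_mem_smul_set hx) ?_
    change g * u * g⁻¹ ∈ g • x
    rw [mem_smul_iff]
    have e1 : g⁻¹ * (g * u * g⁻¹) * g = u := by group
    rw [e1]; exact hu
  exact h1 hl

variable {Pa : Set (Set (Sylow p H))} {d : Sylow p H → Sylow p H → ℕ}

theorem LS_smul (hG : GSys Pa d) {S : Set (Sylow p H)} (hS : S ∈ Pa) {l : H} (hl : l ∈ LS S) : l • S = S := by
  have h1 : LS S ≤ MulAction.stabilizer H S :=
    LS_le fun x hx u hu => hG.self S hS x hx u hu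
  exact h1 hl

theorem LS_tr (hG : GSys Pa d) {S : Set (Sylow p H)} (hS : S ∈ Pa) {a b : Sylow p H} (ha : a ∈ S) (hb : b ∈ S) :
    ∃ l ∈ LS S, l • a = b := by
  obtain ⟨f, hf, hf1, hf2⟩ := hG.three S hS a ha b hb
  obtain ⟨v, hv, _, hvc⟩ := (hG.gate_self hS hf).tr a ha b hb (Ne.symm hf1) (Ne.symm hf2)
  exact ⟨v, mem_LS hf hv, hvc⟩

/-- The group generated by the Sylow subgroups is generated by the panels through one of them. -/
theorem Hp_le_panels (hG : GSys Pa d) (a : Sylow p H) {K : Subgroup H} (haK : (a : Subgroup H) ≤ K)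
    (hK : ∀ S ∈ Pa, a ∈ S → LS S ≤ K) : Hp p H ≤ K := by
  have key : ∀ b : Sylow p H, ∃ g ∈ K, g • a = b := by
    intro b
    induction hn : d a b using Nat.strong_induction_on generalizing b with
    | _ n ih =>
      by_cases hab : a = b
      · exact ⟨1, one_mem _, by rw [one_smul, hab]⟩
      obtain ⟨S, hS, hbS, c, hc, _, _, hlt⟩ := hG.desc a b hab
      obtain ⟨h, hh, hha⟩ := ih _ (by rw [← hn]; exact hlt) c rfl
      have haS : a ∈ h⁻¹ • S := by
        rw [Set.mem_smul_set_iff_inv_smul_mem, inv_inv, hha]; exact hc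
      have hbS' : h⁻¹ • b ∈ h⁻¹ • S := Set.smul_mem_smul_set hbS
      obtain ⟨l, hl, hla⟩ := LS_tr hG (hG.smul S hS h⁻¹) haS hbS'
      refine ⟨h * l, mul_mem hh (hK _ (hG.smul S hS h⁻¹) haS hl), ?_⟩
      rw [mul_smul, hla, smul_inv_smul]
  refine iSup_le fun b => ?_
  obtain ⟨g, hg, hga⟩ := key b
  intro u hu
  have hu' : u ∈ b := hu
  rw [← hga, mem_smul_iff] at hu'
  have h2 := mul_mem (mul_mem hg (haK hu')) (inv_mem hg)
  have e1 : g * (g⁻¹ * u * g) * g⁻¹ = u := by group
  rwa [e1] at h2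

section Card

variable [Finite H] [hp : Fact p.Prime]

theorem m_pos (a b : Sylow p H) : 0 < m a b := Nat.card_pos

theorem m_self (a : Sylow p H) : m a a = Nat.card ↥(a : Subgroup H) := by
  unfold m; rw [inf_idem]

theorem m_self_eq (a b : Sylow p H) : m a a = m b b := by
  rw [m_self, m_self, a.card_eq_multiplicity, b.card_eq_multiplicity]

theorem m_le (a b : Sylow p H) : m a b ≤ m a a := by
  rw [m_self]; exact Subgroup.card_le_of_le inf_le_left

theorem eq_of_m {a b : Sylow p H} (h : m a b = m a a) : a = b := by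
  have h1 : (a : Subgroup H) ⊓ (b : Subgroup H) = a := by
    refine Subgroup.eq_of_le_of_card_ge inf_le_left ?_
    rw [← m_self]; exact h.ge
  have h2 : (a : Subgroup H) ≤ b := by rw [← h1]; exact inf_le_right
  exact Sylow.ext (a.is_maximal' b.isPGroup' h2).symm

theorem m_smul (g : H) (a b : Sylow p H) : m (g • a) (g • b) = m a b := by
  unfold m
  refine Nat.card_congr ⟨fun u => ⟨g⁻¹ * u.1 * g, mem_smul_iff.1 u.2.1, mem_smul_iff.1 u.2.2⟩,
    fun u => ⟨g * u.1 * g⁻¹, ?_, ?_⟩, fun u => Subtype.ext (by group), fun u => Subtype.ext (by group)⟩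
  · change g * u.1 * g⁻¹ ∈ g • a
    rw [mem_smul_iff]
    have e1 : g⁻¹ * (g * u.1 * g⁻¹) * g = u.1 := by group
    rw [e1]; exact u.2.1
  · change g * u.1 * g⁻¹ ∈ g • b
    rw [mem_smul_iff]
    have e1 : g⁻¹ * (g * u.1 * g⁻¹) * g = u.1 := by group
    rw [e1]; exact u.2.2

theorem m_one_iff {a c : Sylow p H} : m a c = 1 ↔ ∀ u, u ∈ a → u ∈ c → u = 1 := by
  unfold m
  rw [Subgroup.card_eq_one, Subgroup.eq_bot_iff_forall]
  exact ⟨fun h u hu hc => h u ⟨hu, hc⟩, fun h u hu => h u hu.1 hu.2⟩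

omit hp [Finite H] in
theorem card_inf_mul (A x : Subgroup H) : Nat.card ↥(A ⊓ x) * A.relIndex x = Nat.card x := by
  have h := Subgroup.relIndex_mul_relIndex (⊥ : Subgroup H) (A ⊓ x) x bot_le inf_le_right
  rwa [Subgroup.relIndex_bot_left, Subgroup.relIndex_bot_left, Subgroup.inf_relIndex_right] at h

/-- the triangle inequality -/
theorem tri (a x b : Sylow p H) : m a x * m x b ≤ m a a * m a b := by
  have h1 := card_inf_mul (a : Subgroup H) (x : Subgroup H)
  have h2 := card_inf_mul (b : Subgroup H) (x : Subgroup H)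
  have h3 := card_inf_mul ((a : Subgroup H) ⊓ (b : Subgroup H)) (x : Subgroup H)
  have h4 := Subgroup.relIndex_inf_le (H := (a : Subgroup H)) (K := (b : Subgroup H)) (L := (x : Subgroup H))
  have hQ : m a a = Nat.card ↥(x : Subgroup H) := by rw [m_self_eq a x, m_self]
  have h5 : Nat.card ↥((a : Subgroup H) ⊓ (b : Subgroup H) ⊓ (x : Subgroup H)) ≤ m a b :=
    Subgroup.card_le_of_le inf_le_left
  have h6 : Nat.card ↥((b : Subgroup H) ⊓ (x : Subgroup H)) = m x b := by unfold m; rw [inf_comm]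
  have h7 : Nat.card ↥((a : Subgroup H) ⊓ (x : Subgroup H)) = m a x := rfl
  rw [h7] at h1
  rw [h6] at h2
  rw [hQ]
  set Q := Nat.card ↥(x : Subgroup H)
  set i := (a : Subgroup H).relIndex (x : Subgroup H)
  set j := (b : Subgroup H).relIndex (x : Subgroup H)
  set k := ((a : Subgroup H) ⊓ (b : Subgroup H)).relIndex (x : Subgroup H)
  set n := Nat.card ↥((a : Subgroup H) ⊓ (b : Subgroup H) ⊓ (x : Subgroup H))
  have hQ0 : 0 < Q := Nat.card_pos
  have hk : 0 < k := by
    rcases Nat.eq_zero_or_pos k with h | h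
    · rw [h, mul_zero] at h3; omega
    · exact h
  -- m a x * m x b * (i * j) = Q * Q,  i * j ≥ k
  have h8 : m a x * m x b * k ≤ Q * n * k := by
    calc m a x * m x b * k ≤ m a x * m x b * (i * j) := Nat.mul_le_mul_left _ h4
      _ = (m a x * i) * (m x b * j) := by ring
      _ = Q * Q := by rw [h1, h2]
      _ = Q * n * k := by rw [mul_assoc, h3]
  have h9 := Nat.le_of_mul_le_mul_right h8 hk
  exact h9.trans (Nat.mul_le_mul_left _ h5)

/-- the parameter of a panel -/
noncomputable def qS (S : Set (Sylow p H)) : ℕ := (S \ {Classical.epsilon (fun x => x ∈ S)}).ncard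

theorem ncard_sdiff {S : Set (Sylow p H)} {a b : Sylow p H} (ha : a ∈ S) (hb : b ∈ S) :
    (S \ {a}).ncard = (S \ {b}).ncard := by
  have hfin : S.Finite := Set.toFinite _
  have e1 := Set.ncard_sdiff_singleton_add_one ha hfin
  have e2 := Set.ncard_sdiff_singleton_add_one hb hfin
  omega

theorem ncard_sdiff_eq {S : Set (Sylow p H)} {a : Sylow p H} (ha : a ∈ S) : (S \ {a}).ncard = qS S :=
  ncard_sdiff ha (Classical.epsilon_spec (p := fun x => x ∈ S) ⟨a, ha⟩)

theorem two_le_qS (hG : GSys Pa d) {S : Set (Sylow p H)} (hS : S ∈ Pa) {a : Sylow p H} (ha : a ∈ S) :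
    2 ≤ qS S := by
  obtain ⟨b, hb, hba, _⟩ := hG.three S hS a ha a ha
  obtain ⟨c, hc, hca, hcb⟩ := hG.three S hS a ha b hb
  rw [← ncard_sdiff_eq ha]
  have h1 : ({b, c} : Set (Sylow p H)) ⊆ S \ {a} := by
    rintro x (rfl | rfl)
    · exact ⟨hb, hba⟩
    · exact ⟨hc, hca⟩
  have h2 := Set.ncard_le_ncard h1 (Set.toFinite _)
  rwa [Set.ncard_pair (Ne.symm hcb)] at h2

/-- An element of two chambers, one of them in the panel, fixes the gate. -/
theorem mem_gate (hG : GSys Pa d) {S : Set (Sylow p H)} (hS : S ∈ Pa) {a b c : Sylow p H} (hg : Gate a S c)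
    (hb : b ∈ S) {u : H} (hu : u ∈ a) (hub : u ∈ b) : u ∈ c :=
  mem_of_smul_eq hu (hg.fix u hu (hG.self S hS b hb u hub))

/-- The order of the intersections with the chambers of a panel. -/
theorem gate_card (hG : GSys Pa d) {S : Set (Sylow p H)} (hS : S ∈ Pa) {a b c : Sylow p H} (hg : Gate a S c)
    (hc : c ∈ S) (hb : b ∈ S) (hbc : b ≠ c) : m a c = qS S * m a b := by
  classical
  have h1 : S \ {c} = MulAction.orbit ↥((a : Subgroup H) ⊓ (c : Subgroup H)) b := by
    ext e
    constructor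
    · rintro ⟨he, hec⟩
      obtain ⟨u, hu, huS, hue⟩ := hg.tr b hb e he hbc hec
      exact ⟨⟨u, hu, mem_of_smul_eq hu (hg.fix u hu huS)⟩, hue⟩
    · rintro ⟨⟨u, hua, huc⟩, rfl⟩
      have huS : u • S = S := hG.self S hS c hc u huc
      refine ⟨?_, ?_⟩
      · change u • b ∈ S
        rw [← huS]; exact Set.smul_mem_smul_set hb
      · intro h
        have h2 : u • b = c := h
        have h3 : u • c = c := smul_self huc
        exact hbc (smul_left_cancel u (h2.trans h3.symm))
  have h2 : m a b = Nat.card (MulAction.stabilizer ↥((a : Subgroup H) ⊓ (c : Subgroup H)) b) := by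
    unfold m
    refine Nat.card_congr ⟨fun u => ⟨⟨u.1, u.2.1, mem_gate hG hS hg hb u.2.1 u.2.2⟩, ?_⟩,
      fun u => ⟨u.1.1, u.1.2.1, ?_⟩, fun u => rfl, fun u => rfl⟩
    · change u.1 • b = b
      exact smul_self u.2.2
    · have h3 : u.1.1 • b = b := u.2
      exact mem_of_smul_eq (b := a) u.1.2.1 h3
  rw [← ncard_sdiff_eq hc, h1, h2]
  have h3 := Subgroup.card_mul_index (MulAction.stabilizer ↥((a : Subgroup H) ⊓ (c : Subgroup H)) b)
  rw [MulAction.index_stabilizer] at h3
  rw [mul_comm]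
  exact h3.symm

theorem gate_lt (hG : GSys Pa d) {S : Set (Sylow p H)} (hS : S ∈ Pa) {a b c : Sylow p H} (hg : Gate a S c)
    (hc : c ∈ S) (hb : b ∈ S) (hbc : b ≠ c) : m a b < m a c := by
  rw [gate_card hG hS hg hc hb hbc]
  have h1 := two_le_qS hG hS hc
  have h2 := m_pos a b
  nlinarith

end Card

/-- The gate systems of fixed points. -/
structure DSys (Pa : Set (Set (Sylow p H))) (d : Sylow p H → Sylow p H → ℕ) (Bs : Sylow p H → Subgroup H) :
    Prop where
  gs : GSys Pa d
  inter : BpGate.Inter Pa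
  le : ∀ a u, u ∈ a → u ∈ Bs a
  fix : ∀ a g, g ∈ Bs a → g • a = a
  smul : ∀ (a : Sylow p H) (g h : H), h ∈ Bs a → g * h * g⁻¹ ∈ Bs (g • a)
  pan : ∀ a, ∀ g ∈ Bs a, ∀ S ∈ Pa, a ∈ S → g • S = S
  mem : ∀ S ∈ Pa, ∀ a ∈ S, ∀ b ∈ S, ∀ g ∈ Bs a, g • b = b → g ∈ Bs b
  ker : ∀ S ∈ Pa, ∀ a ∈ S, ∀ g ∈ LS S, g • a = a → g ∈ Bs a
  otr : ∀ a c c' : Sylow p H, m a c = 1 → m a c' = 1 → ∃ u ∈ a, u • c = c'
  max : ∀ a c : Sylow p H, m a c ≠ 1 → ∃ S ∈ Pa, c ∈ S ∧ Gate a S c
  sep : ∀ a c : Sylow p H, m a c = 1 → ∀ x, m a x * m c x = m a a → ∀ S ∈ Pa, x ∈ S → Gate a S x → Gate c S x → False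

/-- `x` belongs to the apartment of `a`, `c` -/
def Ap (a c x : Sylow p H) : Prop := m a x * m c x = m a a

variable [Finite H] [hp : Fact p.Prime] {Bs : Sylow p H → Subgroup H}

theorem Ap.symm {a c x : Sylow p H} (h : Ap a c x) : Ap c a x := by
  unfold Ap at *
  rw [mul_comm, h, m_self_eq]

theorem Ap.smul {a c x : Sylow p H} (h : Ap a c x) (g : H) : Ap (g • a) (g • c) (g • x) := by
  unfold Ap at *
  rw [m_smul, m_smul, m_smul, h]

theorem ap_left {a c : Sylow p H} (h : m a c = 1) : Ap a c a := by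
  unfold Ap
  rw [m_comm c a, h, mul_one]

theorem ap_right {a c : Sylow p H} (h : m a c = 1) : Ap a c c := by
  unfold Ap
  rw [h, one_mul, m_self_eq c a]

theorem eq_right {a c x : Sylow p H} (hx : Ap a c x) (h : m a x = 1) : x = c := by
  unfold Ap at hx
  rw [h, one_mul, m_self_eq a c] at hx
  exact (eq_of_m hx).symm

/-- Lemma A -/
theorem gs_ap_step (hG : GSys Pa d) {a c x g : Sylow p H} {S : Set (Sylow p H)} (h1 : m a c = 1)
    (hx : Ap a c x) (hS : S ∈ Pa) (hxS : x ∈ S) (hgS : g ∈ S) (hg : Gate a S g) (hne : x ≠ g) :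
    Gate c S x ∧ Ap a c g ∧ m a g = qS S * m a x := by
  have hq := two_le_qS hG hS hxS
  have e1 := gate_card hG hS hg hgS hxS hne
  have e2 := tri a g c
  rw [h1, mul_one, e1, m_comm g c] at e2
  have hpa := m_pos a x
  have hpc := m_pos c x
  unfold Ap at hx
  obtain ⟨h, hhS, hh⟩ := hG.gate S hS c
  by_cases hhx : h = x
  · subst hhx
    have e3 := gate_card hG hS hh hhS hgS (Ne.symm hne)
    refine ⟨hh, ?_, e1⟩
    unfold Ap
    rw [e1, ← hx, e3]; ring
  · exfalso
    have e3 := gate_card hG hS hh hhS hxS (Ne.symm hhx)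
    by_cases hhg : h = g
    · subst hhg
      rw [e3, ← hx] at e2
      have h5 : 2 * 2 ≤ qS S * qS S := Nat.mul_le_mul hq hq
      have h6 : qS S * m a x * (qS S * m c x) = qS S * qS S * (m a x * m c x) := by ring
      have h7 := Nat.mul_le_mul_right (m a x * m c x) h5
      have h8 := Nat.mul_pos hpa hpc
      omega
    · have e4 := gate_card hG hS hh hhS hgS (Ne.symm hhg)
      have e5 : m c g = m c x := by
        have : qS S * m c g = qS S * m c x := by rw [← e4, ← e3]
        exact Nat.eq_of_mul_eq_mul_left (by omega) this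
      rw [e5, ← hx] at e2
      nlinarith [Nat.mul_pos hpa hpc]

namespace DSys

theorem ap_step (hD : DSys Pa d Bs) {a c x g : Sylow p H} {S : Set (Sylow p H)} (h1 : m a c = 1)
    (hx : Ap a c x) (hS : S ∈ Pa) (hxS : x ∈ S) (hgS : g ∈ S) (hg : Gate a S g) (hne : x ≠ g) :
    Gate c S x ∧ Ap a c g ∧ m a g = qS S * m a x := gs_ap_step hD.gs h1 hx hS hxS hgS hg hne

/-- Lemma B -/
theorem ap_two (hD : DSys Pa d Bs) {a c x ga gc : Sylow p H} {S : Set (Sylow p H)} (h1 : m a c = 1)
    (hx : Ap a c x) (hS : S ∈ Pa) (hxS : x ∈ S) (hgaS : ga ∈ S) (hga : Gate a S ga)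
    (hgcS : gc ∈ S) (hgc : Gate c S gc) :
    (x = ga ∧ gc ≠ x ∧ Ap a c gc ∧ m c gc = qS S * m c x ∧ m a x = qS S * m a gc) ∨
      (x = gc ∧ ga ≠ x ∧ Ap a c ga ∧ m a ga = qS S * m a x ∧ m c x = qS S * m c ga) := by
  have hG := hD.gs
  by_cases hxa : x = ga
  · left
    have hne : gc ≠ x := by
      rintro rfl
      exact hD.sep a c h1 gc hx S hS hxS (hxa ▸ hga) hgc
    have h1' : m c a = 1 := by rw [m_comm]; exact h1
    obtain ⟨_, h3, h4⟩ := hD.ap_step h1' hx.symm hS hxS hgcS hgc (Ne.symm hne)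
    refine ⟨hxa, hne, h3.symm, h4, ?_⟩
    subst hxa
    exact gate_card hG hS hga hgaS hgcS hne
  · right
    obtain ⟨h2, h3, h4⟩ := hD.ap_step h1 hx hS hxS hgaS hga hxa
    have h5 : x = gc := hG.gate_unique hS h2 hgc hxS hgcS
    refine ⟨h5, Ne.symm hxa, h3, h4, ?_⟩
    exact gate_card hG hS h2 hxS hgaS (Ne.symm hxa)

/-- Lemma B, uniqueness -/
theorem ap_eq (hD : DSys Pa d Bs) {a c y ga gc : Sylow p H} {S : Set (Sylow p H)} (h1 : m a c = 1)
    (hy : Ap a c y) (hS : S ∈ Pa) (hyS : y ∈ S) (hgaS : ga ∈ S) (hga : Gate a S ga)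
    (hgcS : gc ∈ S) (hgc : Gate c S gc) : y = ga ∨ y = gc := by
  rcases hD.ap_two h1 hy hS hyS hgaS hga hgcS hgc with h | h
  · exact Or.inl h.1
  · exact Or.inr h.1

/-- the gate of the opposite chamber -/
theorem gate_opp_ne (hD : DSys Pa d Bs) {a c g : Sylow p H} {S : Set (Sylow p H)} (h1 : m a c = 1)
    (hS : S ∈ Pa) (haS : a ∈ S) (hgS : g ∈ S) (hg : Gate c S g) : g ≠ a := by
  rintro rfl
  obtain ⟨b, hb, hb1, _⟩ := hD.gs.three S hS g haS g haS
  have h2 := gate_lt hD.gs hS hg haS hb hb1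
  rw [m_comm c g, h1] at h2
  have := m_pos c b
  omega

/-- Lemma C -/
theorem near (hD : DSys Pa d Bs) {a c a1 x g : Sylow p H} {S : Set (Sylow p H)} (h1 : m a c = 1)
    (hS : S ∈ Pa) (haS : a ∈ S) (ha1S : a1 ∈ S) (ha1 : Gate c S a1) (hx : Ap a c x) (hgS : g ∈ S)
    (hg : Gate x S g) : g = a ∨ g = a1 := by
  by_contra hcon
  push Not at hcon
  obtain ⟨hga, hga1⟩ := hcon
  have hG := hD.gs
  have hne := hD.gate_opp_ne h1 hS haS ha1S ha1
  have hq := two_le_qS hG hS haS
  have e1 := gate_card hG hS hg hgS haS (Ne.symm hga)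
  have e2 := gate_card hG hS ha1 ha1S haS (Ne.symm hne)
  have e3 := gate_card hG hS ha1 ha1S hgS hga1
  have e4 : m c g = 1 := by
    have : qS S * m c g = qS S * 1 := by rw [← e3, e2, m_comm c a, h1]
    exact Nat.eq_of_mul_eq_mul_left (by omega) this
  have e5 := tri g x c
  rw [m_comm g x, e1, m_comm g c, e4, mul_one, m_comm x a, m_comm x c] at e5
  unfold Ap at hx
  rw [m_self_eq g a, ← hx] at e5
  nlinarith [Nat.mul_pos (m_pos a x) (m_pos c x)]

/-- the ratio -/
theorem near_ratio (hD : DSys Pa d Bs) {a c a1 x : Sylow p H} {S : Set (Sylow p H)} (h1 : m a c = 1)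
    (hS : S ∈ Pa) (haS : a ∈ S) (ha1S : a1 ∈ S) (ha1 : Gate c S a1) (hx : Ap a c x) :
    m a x = qS S * m a1 x ∨ m a1 x = qS S * m a x := by
  have hG := hD.gs
  have hne := hD.gate_opp_ne h1 hS haS ha1S ha1
  obtain ⟨g, hgS, hg⟩ := hG.gate S hS x
  rcases hD.near h1 hS haS ha1S ha1 hx hgS hg with rfl | rfl
  · left
    rw [m_comm g x, m_comm a1 x]
    exact gate_card hG hS hg hgS ha1S hne
  · right
    rw [m_comm g x, m_comm a x]
    exact gate_card hG hS hg hgS haS (Ne.symm hne)

/-- the ratio, for an arbitrary chamber -/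
theorem ratio (hD : DSys Pa d Bs) {a a1 x : Sylow p H} {S : Set (Sylow p H)}
    (hS : S ∈ Pa) (haS : a ∈ S) (ha1S : a1 ∈ S) (hne : a1 ≠ a) :
    m a x = qS S * m a1 x ∨ m a1 x = qS S * m a x ∨ m a x = m a1 x := by
  have hG := hD.gs
  obtain ⟨g, hgS, hg⟩ := hG.gate S hS x
  by_cases hga : a = g
  · subst hga
    left
    rw [m_comm a x, m_comm a1 x]
    exact gate_card hG hS hg hgS ha1S hne
  · by_cases hga1 : a1 = g
    · subst hga1
      right; left
      rw [m_comm a1 x, m_comm a x]
      exact gate_card hG hS hg hgS haS (Ne.symm hne)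
    · right; right
      have e1 := gate_card hG hS hg hgS haS hga
      have e2 := gate_card hG hS hg hgS ha1S hga1
      rw [m_comm a x, m_comm a1 x]
      have hq := two_le_qS hG hS haS
      exact Nat.eq_of_mul_eq_mul_left (by omega) (e1.symm.trans e2)

/-- Lemma E: the opposite panel -/
theorem exists_opp_panel (hD : DSys Pa d Bs) {a c a1 : Sylow p H} {S : Set (Sylow p H)} (h1 : m a c = 1)
    (hS : S ∈ Pa) (haS : a ∈ S) (ha1S : a1 ∈ S) (ha1 : Gate c S a1) :
    ∃ S' ∈ Pa, ∃ c1 ∈ S', c ∈ S' ∧ Gate a S' c1 ∧ qS S' = qS S ∧ m a1 c1 = 1 ∧ Ap a c c1 ∧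
      Gate a1 S' c ∧ Gate c1 S a := by
  have hG := hD.gs
  have hne := hD.gate_opp_ne h1 hS haS ha1S ha1
  have hq := two_le_qS hG hS haS
  have e1 := gate_card hG hS ha1 ha1S haS (Ne.symm hne)
  rw [m_comm c a, h1, mul_one, m_comm c a1] at e1
  -- m a1 c = q
  obtain ⟨S', hS', hcS', hg'⟩ := hD.max a1 c (by omega)
  obtain ⟨c1, hc1, hgc1⟩ := hG.gate S' hS' a
  have h1' : m c a = 1 := by rw [m_comm]; exact h1
  have hne' : c1 ≠ c := hD.gate_opp_ne h1' hS' hcS' hc1 hgc1
  have hq' := two_le_qS hG hS' hcS'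
  have e2 := gate_card hG hS' hgc1 hc1 hcS' (Ne.symm hne')
  rw [h1, mul_one] at e2
  -- m a c1 = q'
  have hap : Ap a c c1 := (hD.ap_step h1 (ap_right h1) hS' hcS' hc1 hgc1 (Ne.symm hne')).2.1
  have e3 := gate_card hG hS' hg' hcS' hc1 hne'
  rw [e1] at e3
  -- q = q' * m a1 c1
  have hpos := m_pos a1 c1
  rcases hD.near_ratio h1 hS haS ha1S ha1 hap with h | h
  · -- m a c1 = q * m a1 c1
    rw [e2] at h
    have h3 : m a1 c1 = 1 := by
      have h4 : qS S' = qS S' * (m a1 c1 * m a1 c1) := by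
        calc qS S' = qS S * m a1 c1 := h
          _ = qS S' * m a1 c1 * m a1 c1 := by rw [← e3]
          _ = _ := by ring
      have h5 : m a1 c1 * m a1 c1 = 1 := by
        have : qS S' * (m a1 c1 * m a1 c1) = qS S' * 1 := by rw [mul_one]; exact h4.symm
        exact Nat.eq_of_mul_eq_mul_left (by omega) this
      exact Nat.eq_one_of_mul_eq_one_right h5
    refine ⟨S', hS', c1, hc1, hcS', hgc1, ?_, h3, hap, hg', ?_⟩
    · rw [h3, mul_one] at h; exact h
    · obtain ⟨g, hgS, hg⟩ := hG.gate S hS c1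
      rcases hD.near h1 hS haS ha1S ha1 hap hgS hg with rfl | rfl
      · exact hg
      · exfalso
        have e4 := gate_card hG hS hg hgS haS (Ne.symm hne)
        rw [m_comm c1 g, h3, m_comm c1 a, e2] at e4
        nlinarith
  · exfalso
    rw [e2] at h
    nlinarith [Nat.mul_pos hpos hpos]

/-- Lemma F: the apartment of the reflected pair -/
theorem ap_refl (hD : DSys Pa d Bs) {a c a1 c1 : Sylow p H} {S S' : Set (Sylow p H)} (h1 : m a c = 1)
    (hS : S ∈ Pa) (haS : a ∈ S) (ha1S : a1 ∈ S) (ha1 : Gate c S a1) (hS' : S' ∈ Pa) (hc1S : c1 ∈ S')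
    (hcS : c ∈ S') (hc1 : Gate a S' c1) (hqq : qS S' = qS S) (h11 : m a1 c1 = 1) {x : Sylow p H}
    (hx : Ap a c x) : Ap a1 c1 x := by
  have hG := hD.gs
  have hne := hD.gate_opp_ne h1 hS haS ha1S ha1
  have h1' : m c a = 1 := by rw [m_comm]; exact h1
  have hne' : c1 ≠ c := hD.gate_opp_ne h1' hS' hcS hc1S hc1
  have hq := two_le_qS hG hS haS
  -- induction on the distance from `a`
  induction hn : (m a a - m a x) using Nat.strong_induction_on generalizing x with
  | _ n ih =>
    by_cases hxa : a = x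
    · subst hxa
      -- `m a1 a = Q / q`, `m c1 a = q`
      have e1 := gate_card hG hS (hG.gate_self hS ha1S) ha1S haS (Ne.symm hne)
      have e2 := gate_card hG hS' hc1 hc1S hcS (Ne.symm hne')
      rw [h1, mul_one, hqq] at e2
      unfold Ap
      rw [m_comm c1 a, e2, e1, mul_comm]
    obtain ⟨R, hR, hxR, g, hgR, hg, hgx, _⟩ := hG.desc a x hxa
    obtain ⟨hcx, hapg, hmag⟩ := hD.ap_step h1 hx hR hxR hgR hg (Ne.symm hgx)
    have hmc := gate_card hG hR hcx hxR hgR hgx
    have hr := two_le_qS hG hR hxR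
    have hlt : m a x < m a g := gate_lt hG hR hg hgR hxR (Ne.symm hgx)
    have hle := m_le a g
    have hIH : Ap a1 c1 g := ih (m a a - m a g) (by rw [← hn]; omega) hapg rfl
    -- the gates of `a1`, `c1` on `R`
    obtain ⟨u, huR, hu⟩ := hG.gate R hR a1
    obtain ⟨w, hwR, hw⟩ := hG.gate R hR c1
    have hrg := hD.near_ratio h1 hS haS ha1S ha1 hapg
    have hrx := hD.near_ratio h1 hS haS ha1S ha1 hx
    have hrg' := hD.near_ratio h1' hS' hcS hc1S hc1 hapg.symm
    have hrx' := hD.near_ratio h1' hS' hcS hc1S hc1 hx.symm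
    rw [hqq] at hrg' hrx'
    rcases hD.ap_two h11 hIH hR hgR huR hu hwR hw with ⟨h2, h3, h4, h5, h6⟩ | ⟨h2, h3, h4, h5, h6⟩
    · -- the gate of `a1` is `g`, the gate of `c1` is `w ≠ g`
      by_cases hwx : w = x
      · rw [← hwx]; exact h4
      exfalso
      -- `m c1 w = r * m c1 g`, `m c1 x = m c1 g`
      have e1 := gate_card hG hR hw hwR hxR (Ne.symm hwx)
      have e2 : m c1 x = m c1 g := by
        rw [h5] at e1
        exact (Nat.eq_of_mul_eq_mul_left (by omega) e1).symm
      rw [e2] at hrx'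
      have p1 := m_pos c g
      have p2 := m_pos c1 g
      -- `m c x = r * m c g`
      rcases hrg' with k1 | k1 <;> rcases hrx' with k2 | k2
      · rw [hmc, k1] at k2
        have : (qS R) * (qS S * m c1 g) = 1 * (qS S * m c1 g) := by rw [k2, one_mul]
        have := Nat.eq_of_mul_eq_mul_right (by positivity) this
        omega
      · rw [hmc, k1] at k2
        have h7 : 2 * 2 * 2 ≤ qS S * qS R * qS S := Nat.mul_le_mul (Nat.mul_le_mul hq hr) hq
        have h8 : qS S * (qS R * (qS S * m c1 g)) = qS S * qS R * qS S * m c1 g := by ring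
        have h9 := Nat.mul_le_mul_right (m c1 g) h7
        omega
      · -- `m c1 g = q m c g`, `r m c g = q m c1 g`
        rw [hmc, k1] at k2
        have e3 : qS R = qS S * qS S := by
          have : qS R * m c g = qS S * qS S * m c g := by rw [k2]; ring
          exact Nat.eq_of_mul_eq_mul_right p1 this
        -- `w`
        have e4 : m c w = m c g := by
          have e5 := gate_card hG hR hcx hxR hwR hwx
          rw [hmc] at e5
          exact (Nat.eq_of_mul_eq_mul_left (by omega) e5).symm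
        have e6 := hD.ratio (x := w) hS' hcS hc1S hne'
        rw [hqq, e4, h5, k1, e3] at e6
        have h7 : 2 * 2 ≤ qS S * qS S := Nat.mul_le_mul hq hq
        have h8 : 2 * 2 * 2 ≤ qS S * qS S * qS S := Nat.mul_le_mul h7 hq
        rcases e6 with e6 | e6 | e6
        · have h9 : qS S * (qS S * qS S * (qS S * m c g)) = qS S * (qS S * qS S * qS S * m c g) := by ring
          rw [h9] at e6
          have h10 : 2 * 8 ≤ qS S * (qS S * qS S * qS S) := Nat.mul_le_mul hq (by omega)
          have h11 := Nat.mul_le_mul_right (m c g) h10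
          have h12 : qS S * (qS S * qS S * qS S) * m c g = qS S * (qS S * qS S * qS S * m c g) := by ring
          omega
        · have h9 : qS S * qS S * (qS S * m c g) = (qS S * qS S) * (qS S * m c g) := by ring
          have h10 : 0 < qS S * m c g := by positivity
          have h11 := Nat.mul_le_mul_right (qS S * m c g) h7
          omega
        · have h9 : qS S * qS S * (qS S * m c g) = qS S * qS S * qS S * m c g := by ring
          have h11 := Nat.mul_le_mul_right (m c g) h8
          omega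
      · rw [hmc, k1] at k2
        have h7 : 2 * 2 ≤ qS S * qS R := Nat.mul_le_mul hq hr
        have e3 : qS S * m c g = qS S * (qS R * m c g) := k2
        have e4 := Nat.eq_of_mul_eq_mul_left (by omega) e3
        have h9 := Nat.mul_le_mul_right (m c g) hr
        omega
    · -- the gate of `c1` is `g`, the gate of `a1` is `u ≠ g`
      by_cases hux : u = x
      · rw [← hux]; exact h4
      exfalso
      -- `m a1 u = r * m a1 g`, `m a1 x = m a1 g`
      have e1 := gate_card hG hR hu huR hxR (Ne.symm hux)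
      have e2 : m a1 x = m a1 g := by
        rw [h5] at e1
        exact (Nat.eq_of_mul_eq_mul_left (by omega) e1).symm
      rw [e2] at hrx
      have p1 := m_pos a x
      have p2 := m_pos a1 g
      rcases hrg with k1 | k1 <;> rcases hrx with k2 | k2
      · rw [hmag, k2] at k1
        have h9 : qS R * (qS S * m a1 g) = (qS R) * (qS S * m a1 g) := rfl
        have h10 : 0 < qS S * m a1 g := by positivity
        have h11 := Nat.mul_le_mul_right (qS S * m a1 g) hr
        omega
      · -- `m a g = q m a1 g`, `m a1 g = q m a x`, `m a g = r m a x`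
        rw [hmag, k2] at k1
        have e3 : qS R = qS S * qS S := by
          have : qS R * m a x = qS S * qS S * m a x := by rw [k1]; ring
          exact Nat.eq_of_mul_eq_mul_right p1 this
        have e4 : m a u = m a x := by
          by_cases hug : u = g
          · exact absurd hug h3
          have e5 := gate_card hG hR hg hgR huR hug
          rw [hmag] at e5
          exact (Nat.eq_of_mul_eq_mul_left (by omega) e5).symm
        have e6 := hD.ratio (x := u) hS haS ha1S hne
        rw [e4, h5, k2, e3] at e6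
        have h7 : 2 * 2 ≤ qS S * qS S := Nat.mul_le_mul hq hq
        have h8 : 2 * 2 * 2 ≤ qS S * qS S * qS S := Nat.mul_le_mul h7 hq
        rcases e6 with e6 | e6 | e6
        · have h10 : 2 * 8 ≤ qS S * (qS S * qS S * qS S) := Nat.mul_le_mul hq (by omega)
          have h11 := Nat.mul_le_mul_right (m a x) h10
          have h12 : qS S * (qS S * qS S * qS S) * m a x = qS S * (qS S * qS S * (qS S * m a x)) := by ring
          omega
        · have h10 : 0 < qS S * m a x := by positivity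
          have h11 := Nat.mul_le_mul_right (qS S * m a x) h7
          omega
        · have h9 : qS S * qS S * (qS S * m a x) = qS S * qS S * qS S * m a x := by ring
          have h11 := Nat.mul_le_mul_right (m a x) h8
          omega
      · rw [hmag, k2] at k1
        have h9 : qS S * (qS R * (qS S * m a1 g)) = qS S * qS R * qS S * m a1 g := by ring
        have h7 : 2 * 2 * 2 ≤ qS S * qS R * qS S := Nat.mul_le_mul (Nat.mul_le_mul hq hr) hq
        have h11 := Nat.mul_le_mul_right (m a1 g) h7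
        omega
      · rw [hmag, k2] at k1
        have e3 := Nat.eq_of_mul_eq_mul_left (by omega) k1
        have h11 := Nat.mul_le_mul_right (m a x) hr
        omega

end DSys

end Cfsg.Agent.H283.Desc
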