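import Mathlib
import Cfsg.Agent.FixOdd.Gates
import Cfsg.Agent.H283.DescAbs
/-!
# THEOREM DESC, the geometric part

`t` is an automorphism of prime order `r ≠ p` of a group with a split (B,N)-pair of characteristic `p`, acting on the
building `Δ`: the gate system of the centraliser satisfies `DSys`.
-/

set_option autoImplicit false
set_option linter.unusedSectionVars false

open scoped Pointwise

namespace Cfsg.Agent.H283.DescGeo

open Cfsg.Agent.Tits.Core Cfsg.Agent.Tits.Core.Bldg Cfsg.Agent.Tits.Exchange Cfsg.Agent.Tits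
open Cfsg.Agent.FixBN (Sys Conv conv_Res eq_of_isMinR par_transfer par_δ SS SS_all SS_nonempty mem_SS_of_δ)
open Cfsg.Agent.FixBN.Cox (Par Ad conjSet mem_of_simple_mem wJ_inj par_of_longest mem_WJ_map par_one)
open Cfsg.Agent.FixOdd.Cox Cfsg.Agent.Lib Cfsg.Agent.FixBN.Gates
open Cfsg.Agent.FixOdd Cfsg.Agent.FixOdd.Tw
open Cfsg.Agent.H283.Desc

variable {I : Type*} {M : CoxeterMatrix I} {W : Type*} [Group W] {cs : CoxeterSystem M W} {C : Type*}

local prefix:100 "ℓ" => cs.length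

variable [F : OppRes.Cox cs]

/-! ### Coxeter groups -/

theorem par_comp {J K K' T : Set I} {w b : W} (h : Par cs J K w) (h' : Par cs K K' b) (hw : IsMinR cs T w)
    (hK : K ⊆ T) (hK' : K' ⊆ T) (hb : b ∈ WJ cs T) : Par cs J K' (w * b) := by
  have hl : ℓ (w * b) = ℓ w + ℓ b := hw b hb
  refine ⟨fun j hj => ?_, fun k hk => ?_, fun a ha => ?_, fun v hv => ?_⟩
  · obtain ⟨k, hk, e1⟩ := h'.fwd j hj
    obtain ⟨i, hi, e2⟩ := h.fwd k hk
    exact ⟨i, hi, by rw [mul_assoc, e1, ← mul_assoc, e2, mul_assoc]⟩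
  · obtain ⟨j, hj, e1⟩ := h.bwd k hk
    obtain ⟨i, hi, e2⟩ := h'.bwd j hj
    exact ⟨i, hi, by rw [← mul_assoc, e1, mul_assoc, e2, mul_assoc]⟩
  · obtain ⟨a', ha', e1, e2⟩ := h.mulL ha
    rw [← mul_assoc, e1, mul_assoc, hw _ (mul_mem (WJ_mono cs hK ha') hb), h'.minL a' ha', hl]
    omega
  · rw [mul_assoc, hw _ (mul_mem hb (WJ_mono cs hK' hv)), h'.minR v hv, hl]
    omega

theorem par_type {J K K' : Set I} {w : W} (h : Par cs J K w) (h' : Par cs J K' w) : K = K' := by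
  have key : ∀ {K K' : Set I}, Par cs J K w → Par cs J K' w → K ⊆ K' := by
    intro K K' h h' k hk
    obtain ⟨j, hj, e1⟩ := h.fwd k hk
    obtain ⟨k', hk', e2⟩ := h'.bwd j hj
    rw [← e1] at e2
    rw [F.inj (mul_left_cancel e2)]
    exact hk'
  exact Set.Subset.antisymm (key h h') (key h' h)

theorem len_wJ_mul_not_mem {L : Set I} {i : I} (hi : i ∉ L) : ℓ (wJ cs L * cs.simple i) = ℓ (wJ cs L) + 1 := by
  rcases cs.length_mul_simple (wJ cs L) i with h | h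
  · exact h
  · exact absurd (F.descent_mem L _ (F.wJ_mem L) i (by omega)) hi

/-- The separation lemma. -/
theorem sep_cox {L T : Set I} {w1 m1 : W} (hL : L ⊆ T) {i : I} (hiT : i ∈ T) (hiL : i ∉ L)
    (h : w1 * wJ cs L * m1 = w0 cs) (hl : ℓ w1 + ℓ (wJ cs L) + ℓ m1 = ℓ (w0 cs))
    (h1 : IsMinR cs T w1) (h2 : IsMinR cs T m1⁻¹) : False := by
  have e1 : ℓ (w1 * (wJ cs L * cs.simple i)) = ℓ w1 + (ℓ (wJ cs L) + 1) := by
    rw [h1 _ (mul_mem (WJ_mono cs hL (F.wJ_mem L)) (simple_mem_WJ cs hiT)), len_wJ_mul_not_mem hiL]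
  have e2 : ℓ (m1⁻¹ * cs.simple i) = ℓ m1 + 1 := by
    rw [h2 _ (simple_mem_WJ cs hiT), cs.length_simple, cs.length_inv]
  have e3 : cs.simple i * m1 = (w1 * (wJ cs L * cs.simple i))⁻¹ * w0 cs := by
    rw [← h]
    simp only [mul_inv_rev, cs.inv_simple]
    group
  have e4 := F.len_mul_w0 (w1 * (wJ cs L * cs.simple i))⁻¹
  rw [← e3, cs.length_inv, e1] at e4
  have e5 : ℓ (cs.simple i * m1) = ℓ (m1⁻¹ * cs.simple i) := by
    rw [← cs.length_inv, mul_inv_rev, cs.inv_simple]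
  omega

variable [Finite I]

/-- Either the position is maximal or there is an ascending orbit of types. -/
theorem up_or_max {φ : W ≃* W} {σ : Equiv.Perm I} (hφ : ∀ i, φ (cs.simple i) = cs.simple (σ i)) {J K : Set I}
    {w : W} (h : Par cs J K w) (hJ : ∀ i ∈ J, σ i ∈ J) (hK : ∀ i ∈ K, σ i ∈ K) (hw : φ w = w) :
    w * wJ cs K = w0 cs ∨ ∃ i, i ∉ K ∧ IsMinR cs (K ∪ orb σ i) w := by
  by_contra hcon
  push Not at hcon
  obtain ⟨h1, h2⟩ := hcon
  apply h1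
  refine F.eq_wJ_of_descents (J := Set.univ) (by rw [WJ_univ]; trivial) fun j _ => ?_
  by_cases hj : j ∈ K
  · have e1 := F.len_wJ_mul (simple_mem_WJ cs hj)
    rw [cs.length_simple] at e1
    have e2 := h.minR _ (F.wJ_mem K)
    have e3 := h.minR _ (mul_mem (F.wJ_mem K) (simple_mem_WJ cs hj))
    rw [← mul_assoc] at e3
    omega
  · have h3 := h2 j hj
    rw [isMinR_iff] at h3
    push Not at h3
    obtain ⟨k, hk, hle⟩ := h3
    have hlt : ℓ (w * cs.simple k) < ℓ w := by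
      have := cs.length_mul_simple_ne w k
      omega
    have hkK : k ∉ K := fun hkK => by
      have := h.minR _ (simple_mem_WJ cs hkK)
      omega
    have hko : k ∈ orb σ j := by
      rcases hk with hk | hk
      · exact absurd hk hkK
      · exact hk
    obtain ⟨v, b, hvb, hb, hv, -, -, -, -, -, -, hlong⟩ :=
      Cfsg.Agent.FixOdd.Cox.exists_step hφ h hJ hK hw hlt (T := K ∪ orb σ j) (by rw [orb_eq hko])
    have hjT : j ∈ K ∪ orb σ j := Or.inr (self_mem_orb j)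
    have e1 : w * wJ cs K = v * wJ cs (K ∪ orb σ j) := by rw [hvb, mul_assoc, hlong]
    rw [e1]
    have e2 := F.len_wJ_mul (simple_mem_WJ cs hjT)
    rw [cs.length_simple] at e2
    have e3 := hv _ (F.wJ_mem (K ∪ orb σ j))
    have e4 := hv _ (mul_mem (F.wJ_mem (K ∪ orb σ j)) (simple_mem_WJ cs hjT))
    rw [← mul_assoc] at e4
    omega

omit [Finite I] in
/-- the type of the adjacency data is not the full type -/
theorem exists_not_mem {φ : W ≃* W} {σ : I → I} {T K K' : Set I} {b : W} (h : Ad cs φ σ T K K' b) (hb : b ≠ 1) :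
    ∃ i ∈ T, i ∉ K := by
  by_contra hcon
  push Not at hcon
  have h1 : T = K := Set.Subset.antisymm hcon h.sub''
  have h2 := h.long'
  rw [h1] at h2
  exact hb (by simpa using h2)

theorem ad_ne_one {φ : W ≃* W} {σ : I → I} {T K K' : Set I} {b : W} (h : Ad cs φ σ T K K' b) {i : I}
    (hi : i ∈ T) (hiK : i ∉ K) : b ≠ 1 := by
  intro h1
  have h2 := h.long'
  rw [h1, mul_one] at h2
  have h3 := wJ_inj h2
  rw [h3] at hiK
  exact hiK hi

variable {Δ : Bldg cs C}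

omit [Finite I] in
/-- The position of two parallel residues is unique. -/
theorem pos_unique {J K : Set I} {x x' y y' : C} (hx : x' ∈ Δ.Res J x) (hy : y' ∈ Δ.Res K y)
    (h : Par cs J K (Δ.δ x y)) (h' : Par cs J K (Δ.δ x' y')) : Δ.δ x' y' = Δ.δ x y := by
  obtain ⟨c, hc, hc'⟩ := par_transfer h rfl hx
  have h1 : Δ.IsProj K y x' c := Δ.isProj_of_isMinR hc (by rw [hc']; exact h.minR)
  have h2 : Δ.IsProj K y x' y' := Δ.isProj_of_isMinR hy h'.minR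
  rw [h1.unique h2] at hc'
  exact hc'

/-! ### The good residues -/

variable {G : Type*} [Group G] [MulAction G C] {p r : ℕ} {t : Tw Δ G}
variable [Finite G] [hp : Fact p.Prime] [hr : Fact r.Prime] [Finite C]

omit hp hr [Finite G] [Finite C] in
theorem tp_or_thin {T K K' : Set I} {b : W} {y1 : C} (h : t.PD T K K' b y1) {Z' : Set C} (hZ' : Z' ∈ t.Gds T y1)
    (hne : Z' ≠ Δ.Res K y1) : t.TP T y1 ∨ ∀ Z ∈ t.Gds T y1, Z = Δ.Res K y1 ∨ Z = Z' := by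
  by_cases hthin : ∀ Z ∈ t.Gds T y1, Z = Δ.Res K y1 ∨ Z = Z'
  · exact Or.inr hthin
  left
  push Not at hthin
  obtain ⟨Z3, hZ3, hn1, hn2⟩ := hthin
  have hJy1 : Δ.Res K y1 ∈ t.Gds T y1 := ⟨K, y1, h.ad.sub'', Δ.self_mem_Res _ _, h.gd, rfl⟩
  refine ⟨⟨K, K', b, h⟩, ?_⟩
  intro Z1 _ Z2 _
  by_contra hcon
  push Not at hcon
  have k1 := hcon _ hJy1
  have k2 := hcon _ hZ'
  have k3 := hcon _ hZ3
  by_cases q1 : Δ.Res K y1 = Z1
  · by_cases q2 : Z' = Z2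
    · have q3 : Z3 ≠ Z1 := by rw [← q1]; exact hn1
      exact hn2 ((k3 q3).trans q2.symm)
    · have q3 : Z' = Z1 := by
        by_contra q; exact q2 (k2 q)
      exact hne (q3.trans q1.symm)
  · have q2 := k1 q1
    by_cases q3 : Z' = Z1
    · by_cases q4 : Z3 = Z1
      · exact hn2 (q4.trans q3.symm)
      · exact hn1 ((k3 q4).trans q2.symm)
    · exact hne ((k2 q3).trans q2.symm)

/-- the groups `P` of the two good residues of a thin panel are equal -/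
theorem rep_of_TC (S : Sys Δ G p) {Q Q' : Set C} (h : t.TC S Q Q') {a : Sylow p ↥t.cent} (ha : t.Rep S a Q) :
    t.Rep S a Q' := by
  intro u
  have e1 : (u : G) ∈ t.P S Q ↔ (u : G) ∈ t.P S Q' := by rw [h.eq]
  have e4 : (u : G) ∈ t.P S Q ↔ (u : G) ∈ S.UR Q := ⟨fun h => h.2, fun h => ⟨u.2, h⟩⟩
  have e5 : (u : G) ∈ t.P S Q' ↔ (u : G) ∈ S.UR Q' := ⟨fun h => h.2, fun h => ⟨u.2, h⟩⟩
  rw [ha u, ← e4, e1, e5]

theorem Gds_θ {T : Set I} {y : C} {Z : Set C} (hZ : Z ∈ t.Gds T y) : t.θ '' Z = Z := by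
  obtain ⟨J, z, hJ, hz, hgd, rfl⟩ := hZ
  exact image_Gd hgd

/-- the gate, from the position -/
theorem gate_of_pos (S : Sys Δ G p) (hth : Δ.Thick) (hU : t.HU S) (ho : t.Ord r) (hrp : r ≠ p) {J K L T : Set I}
    {x y1 y : C} {v b : W} (hgx : t.Gd J x) (hT : t.TP T y) (hy : y1 ∈ Δ.Res T y) (hxy : Δ.δ x y1 = v)
    (hpar : Par cs J K v) (hv : IsMinR cs T v) (hPD : t.PD T K L b y1) {a c : Sylow p ↥t.cent}
    (ha : t.Rep S a (Δ.Res J x)) (hc : t.Rep S c (Δ.Res K y1)) : Gate a (t.PS S T y) c := by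
  have hZ0 : Δ.Res K y1 ∈ t.Gds T y := ⟨K, y1, hPD.ad.sub'', hy, hPD.gd, rfl⟩
  refine gate_PS S hth hU ho hrp hT ha hZ0 hc ?_
  intro Z1 h1 Z2 h2 hn1 hn2
  have h1' := h1
  have h2' := h2
  rw [← Gds_congr hy] at h1' h2'
  obtain ⟨u, huc, hu, huM, huZ⟩ := trans_SS S hth ho hrp hgx hxy hpar hv hPD.ad hPD.θ_mem
    (hPD.mem_SS h1' hn1) (hPD.mem_SS h2' hn2) (Gds_θ h1) (Gds_θ h2)
  rw [Δ.Res_eq_of_mem hy] at huM
  exact ⟨u, huc, hu, huM, huZ⟩

/-- **The good residues of a Sylow subgroup have the same stabiliser.** -/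
theorem stab_conn (S : Sys Δ G p) (hth : Δ.Thick) (hU : t.HU S) (ho : t.Ord r) (hrp : r ≠ p) {J J' : Set I}
    {x y : C} (h : t.Gd J x) (h' : t.Gd J' y) {a : Sylow p ↥t.cent} (ha : t.Rep S a (Δ.Res J x))
    (ha' : t.Rep S a (Δ.Res J' y)) {g : G} (hg : g ∈ t.cent) (hgx : g • Δ.Res J x = Δ.Res J x) :
    g • Δ.Res J' y = Δ.Res J' y := by
  obtain ⟨x', hx', y', hy', hpar, hφ⟩ := parallel h h'
  rw [← Δ.Res_eq_of_mem hx'] at ha hgx
  rw [← Δ.Res_eq_of_mem hy'] at ha' ⊢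
  replace h := h.congr hx'
  replace h' := h'.congr hy'
  clear hx' hy'
  induction hn : ℓ (Δ.δ x' y') using Nat.strong_induction_on generalizing J' y' with
  | _ n ih =>
    by_cases hne : Δ.δ x' y' = 1
    · rw [hne] at hpar
      rw [← hpar.eq_of_one, ← Δ.eq_of_δ_eq_one hne]
      exact hgx
    · obtain ⟨T, J'', v, b, y1, h1, h2, h3, h4, h5, h6, h7, h8, h9, h10, h11⟩ :=
        exists_PD h h' hpar hφ hne
      rcases tp_or_thin h7 h9 h10 with hT | hthin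
      · exfalso
        obtain ⟨c, hc⟩ := rep_exists S hth hU ho hrp h7.gd
        have hg1 := gate_of_pos S hth hU ho hrp h hT (Δ.self_mem_Res _ _) h1 h6 h4 h7 ha hc
        have hSPa : t.PS S T y1 ∈ t.Pas S := ⟨T, y1, hT, rfl⟩
        have haS : a ∈ t.PS S T y1 := ⟨_, h9, ha'⟩
        have hJy1 : Δ.Res J'' y1 ∈ t.Gds T y1 := ⟨J'', y1, h7.ad.sub'', Δ.self_mem_Res _ _, h7.gd, rfl⟩
        have hG := gsys S hth hU ho hrp (t := t)
        have hca := hG.gate_unique hSPa hg1 (hG.gate_self hSPa haS) ⟨_, hJy1, hc⟩ haS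
        rw [hca] at hc
        exact h10 (rep_inj S hth hU ho hrp hT h9 hJy1 ha' hc)
      · have hTC := h7.thin S h8 h11 h10 hthin
        have ha1 : t.Rep S a (Δ.Res J'' y1) := rep_of_TC S hTC ha'
        have hIH := ih (ℓ (Δ.δ x' y1)) (by rw [← hn, h1]; exact h3) (J' := J'') y1 ha1 (by rw [h1]; exact h6)
          (by rw [h1]; exact h5) h7.gd rfl
        have h7' : t.PD T J'' J' (b⁻¹)⁻¹ y1 := by rw [inv_inv]; exact h7
        have hTC' := h8.thin S h7' (Δ.mem_Res_symm h11) (Ne.symm h10) (by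
          intro Z hZ
          rw [Gds_congr h11] at hZ
          exact (hthin Z hZ).symm)
        exact hTC'.st g hg hIH

/-- The stabiliser of the good residues of a Sylow subgroup. -/
def Bs (t : Tw Δ G) (S : Sys Δ G p) (a : Sylow p ↥t.cent) : Subgroup ↥t.cent where
  carrier := {g | ∀ J x, t.Gd J x → t.Rep S a (Δ.Res J x) → (g : G) • Δ.Res J x = Δ.Res J x}
  one_mem' := fun J x _ _ => by
    change (1 : G) • Δ.Res J x = Δ.Res J x
    rw [one_smul]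
  mul_mem' := fun {g g'} hg hg' J x h h' => by
    change ((g : G) * (g' : G)) • Δ.Res J x = Δ.Res J x
    rw [mul_smul, hg' J x h h', hg J x h h']
  inv_mem' := fun {g} hg J x h h' => by
    change (g : G)⁻¹ • Δ.Res J x = Δ.Res J x
    rw [inv_smul_eq_iff, hg J x h h']

theorem mem_Bs (S : Sys Δ G p) (hth : Δ.Thick) (hU : t.HU S) (ho : t.Ord r) (hrp : r ≠ p) {J : Set I}
    {x : C} (h : t.Gd J x) {a : Sylow p ↥t.cent} (ha : t.Rep S a (Δ.Res J x)) {g : ↥t.cent}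
    (hg : (g : G) • Δ.Res J x = Δ.Res J x) : g ∈ Bs t S a :=
  fun _ _ h' ha' => stab_conn S hth hU ho hrp h h' ha ha' g.2 hg

theorem fix_of_Bs (S : Sys Δ G p) (hth : Δ.Thick) (hU : t.HU S) (ho : t.Ord r) (hrp : r ≠ p)
    {a : Sylow p ↥t.cent} {g : ↥t.cent} (hg : g ∈ Bs t S a) : g • a = a := by
  obtain ⟨J, x, hgd, ha⟩ := exists_rep S hth hU ho hrp a
  have h1 := ha.smul g
  rw [hg J x hgd ha] at h1
  exact h1.eq ha

theorem Res_of_Gds (S : Sys Δ G p) {T : Set I} {y : C} {Z : Set C} (hZ : Z ∈ t.Gds T y) {g : G}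
    (hg : g • Z = Z) : g • Δ.Res T y = Δ.Res T y := by
  obtain ⟨J, z, hJ, hz, hgd, rfl⟩ := hZ
  have h2 := smul_Res_of_sub S hJ hg
  rwa [Δ.Res_eq_of_mem hz] at h2

theorem PS_of_Res (S : Sys Δ G p) {T : Set I} {y : C} {g : ↥t.cent}
    (hg : (g : G) • Δ.Res T y = Δ.Res T y) : g • t.PS S T y = t.PS S T y := by
  rw [smul_PS]
  refine PS_congr ?_
  rw [← hg]
  exact Set.smul_mem_smul_set (Δ.self_mem_Res _ _)

/-- An ascending panel, or an opposite good residue. -/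
theorem up (S : Sys Δ G p) (hth : Δ.Thick) (hU : t.HU S) (ho : t.Ord r) (hrp : r ≠ p) {J : Set I}
    {x : C} (h : t.Gd J x) {a : Sylow p ↥t.cent} (ha : t.Rep S a (Δ.Res J x)) (c : Sylow p ↥t.cent) :
    (∃ Sg ∈ t.Pas S, c ∈ Sg ∧ Gate a Sg c) ∨
      ∃ K y, t.Gd K y ∧ t.Rep S c (Δ.Res K y) ∧ Par cs J K (Δ.δ x y) ∧ t.φ (Δ.δ x y) = Δ.δ x y ∧
        Δ.δ x y * wJ cs K = w0 cs := by
  have key : ∀ n, ∀ K y, t.Gd K y → t.Rep S c (Δ.Res K y) → Par cs J K (Δ.δ x y) →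
      t.φ (Δ.δ x y) = Δ.δ x y → ℓ (w0 cs) - ℓ (Δ.δ x y) = n → (∃ Sg ∈ t.Pas S, c ∈ Sg ∧ Gate a Sg c) ∨
      ∃ K y, t.Gd K y ∧ t.Rep S c (Δ.Res K y) ∧ Par cs J K (Δ.δ x y) ∧ t.φ (Δ.δ x y) = Δ.δ x y ∧
        Δ.δ x y * wJ cs K = w0 cs := by
    intro n
    induction n using Nat.strong_induction_on with
    | _ n ih =>
      intro K y hgy hcy hpar hφ hn
      rcases up_or_max t.φ_simple hpar h.st hgy.st hφ with hmax | ⟨i, hiK, hmin⟩
      · exact Or.inr ⟨K, y, hgy, hcy, hpar, hφ, hmax⟩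
      set T := K ∪ orb t.σ i with hTdef
      have hTst : ∀ k ∈ T, t.σ k ∈ T := union_orb_stable hgy.st i
      obtain ⟨K', b, hAd⟩ := exists_ad (cs := cs) t.φ_simple hTst hgy.st Set.subset_union_left
      have hb : b ≠ 1 := ad_ne_one hAd (Or.inr (self_mem_orb i)) hiK
      have hPD : t.PD T K K' b y := ⟨hAd, hb, ⟨i, rfl⟩, hgy⟩
      obtain ⟨Z, hZ, hθ⟩ := exists_SS_fixed S hth ho hrp hAd hgy
      have hZ' := SS_sub hAd hgy hZ hθ
      have hne : Z ≠ Δ.Res K y := by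
        rintro rfl
        exact not_mem_SS hAd hb hZ
      rcases tp_or_thin hPD hZ' hne with hTP | hthin
      · left
        exact ⟨t.PS S T y, ⟨T, y, hTP, rfl⟩, ⟨_, ⟨K, y, hAd.sub'', Δ.self_mem_Res _ _, hgy, rfl⟩, hcy⟩,
          gate_of_pos S hth hU ho hrp h hTP (Δ.self_mem_Res _ _) rfl hpar hmin hPD ha hcy⟩
      · obtain ⟨z, hz, rfl⟩ := SS_all hAd.par hZ (Δ.self_mem_Res _ _)
        have hgz : t.Gd K' z := gd_of_SS hAd hgy hZ hθ
        have hl : ℓ (Δ.δ x y * b) = ℓ (Δ.δ x y) + ℓ b := hmin b hAd.mem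
        have hxz : Δ.δ x z = Δ.δ x y * b := Δ.δ_mul_of rfl hz hl
        have hpz : Par cs J K' (Δ.δ x z) := by
          rw [hxz]; exact par_comp hpar hAd.par hmin hAd.sub'' hAd.sub' hAd.mem
        have hφz : t.φ (Δ.δ x z) = Δ.δ x z := by rw [hxz, map_mul, hφ, hAd.fix]
        have hb0 : ℓ b ≠ 0 := fun h0 => hb (cs.length_eq_zero_iff.1 h0)
        have hle : ℓ (Δ.δ x z) ≤ ℓ (w0 cs) := by
          have := F.len_w0_mul (Δ.δ x z)
          omega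
        have hle' : ℓ (Δ.δ x y) ≤ ℓ (w0 cs) := by
          have := F.len_w0_mul (Δ.δ x y)
          omega
        have hzT : z ∈ Δ.Res T y := by rw [mem_Res, hz]; exact hAd.mem
        have hk : ∃ k, T = K' ∪ orb t.σ k := ad_panel t.φ_simple hAd.symm rfl
        have hPD' : t.PD T K' K b⁻¹ z := ⟨hAd.symm, by rwa [Ne, inv_eq_one], hk, hgz⟩
        have hPD'' : t.PD T K K' (b⁻¹)⁻¹ y := by rw [inv_inv]; exact hPD
        have hTC : t.TC S (Δ.Res K y) (Δ.Res K' z) := by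
          refine hPD'.thin S hPD'' (Δ.mem_Res_symm hzT) (Ne.symm hne) ?_
          intro Z hZ
          rw [Gds_congr hzT] at hZ
          exact (hthin Z hZ).symm
        refine ih (ℓ (w0 cs) - ℓ (Δ.δ x z)) ?_ K' z hgz (rep_of_TC S hTC hcy) hpz hφz rfl
        rw [← hn, hxz, hl]
        rw [hxz, hl] at hle
        omega
  obtain ⟨K, y, hgy, hcy⟩ := exists_rep S hth hU ho hrp c
  obtain ⟨x', hx', y', hy', hpar, hφ⟩ := parallel h hgy
  obtain ⟨z, hz, hz'⟩ := par_transfer hpar rfl (Δ.mem_Res_symm hx')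
  have hzy : z ∈ Δ.Res K y := Δ.mem_Res_trans hy' hz
  refine key _ K z (hgy.congr hzy) (by rw [Δ.Res_eq_of_mem hzy]; exact hcy) ?_ ?_ rfl
  · rw [hz']; exact hpar
  · rw [hz']; exact hφ

/-- opposite good residues -/
theorem m_of_opp (S : Sys Δ G p) {J K : Set I} {x y : C} {a c : Sylow p ↥t.cent}
    (ha : t.Rep S a (Δ.Res J x)) (hc : t.Rep S c (Δ.Res K y)) (hpar : Par cs J K (Δ.δ x y))
    (h : Δ.δ x y * wJ cs K = w0 cs) : m a c = 1 := by
  obtain ⟨z, hz⟩ := Δ.exists_δ y (wJ cs K)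
  have hzz : z ∈ Δ.Res K y := by rw [mem_Res, hz]; exact F.wJ_mem K
  have hopp : Δ.Opp x z := by
    have := Δ.δ_mul_of rfl hz (hpar.minR _ (F.wJ_mem K))
    rw [h] at this
    exact this
  rw [m_one_iff]
  intro u hu hu'
  have h1 := S.free x z hopp u ((ha u).1 hu x (Δ.self_mem_Res _ _)) (S.fix z u ((hc u).1 hu' z hzz))
  exact Subtype.ext h1

/-- the residue opposite -/
theorem exists_opposite (S : Sys Δ G p) (hth : Δ.Thick) (hU : t.HU S) (ho : t.Ord r) (hrp : r ≠ p) {J : Set I}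
    {x : C} (h : t.Gd J x) {a : Sylow p ↥t.cent} (ha : t.Rep S a (Δ.Res J x)) {c : Sylow p ↥t.cent}
    (hac : m a c = 1) :
    ∃ K y, t.Gd K y ∧ t.Rep S c (Δ.Res K y) ∧ Par cs J K (Δ.δ x y) ∧ t.φ (Δ.δ x y) = Δ.δ x y ∧
        Δ.δ x y * wJ cs K = w0 cs := by
  rcases up S hth hU ho hrp h ha c with ⟨Sg, hSg, hc, hg⟩ | h1
  · exfalso
    have hG := gsys S hth hU ho hrp (t := t)
    obtain ⟨b, hb, hb1, _⟩ := hG.three Sg hSg c hc c hc
    have h2 := gate_lt hG hSg hg hc hb hb1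
    rw [hac] at h2
    have := m_pos a b
    omega
  · exact h1

/-- Transitivity on the opposite Sylow subgroups. -/
theorem otr (S : Sys Δ G p) (hth : Δ.Thick) (hU : t.HU S) (ho : t.Ord r) (hrp : r ≠ p)
    (a c c' : Sylow p ↥t.cent) (hc : m a c = 1) (hc' : m a c' = 1) : ∃ u ∈ a, u • c = c' := by
  obtain ⟨J, x, hgx, hax⟩ := exists_rep S hth hU ho hrp a
  obtain ⟨K, y, hgy, hcy, hpar, hφ, hw⟩ := exists_opposite S hth hU ho hrp hgx hax hc
  obtain ⟨K', y', hgy', hcy', hpar', hφ', hw'⟩ := exists_opposite S hth hU ho hrp hgx hax hc'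
  have e1 : Δ.δ x y' = Δ.δ x y := by
    have h1 := hpar.longest
    have h2 := hpar'.longest
    rw [hw] at h1
    rw [hw'] at h2
    exact mul_left_cancel (h2.symm.trans h1)
  have e2 : K' = K := by
    rw [e1] at hpar'
    exact par_type hpar' hpar
  subst e2
  have hAd : Ad cs t.φ t.σ Set.univ J K' (Δ.δ x y) :=
    ⟨fun _ _ => Set.mem_univ _, hgx.st, hgy.st, Set.subset_univ _, Set.subset_univ _,
      by rw [WJ_univ]; trivial, hφ, hpar, hw⟩
  obtain ⟨u, huc, hu, -, huZ⟩ := trans_SS S hth ho hrp hgx (Δ.δ_self x) (par_one J) (isMinR_one cs Set.univ)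
    hAd (by rw [Δ.Res_univ]; trivial) (mem_SS_of_δ rfl) (mem_SS_of_δ e1) (image_Gd hgy) (image_Gd hgy')
  refine ⟨⟨u, huc⟩, (hax _).2 hu, ?_⟩
  have h1 := hcy.smul ⟨u, huc⟩
  have h2 : ((⟨u, huc⟩ : ↥t.cent) : G) • Δ.Res K' y = Δ.Res K' y' := huZ
  rw [h2] at h1
  exact h1.eq hcy'

/-- `Q` lies between the residues of `x0` and `z0`. -/
def Bt (t : Tw Δ G) (J : Set I) (x0 : C) (K : Set I) (z0 : C) (L : Set I) (y : C) : Prop :=
  ∃ x' ∈ Δ.Res J x0, ∃ y' ∈ Δ.Res L y, ∃ z' ∈ Δ.Res K z0, Par cs J L (Δ.δ x' y') ∧ Par cs L K (Δ.δ y' z') ∧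
    Δ.δ x' y' * wJ cs L * Δ.δ y' z' = w0 cs ∧ ℓ (Δ.δ x' y') + ℓ (wJ cs L) + ℓ (Δ.δ y' z') = ℓ (w0 cs)

/-- moving from `Res J'' y1` to `Res L y` -/
theorem Bt.move {J K J'' L T : Set I} {x0 x1 y1 z0 y u y2 : C} {v b : W} (hBt : Bt t J x0 K z0 J'' y1)
    (hx1 : x1 ∈ Δ.Res J x0) (hxy : Δ.δ x1 y1 = v) (hv : IsMinR cs T v) (hpv : Par cs J J'' v)
    (hAd : Ad cs t.φ t.σ T J'' L b) (hb : Δ.δ y1 y = b) (hu : u ∈ Δ.Res K z0) (hy2 : y2 ∈ Δ.Res L y)
    (hpu : Par cs K L (Δ.δ u y2)) (hmin : IsMinR cs T (Δ.δ u y2)) : Bt t J x0 K z0 L y := by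
  obtain ⟨x', hx', y', hy', z', hz', h1, h2, h3, h4⟩ := hBt
  have e1 : Δ.δ x' y' = v := by
    rw [← hxy]
    exact pos_unique (Δ.mem_Res_trans (Δ.mem_Res_symm hx1) hx') hy' (by rw [hxy]; exact hpv) h1
  rw [e1] at h3 h4
  -- the position of `y` from `z0`
  obtain ⟨u', hu', hu''⟩ := par_transfer hpu.symm (x := y2) (y := u) (a := y) (Δ.symm u y2)
    (Δ.mem_Res_symm hy2)
  have e2 : Δ.δ u' y = Δ.δ u y2 := by rw [Δ.symm y u', hu'', inv_inv]
  have e3 : Δ.δ y y1 = b⁻¹ := by rw [Δ.symm y1 y, hb]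
  have hbT : b⁻¹ ∈ WJ cs T := inv_mem hAd.mem
  have e4 : Δ.δ u' y1 = Δ.δ u y2 * b⁻¹ := Δ.δ_mul_of e2 e3 (hmin _ hbT)
  have hpar2 : Par cs K J'' (Δ.δ u' y1) := by
    rw [e4]; exact par_comp hpu hAd.par.symm hmin hAd.sub' hAd.sub'' hbT
  have e5 : Δ.δ z' y' = Δ.δ u' y1 := by
    refine pos_unique (J := K) (K := J'') ?_ hy' hpar2 ?_
    · refine Δ.mem_Res_trans ?_ hz'
      refine Δ.mem_Res_symm ?_
      exact Δ.mem_Res_trans hu hu'
    · rw [Δ.symm y' z']; exact h2.symm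
  have e6 : Δ.δ y' z' = b * (Δ.δ u y2)⁻¹ := by
    rw [Δ.symm z' y', e5, e4]; group
  rw [e6] at h3 h4
  have hl1 : ℓ (b * (Δ.δ u y2)⁻¹) = ℓ b + ℓ (Δ.δ u y2) := by
    have h5 := hmin _ hbT
    rw [← cs.length_inv (b * (Δ.δ u y2)⁻¹), mul_inv_rev, inv_inv, h5, cs.length_inv]
    omega
  have hl2 : ℓ (v * b) = ℓ v + ℓ b := hv b hAd.mem
  have e7 : Δ.δ x1 y = v * b := Δ.δ_mul_of hxy hb hl2
  have hlw : ℓ (wJ cs L) = ℓ (wJ cs J'') := by
    have h5 := hAd.par.minR _ (F.wJ_mem L)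
    have h6 := hAd.par.minL _ (F.wJ_mem J'')
    have h7 := hAd.par.longest
    rw [h7] at h5
    omega
  refine ⟨x1, hx1, y, Δ.self_mem_Res _ _, u', Δ.mem_Res_trans hu hu', ?_, ?_, ?_, ?_⟩
  · rw [e7]; exact par_comp hpv hAd.par hv hAd.sub'' hAd.sub' hAd.mem
  · rw [hu'']; exact hpu.symm
  · rw [e7, hu'']
    rw [← h3]
    have h5 := hAd.par.longest
    calc v * b * wJ cs L * (Δ.δ u y2)⁻¹ = v * (b * wJ cs L) * (Δ.δ u y2)⁻¹ := by group
      _ = v * wJ cs J'' * (b * (Δ.δ u y2)⁻¹) := by rw [h5]; group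
  · rw [e7, hu'', cs.length_inv, hl2]
    omega

/-- two residues between which there is nothing ascending on both sides -/
theorem Bt.sep {J K L T : Set I} {x0 z0 y x1 y1 u y2 : C} (hBt : Bt t J x0 K z0 L y)
    (hx1 : x1 ∈ Δ.Res J x0) (hy1 : y1 ∈ Δ.Res L y) (hp1 : Par cs J L (Δ.δ x1 y1)) (hm1 : IsMinR cs T (Δ.δ x1 y1))
    (hu : u ∈ Δ.Res K z0) (hy2 : y2 ∈ Δ.Res L y) (hp2 : Par cs K L (Δ.δ u y2)) (hm2 : IsMinR cs T (Δ.δ u y2))
    (hL : L ⊆ T) {i : I} (hiT : i ∈ T) (hiL : i ∉ L) : False := by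
  obtain ⟨x', hx', y', hy', z', hz', h1, h2, h3, h4⟩ := hBt
  have e1 : Δ.δ x' y' = Δ.δ x1 y1 :=
    pos_unique (Δ.mem_Res_trans (Δ.mem_Res_symm hx1) hx') (Δ.mem_Res_trans (Δ.mem_Res_symm hy1) hy') hp1 h1
  have e2 : Δ.δ z' y' = Δ.δ u y2 := by
    refine pos_unique (Δ.mem_Res_trans (Δ.mem_Res_symm hu) hz') (Δ.mem_Res_trans (Δ.mem_Res_symm hy2) hy') hp2 ?_
    rw [Δ.symm y' z']; exact h2.symm
  refine sep_cox hL hiT hiL h3 h4 ?_ ?_
  · rw [e1]; exact hm1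
  · rw [← Δ.symm y' z', e2]; exact hm2

theorem type_eq {J K : Set I} {x y : C} (h : Δ.Res J x = Δ.Res K y) : J = K := by
  have key : ∀ {J K : Set I} {x y : C}, Δ.Res J x = Δ.Res K y → J ⊆ K := by
    intro J K x y h i hi
    obtain ⟨z, hz⟩ := Δ.exists_δ x (cs.simple i)
    have h1 : z ∈ Δ.Res J x := by rw [mem_Res, hz]; exact simple_mem_WJ cs hi
    have h2 : x ∈ Δ.Res J x := Δ.self_mem_Res _ _
    rw [h] at h1 h2
    have h3 := Δ.δ_mem_of_mem_Res h2 h1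
    rw [hz] at h3
    exact mem_of_simple_mem h3
  exact Set.Subset.antisymm (key h) (key h.symm)

/-- the position of the gate -/
theorem gate_pos (S : Sys Δ G p) (hth : Δ.Thick) (hU : t.HU S) (ho : t.Ord r) (hrp : r ≠ p) {J L L' T : Set I}
    {x0 y z : C} {b : W} (hgx : t.Gd J x0) (hT : t.TP T y) (hz : z ∈ Δ.Res T y) (hPD : t.PD T L L' b z)
    {a x : Sylow p ↥t.cent} (ha : t.Rep S a (Δ.Res J x0)) (hx : t.Rep S x (Δ.Res L z))
    (hg : Gate a (t.PS S T y) x) :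
    ∃ u ∈ Δ.Res J x0, ∃ y2 ∈ Δ.Res L z, Par cs J L (Δ.δ u y2) ∧ IsMinR cs T (Δ.δ u y2) := by
  obtain ⟨K, K', b', hP⟩ := hT.pd
  obtain ⟨u, hu, J3, L3, b3, v3, y2, hy2, hv3, hp3, hm3, hPD3⟩ := exists_gate hgx hP
  obtain ⟨x3, hx3⟩ := rep_exists S hth hU ho hrp hPD3.gd
  have hG := gsys S hth hU ho hrp (t := t)
  have hSPa : t.PS S T y ∈ t.Pas S := ⟨T, y, hT, rfl⟩
  have ha' : t.Rep S a (Δ.Res J u) := by rw [Δ.Res_eq_of_mem hu]; exact ha
  have hg3 := gate_of_pos S hth hU ho hrp (hgx.congr hu) hT hy2 hv3 hp3 hm3 hPD3 ha' hx3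
  have hZ3 : Δ.Res J3 y2 ∈ t.Gds T y := ⟨J3, y2, hPD3.ad.sub'', hy2, hPD3.gd, rfl⟩
  have hZ : Δ.Res L z ∈ t.Gds T y := ⟨L, z, hPD.ad.sub'', hz, hPD.gd, rfl⟩
  have hxx := hG.gate_unique hSPa hg3 hg ⟨_, hZ3, hx3⟩ ⟨_, hZ, hx⟩
  rw [hxx] at hx3
  have hRes := rep_inj S hth hU ho hrp hT hZ3 hZ hx3 hx
  have hJL := type_eq hRes
  subst hJL
  refine ⟨u, hu, y2, ?_, by rw [hv3]; exact hp3, by rw [hv3]; exact hm3⟩
  rw [← hRes]
  exact Δ.self_mem_Res _ _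

theorem bt_all (S : Sys Δ G p) (hth : Δ.Thick) (hU : t.HU S) (ho : t.Ord r) (hrp : r ≠ p)
    (hD : ∀ {a c x g : Sylow p ↥t.cent} {Sg : Set (Sylow p ↥t.cent)}, m a c = 1 → Ap a c x → Sg ∈ t.Pas S →
      x ∈ Sg → g ∈ Sg → Gate a Sg g → x ≠ g → Gate c Sg x ∧ Ap a c g) {J K : Set I} {x0 z0 : C}
    (hgx : t.Gd J x0) (hgz : t.Gd K z0) {a c : Sylow p ↥t.cent} (ha : t.Rep S a (Δ.Res J x0))
    (hc : t.Rep S c (Δ.Res K z0)) (hac : m a c = 1) (hpar0 : Par cs J K (Δ.δ x0 z0))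
    (hw : Δ.δ x0 z0 * wJ cs K = w0 cs) (n : ℕ) : ∀ (x : Sylow p ↥t.cent), Ap a c x → ∀ (L : Set I) (y : C),
      t.Gd L y → t.Rep S x (Δ.Res L y) → ∀ x' ∈ Δ.Res J x0, Par cs J L (Δ.δ x' y) →
      t.φ (Δ.δ x' y) = Δ.δ x' y → ℓ (Δ.δ x' y) = n → Bt t J x0 K z0 L y := by
  induction n using Nat.strong_induction_on with
  | _ n ih =>
    intro x hx L y hgy hxy x' hx' hpar hφ hn
    by_cases hne : Δ.δ x' y = 1
    · have h1 := hpar
      rw [hne] at h1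
      have h2 := h1.eq_of_one
      have h3 := Δ.eq_of_δ_eq_one hne
      subst h2
      subst h3
      obtain ⟨z', hz', he⟩ := par_transfer hpar0 rfl hx'
      refine ⟨x', hx', x', Δ.self_mem_Res _ _, z', hz', hpar, by rw [he]; exact hpar0, ?_, ?_⟩
      · rw [hne, one_mul, he, ← hpar0.longest, hw]
      · rw [hne, cs.length_one, he, zero_add, ← hpar0.minL _ (F.wJ_mem J), ← hpar0.longest, hw]
    · have hgx' := hgx.congr hx'
      have ha' : t.Rep S a (Δ.Res J x') := by rw [Δ.Res_eq_of_mem hx']; exact ha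
      obtain ⟨T, J'', v, b, y1, h1, h2, h3, h4, h5, h6, h7, h8, h9, h10, h11⟩ :=
        exists_PD hgx' hgy hpar hφ hne
      obtain ⟨i, hiT, hiJ⟩ := exists_not_mem h7.ad h7.ne
      have hJy1 : Δ.Res J'' y1 ∈ t.Gds T y1 := ⟨J'', y1, h7.ad.sub'', Δ.self_mem_Res _ _, h7.gd, rfl⟩
      rcases tp_or_thin h7 h9 h10 with hT | hthin
      · obtain ⟨x1, hx1⟩ := rep_exists S hth hU ho hrp h7.gd
        have hg1 := gate_of_pos S hth hU ho hrp hgx' hT (Δ.self_mem_Res _ _) h1 h6 h4 h7 ha' hx1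
        have hSPa : t.PS S T y1 ∈ t.Pas S := ⟨T, y1, hT, rfl⟩
        have hne1 : x ≠ x1 := by
          rintro rfl
          exact h10 (rep_inj S hth hU ho hrp hT h9 hJy1 hxy hx1)
        obtain ⟨hcx, hap⟩ := hD hac hx hSPa ⟨_, h9, hxy⟩ ⟨_, hJy1, hx1⟩ hg1 hne1
        have hBt := ih (ℓ (Δ.δ x' y1)) (by rw [← hn, h1]; exact h3) x1 hap J'' y1 h7.gd hx1 x' hx'
          (by rw [h1]; exact h6) (by rw [h1]; exact h5) rfl
        obtain ⟨u, hu, y2, hy2, hp2, hm2⟩ := gate_pos S hth hU ho hrp hgz hT h11 h8 hc hxy hcx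
        exact hBt.move hx' h1 h4 h6 h7.ad h2 hu hy2 hp2 hm2
      · have hTC := h7.thin S h8 h11 h10 hthin
        have hx1 : t.Rep S x (Δ.Res J'' y1) := rep_of_TC S hTC hxy
        have hBt := ih (ℓ (Δ.δ x' y1)) (by rw [← hn, h1]; exact h3) x hx J'' y1 h7.gd hx1 x' hx'
          (by rw [h1]; exact h6) (by rw [h1]; exact h5) rfl
        obtain ⟨u, hu, J3, L3, b3, v3, y2, hy2, hv3, hp3, hm3, hPD3⟩ := exists_gate hgz h7
        rcases hthin _ ⟨J3, y2, hPD3.ad.sub'', hy2, hPD3.gd, rfl⟩ with hRes | hRes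
        · exfalso
          have hJ3 := type_eq hRes
          subst hJ3
          refine hBt.sep hx' (Δ.self_mem_Res _ _) (by rw [h1]; exact h6) (by rw [h1]; exact h4) hu
            (y2 := y2) ?_ (by rw [hv3]; exact hp3) (by rw [hv3]; exact hm3) h7.ad.sub'' hiT hiJ
          rw [← hRes]
          exact Δ.self_mem_Res _ _
        · have hJ3 := type_eq hRes
          subst hJ3
          refine hBt.move hx' h1 h4 h6 h7.ad h2 hu (y2 := y2) ?_ (by rw [hv3]; exact hp3) (by rw [hv3]; exact hm3)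
          rw [← hRes]
          exact Δ.self_mem_Res _ _

theorem Bt.congr {J K L : Set I} {x0 z0 y y' : C} (h : Bt t J x0 K z0 L y) (hy : y' ∈ Δ.Res L y) :
    Bt t J x0 K z0 L y' := by
  unfold Bt at *
  rw [Δ.Res_eq_of_mem hy]
  exact h

/-- **The gate system of the fixed points satisfies `DSys`.** -/
theorem dsys (S : Sys Δ G p) (hth : Δ.Thick) (hU : t.HU S) (ho : t.Ord r) (hrp : r ≠ p) :
    DSys (t.Pas S) (t.dd S) (Bs t S) where
  gs := gsys S hth hU ho hrp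
  inter := Cfsg.Agent.FixOdd.Tw.inter S hth
  le := fun a u hu J x _ ha => ha.smul_eq hu
  fix := fun a g hg => fix_of_Bs S hth hU ho hrp hg
  smul := by
    intro a g h hh J x hgd hrep
    have h1 : t.Gd J ((g : G)⁻¹ • x) := gd_smul S hgd (inv_mem g.2)
    have h2 : t.Rep S a (Δ.Res J ((g : G)⁻¹ • x)) := by
      have h3 := hrep.smul g⁻¹
      rw [inv_smul_smul] at h3
      have h4 : ((g⁻¹ : ↥t.cent) : G) • Δ.Res J x = Δ.Res J ((g : G)⁻¹ • x) := S.smul_Res _ J x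
      rwa [h4] at h3
    have h5 := hh J _ h1 h2
    have h6 : (g : G) • Δ.Res J ((g : G)⁻¹ • x) = Δ.Res J x := by
      rw [S.smul_Res, smul_inv_smul]
    change ((g : G) * (h : G) * (g : G)⁻¹) • Δ.Res J x = Δ.Res J x
    conv_lhs => rw [← h6]
    rw [mul_smul, mul_smul, inv_smul_smul, h5, h6]
  pan := by
    rintro a g hg _ ⟨T, y, hT, rfl⟩ ⟨Z, hZ, hrep⟩
    refine PS_of_Res S (Res_of_Gds S hZ ?_)
    obtain ⟨J, z, hJ, hz, hgd, rfl⟩ := hZ
    exact hg J z hgd hrep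
  mem := by
    rintro _ ⟨T, y, hT, rfl⟩ a ⟨Za, hZa, hra⟩ b ⟨Zb, hZb, hrb⟩ g hg hgb
    have h1 : (g : G) • Δ.Res T y = Δ.Res T y := by
      refine Res_of_Gds S hZa ?_
      obtain ⟨J, z, hJ, hz, hgd, rfl⟩ := hZa
      exact hg J z hgd hra
    have h2 := smul_mem_Gds S g.2 h1 hZb
    have h3 := hrb.smul g
    rw [hgb] at h3
    have h4 := rep_inj S hth hU ho hrp hT h2 hZb h3 hrb
    obtain ⟨J, z, hJ, hz, hgd, rfl⟩ := hZb
    exact mem_Bs S hth hU ho hrp hgd hrb h4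
  ker := by
    rintro _ ⟨T, y, hT, rfl⟩ a ⟨Za, hZa, hra⟩ g hg hga
    let K : Subgroup ↥t.cent :=
      { carrier := {g | (g : G) • Δ.Res T y = Δ.Res T y}
        one_mem' := by
          change (1 : G) • Δ.Res T y = Δ.Res T y
          rw [one_smul]
        mul_mem' := fun {g g'} hg hg' => by
          change ((g : G) * (g' : G)) • Δ.Res T y = Δ.Res T y
          have h1 : (g' : G) • Δ.Res T y = Δ.Res T y := hg'
          have h2 : (g : G) • Δ.Res T y = Δ.Res T y := hg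
          rw [mul_smul, h1, h2]
        inv_mem' := fun {g} hg => by
          change (g : G)⁻¹ • Δ.Res T y = Δ.Res T y
          have h2 : (g : G) • Δ.Res T y = Δ.Res T y := hg
          rw [inv_smul_eq_iff, h2] }
    have hle : LS (t.PS S T y) ≤ K := by
      refine LS_le ?_
      rintro x ⟨Z, hZ, hr⟩ u hu
      refine Res_of_Gds S hZ ?_
      obtain ⟨J, z, hJ, hz, hgd, rfl⟩ := hZ
      exact hr.smul_eq hu
    have h1 : (g : G) • Δ.Res T y = Δ.Res T y := hle hg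
    have h2 := smul_mem_Gds S g.2 h1 hZa
    have h3 := hra.smul g
    rw [hga] at h3
    have h4 := rep_inj S hth hU ho hrp hT h2 hZa h3 hra
    obtain ⟨J, z, hJ, hz, hgd, rfl⟩ := hZa
    exact mem_Bs S hth hU ho hrp hgd hra h4
  otr := otr S hth hU ho hrp
  max := by
    intro a c hac
    obtain ⟨J, x, hgd, hrep⟩ := exists_rep S hth hU ho hrp a
    rcases up S hth hU ho hrp hgd hrep c with h | ⟨K, y, hgy, hcy, hpar, -, hw⟩
    · exact h
    · exact absurd (m_of_opp S hrep hcy hpar hw) hac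
  sep := by
    rintro a c hac x hx _ ⟨T, y, hT, rfl⟩ ⟨Z, hZ, hxZ⟩ hga hgc
    obtain ⟨J, x0, hgx, hax⟩ := exists_rep S hth hU ho hrp a
    obtain ⟨K, z0, hgz, hcz, hpar0, -, hw⟩ := exists_opposite S hth hU ho hrp hgx hax hac
    obtain ⟨_, _, _, hP⟩ := hT.pd
    obtain ⟨L, L', b, z, rfl, hz, hPD⟩ := hP.of_mem hZ
    obtain ⟨i, hiT, hiL⟩ := exists_not_mem hPD.ad hPD.ne
    obtain ⟨x', hx', z', hz', hpar, hφ⟩ := parallel hgx hPD.gd
    have hBt : Bt t J x0 K z0 L z' := by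
      refine bt_all S hth hU ho hrp (fun h1 h2 h3 h4 h5 h6 h7 => ?_) hgx hgz hax hcz hac hpar0 hw _ x hx L z'
        (hPD.gd.congr hz') (by rw [Δ.Res_eq_of_mem hz']; exact hxZ) x' hx' hpar hφ rfl
      have h8 := gs_ap_step (gsys S hth hU ho hrp (t := t)) h1 h2 h3 h4 h5 h6 h7
      exact ⟨h8.1, h8.2.1⟩
    have hBt' := hBt.congr (Δ.mem_Res_symm hz')
    obtain ⟨u1, hu1, w1, hw1, hp1, hm1⟩ := gate_pos S hth hU ho hrp hgx hT hz hPD hax hxZ hga
    obtain ⟨u2, hu2, w2, hw2, hp2, hm2⟩ := gate_pos S hth hU ho hrp hgz hT hz hPD hcz hxZ hgc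
    exact hBt'.sep hu1 hw1 hp1 hm1 hu2 hw2 hp2 hm2 hPD.ad.sub'' hiT hiL

end Cfsg.Agent.H283.DescGeo
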