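import Mathlib
import Cfsg.Agent.FixOdd.Inst
import Cfsg.Agent.H283.DescGeo
import Cfsg.Agent.H283.DescBN
/-!
# THEOREM DESC: the (B,N)-pair of the fixed points

`exists_dsys` : `K` with a split (B,N)-pair of characteristic `p`, `x` an automorphism of `K` with `x ^ r = 1`, `r ≠ p`
prime: the Sylow `p`-subgroups of `C_K(x)` form a gate system satisfying `DSys`.
`exists_bn` : the group generated by the `p`-elements of `C_K(x)` has a (B,N)-pair, `B = U (B ∩ N)` with `U` a Sylow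
`p`-subgroup.
-/

set_option autoImplicit false
set_option linter.unusedSectionVars false

open scoped Pointwise

namespace Cfsg.Agent.H283.DescInst

open Cfsg.Agent.Tits.Core Cfsg.Agent.Tits.Core.Bldg Cfsg.Agent.Tits.OfBN Cfsg.Agent.Schreier.BNSch
open Cfsg.Agent.FixBN (HasSplit Split)
open Cfsg.Agent.BpGate Cfsg.Agent.FixOdd Cfsg.Agent.H283.Desc
open Cfsg.Agent.BpTab Cfsg.Agent.Schreier.Basic

variable {K : Type*} [Group K] [Finite K] {p r : ℕ} [hp : Fact p.Prime] [hr : Fact r.Prime]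

/-- **The gate system** of the fixed points. -/
theorem exists_dsys (hrp : r ≠ p) (h : HasSplit p K) (x : MulAut K) (hx : x ^ r = 1) :
    ∃ (Pa : Set (Set (Sylow p ↥(fixedSubgroup x)))) (d : Sylow p ↥(fixedSubgroup x) → Sylow p ↥(fixedSubgroup x) → ℕ)
      (Bs : Sylow p ↥(fixedSubgroup x) → Subgroup ↥(fixedSubgroup x)),
      DSys Pa d Bs ∧ ∃ a c : Sylow p ↥(fixedSubgroup x), m a c = 1 := by
  obtain ⟨P, U, -, h⟩ := h
  have hN : ((P.B ⊓ P.N).subgroupOf P.N).Normal := normal_subgroupOf P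
  obtain ⟨M, cs, hcs⟩ := S0320.result P
  obtain ⟨t, ht, hto⟩ := exists_tw h (Equiv.refl P.S) cs hcs x
  have hI : Finite P.S := FixBN.OfBN.finite_I (Equiv.refl P.S)
  have hth := thick P (Equiv.refl P.S) cs hcs
  have ho : t.Ord r := ⟨by rw [ht]; exact hx, hto r hx⟩
  have hcent : t.cent = fixedSubgroup x := by
    ext g
    rw [t.mem_cent, ht]
    exact Iff.rfl
  let S := FixBN.OfBN.sys (Equiv.refl P.S) cs hcs h
  have hU : t.HU S := fun V hV hVp => Tw.exists_UR_smith S hth ho hV hVp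
  rw [← hcent]
  refine ⟨t.Pas S, t.dd S, DescGeo.Bs t S, DescGeo.dsys S hth hU ho hrp, ?_⟩
  obtain ⟨a, b, hab⟩ := Tw.opp S hth hU ho hrp
  refine ⟨a, b, ?_⟩
  unfold m
  rw [hab, Subgroup.card_bot]

/-- The conclusion of THEOREM DESC for the group `H`. -/
def DescBN (p : ℕ) (H : Type*) [Group H] : Prop :=
  ∃ (P : Cfsg.BNPair ↥(Hp p H)) (U : Subgroup ↥(Hp p H)) (a : Sylow p H), U = (a : Subgroup H).subgroupOf (Hp p H) ∧
    IsPGroup p U ∧ U ≤ P.B ∧
    (∀ b ∈ P.B, ∀ u ∈ U, b * u * b⁻¹ ∈ U) ∧ (∀ b ∈ P.B, ∃ u ∈ U, ∃ t ∈ P.B ⊓ P.N, b = u * t)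

theorem of_dsys {H : Type*} [Group H] [Finite H] {Pa : Set (Set (Sylow p H))} {d : Sylow p H → Sylow p H → ℕ}
    {Bs : Sylow p H → Subgroup H} (hD : DSys Pa d Bs) {a c : Sylow p H} (hac : m a c = 1) : DescBN p H := by
  refine ⟨hD.bn hac, (a : Subgroup H).subgroupOf (Hp p H), a, rfl, a.isPGroup'.comap_subtype, ?_, ?_,
    fun b hb => hD.bn_split hac hb⟩
  · intro u hu
    exact Subgroup.mem_subgroupOf.2 (hD.le a _ (Subgroup.mem_subgroupOf.1 hu))
  · intro b hb u hu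
    have h1 := hD.fix a _ (Subgroup.mem_subgroupOf.1 hb)
    have h2 : (b : H) * u * (b : H)⁻¹ ∈ (b : H) • a := by
      rw [Cfsg.Agent.FixBN.Gates.mem_smul_iff]
      have e1 : (b : H)⁻¹ * ((b : H) * u * (b : H)⁻¹) * b = u := by group
      rw [e1]; exact hu
    rw [h1] at h2
    exact h2

/-- **THEOREM DESC** -/
theorem exists_bn (hrp : r ≠ p) (h : HasSplit p K) (x : MulAut K) (hx : x ^ r = 1) :
    DescBN p ↥(fixedSubgroup x) := by
  obtain ⟨Pa, d, Bs, hD, a, c, hac⟩ := exists_dsys hrp h x hx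
  exact of_dsys hD hac

end Cfsg.Agent.H283.DescInst
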