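import Mathlib
import Cfsg.Agent.H283.DescInst
import Cfsg.Agent.H283.DescQuot
import Cfsg.Prelude.Def_CaseTheorems
/-!
# THEOREM DESC: the (B,N)-pair of a component

`comp_bn` : a quasisimple subgroup `A` of the group `Hp p H` generated by the `p`-elements of `H`, such that the
`p`-elements of `H` induce inner automorphisms on `A`: `A / Z(A)` has a (B,N)-pair with `B = U (B ∩ N)`, `U` a normal
`p`-subgroup of `B`.
-/

set_option autoImplicit false
set_option linter.unusedSectionVars false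

open scoped Pointwise

namespace Cfsg.Agent.H283.DescComp

open Cfsg Cfsg.Agent.BpGate Cfsg.Agent.H283.DescInst Cfsg.Agent.H283.DescQuot

variable {H : Type*} [Group H] [Finite H] {p : ℕ} [hp : Fact p.Prime]

/-- The homomorphism onto `A / Z(A)`. -/
theorem exists_hom {G : Subgroup H} {A : Subgroup H} (hle : A ≤ G)
    (hin : G ≤ A ⊔ Subgroup.centralizer (A : Set H)) :
    ∃ f : ↥G →* ↥A ⧸ Subgroup.center ↥A, Function.Surjective f ∧
      (∀ j : ↥A, f ⟨j, hle j.2⟩ = QuotientGroup.mk j) ∧ ∀ g : ↥G, f g = 1 ↔ (g : H) ∈ Subgroup.centralizer (A : Set H) := by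
  set X : Subgroup ↥G := (Subgroup.centralizer (A : Set H)).subgroupOf G with hX
  have hXn : X.Normal := by
    refine ⟨fun x hx g => ?_⟩
    obtain ⟨j, hj, c, hc, hg⟩ := exists_mul_of_mem_sup (hin g.2)
    rw [Subgroup.mem_subgroupOf] at hx ⊢
    rw [Subgroup.mem_centralizer_iff] at hx ⊢
    intro y hy
    have h1 : j⁻¹ * y * j ∈ A := mul_mem (mul_mem (inv_mem hj) hy) hj
    have hc' := Subgroup.mem_centralizer_iff.1 hc (j⁻¹ * y * j) h1
    have hx' := hx (j⁻¹ * y * j) h1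
    have hc'' : c⁻¹ * (j⁻¹ * y * j) * c = j⁻¹ * y * j := by
      rw [mul_assoc, hc']; group
    -- g = j c
    have e1 : ((g * x * g⁻¹ : ↥G) : H) = j * c * x * c⁻¹ * j⁻¹ := by
      simp only [Subgroup.coe_mul, Subgroup.coe_inv]
      rw [hg]; group
    rw [e1]
    have hcx : c⁻¹ * (j⁻¹ * y * j) = (j⁻¹ * y * j) * c⁻¹ := by
      have := hc'
      calc c⁻¹ * (j⁻¹ * y * j) = c⁻¹ * ((j⁻¹ * y * j) * c) * c⁻¹ := by group
        _ = c⁻¹ * (c * (j⁻¹ * y * j)) * c⁻¹ := by rw [this]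
        _ = _ := by group
    calc y * (j * c * x * c⁻¹ * j⁻¹) = j * ((j⁻¹ * y * j) * c) * x * c⁻¹ * j⁻¹ := by group
      _ = j * (c * (j⁻¹ * y * j)) * x * c⁻¹ * j⁻¹ := by rw [hc']
      _ = j * c * ((j⁻¹ * y * j) * x) * c⁻¹ * j⁻¹ := by group
      _ = j * c * (x * (j⁻¹ * y * j)) * c⁻¹ * j⁻¹ := by rw [hx']
      _ = j * c * x * ((j⁻¹ * y * j) * c⁻¹) * j⁻¹ := by group
      _ = j * c * x * (c⁻¹ * (j⁻¹ * y * j)) * j⁻¹ := by rw [hcx]
      _ = j * c * x * c⁻¹ * j⁻¹ * y := by group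
  let φ : ↥A →* ↥G ⧸ X := (QuotientGroup.mk' X).comp (Subgroup.inclusion hle)
  have hker : φ.ker = Subgroup.center ↥A := by
    ext a
    rw [MonoidHom.mem_ker, Subgroup.mem_center_iff]
    change (QuotientGroup.mk (Subgroup.inclusion hle a) : ↥G ⧸ X) = 1 ↔ _
    rw [QuotientGroup.eq_one_iff, Subgroup.mem_subgroupOf, Subgroup.mem_centralizer_iff]
    constructor
    · intro h b
      exact Subtype.ext (h b b.2)
    · intro h b hb
      exact congrArg Subtype.val (h ⟨b, hb⟩)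
  have hsurj : Function.Surjective φ := by
    intro y
    obtain ⟨g, rfl⟩ := QuotientGroup.mk_surjective y
    obtain ⟨j, hj, c, hc, hg⟩ := exists_mul_of_mem_sup (hin g.2)
    refine ⟨⟨j, hj⟩, ?_⟩
    change (QuotientGroup.mk (Subgroup.inclusion hle ⟨j, hj⟩) : ↥G ⧸ X) = QuotientGroup.mk g
    rw [QuotientGroup.eq, Subgroup.mem_subgroupOf]
    change j⁻¹ * (g : H) ∈ Subgroup.centralizer (A : Set H)
    rw [hg, inv_mul_cancel_left]
    exact hc
  let e : ↥A ⧸ Subgroup.center ↥A ≃* ↥G ⧸ X :=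
    (QuotientGroup.quotientMulEquivOfEq hker.symm).trans (QuotientGroup.quotientKerEquivOfSurjective φ hsurj)
  have he : ∀ j : ↥A, e (QuotientGroup.mk j) = QuotientGroup.mk (Subgroup.inclusion hle j) := fun j => rfl
  refine ⟨e.symm.toMonoidHom.comp (QuotientGroup.mk' X), e.symm.surjective.comp (QuotientGroup.mk'_surjective X),
    fun j => ?_, fun g => ?_⟩
  · change e.symm (QuotientGroup.mk (⟨j, hle j.2⟩ : ↥G)) = QuotientGroup.mk j
    rw [MulEquiv.symm_apply_eq]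
    exact (he j).symm
  · change e.symm (QuotientGroup.mk g) = 1 ↔ _
    rw [MulEquiv.symm_apply_eq, map_one, QuotientGroup.eq_one_iff, Subgroup.mem_subgroupOf]

/-- The conclusion: a (B,N)-pair of characteristic `p` and positive rank. -/
def CharBN (p : ℕ) (Q : Type*) [Group Q] : Prop :=
  ∃ (P : BNPair Q) (U : Subgroup Q), P.S.Nonempty ∧ IsPGroup p U ∧ U ≤ P.B ∧
    (∀ b ∈ P.B, ∀ u ∈ U, b * u * b⁻¹ ∈ U) ∧ (∀ b ∈ P.B, ∃ u ∈ U, ∃ t ∈ P.B ⊓ P.N, b = u * t)

theorem CharBN.isSplit {Q : Type*} [Group Q] [Finite Q] (h : CharBN p Q) :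
    ∃ P : BNPair Q, 1 ≤ P.rank ∧ P.IsSplit := by
  obtain ⟨P, U, hS, hU, hUB, hn, hc⟩ := h
  refine ⟨P, ?_, U, hUB, hn, hU.isNilpotent, ?_⟩
  · unfold BNPair.rank
    have : Nonempty P.S := hS.to_subtype
    exact Nat.card_pos
  · refine le_antisymm (sup_le hUB inf_le_left) fun b hb => ?_
    obtain ⟨u, hu, t, ht, rfl⟩ := hc b hb
    exact mul_mem (Subgroup.mem_sup_left hu) (Subgroup.mem_sup_right ht)

/-- **THEOREM DESC for a component.** -/
theorem comp_bn (h : DescBN p H) {A : Subgroup H} (hA : IsQuasisimple ↥A) (hle : A ≤ Hp p H)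
    (hin : ∀ b : Sylow p H, ∀ u ∈ b, u ∈ A ⊔ Subgroup.centralizer (A : Set H)) :
    CharBN p (↥A ⧸ Subgroup.center ↥A) := by
  obtain ⟨P, U, a, rfl, hU, hUB, hn, hc⟩ := h
  have hHp : Hp p H ≤ A ⊔ Subgroup.centralizer (A : Set H) := iSup_le fun b u hu => hin b u hu
  obtain ⟨f, hf, hfj, hf1⟩ := exists_hom hle hHp
  have hs := hA.2
  have hperf : Group.IsPerfect (↥A ⧸ Subgroup.center ↥A) := by
    have := hA.1
    exact Group.IsPerfect.ofSurjective (QuotientGroup.mk'_surjective (Subgroup.center ↥A))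
  set U := (a : Subgroup H).subgroupOf (Hp p H) with hUdef
  refine ⟨quo P f hf, U.map f, ?_, hU.map f, Subgroup.map_mono hUB, ?_, quo_split P f hf hc⟩
  · by_contra hS
    rw [Set.not_nonempty_iff_eq_empty] at hS
    have hBtop : (quo P f hf).B = ⊤ := by
      have h1 := (quo P f hf).closure_sup
      rw [hS, Subgroup.closure_empty, bot_sup_eq] at h1
      have h2 : (quo P f hf).N ≤ (quo P f hf).B := by rw [← h1]; exact inf_le_left
      have h3 := (quo P f hf).sup_eq_top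
      rwa [sup_eq_left.2 h2] at h3
    have hnorm : (U.map f).Normal := by
      refine ⟨?_⟩
      rintro _ ⟨u, hu, rfl⟩ y
      have hy : y ∈ (quo P f hf).B := by rw [hBtop]; trivial
      obtain ⟨b, hb, rfl⟩ := hy
      exact ⟨b * u * b⁻¹, hn b hb u hu, by rw [map_mul, map_mul, map_inv]⟩
    rcases IsSimpleGroup.eq_bot_or_eq_top_of_normal _ hnorm with h1 | h1
    · -- `a` centralises `A`, so all the Sylow subgroups do
      have h2 : Hp p H ≤ Subgroup.centralizer (A : Set H) := by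
        refine iSup_le fun b => ?_
        intro u hu
        have hle1 : (a : Subgroup H) ≤ Hp p H := le_Hp a
        have hle2 : (b : Subgroup H) ≤ Hp p H := le_Hp b
        obtain ⟨g, hg⟩ := MulAction.exists_smul_eq ↥(Hp p H) (a.subtype hle1) (b.subtype hle2)
        have hu' : (⟨u, hle2 hu⟩ : ↥(Hp p H)) ∈ b.subtype hle2 := hu
        rw [← hg, Cfsg.Agent.FixBN.Gates.mem_smul_iff] at hu'
        have h3 : f (g⁻¹ * ⟨u, hle2 hu⟩ * g) = 1 := by
          have h4 : f (g⁻¹ * ⟨u, hle2 hu⟩ * g) ∈ U.map f := ⟨_, hu', rfl⟩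
          rwa [h1, Subgroup.mem_bot] at h4
        rw [map_mul, map_mul, map_inv] at h3
        have h5 : f ⟨u, hle2 hu⟩ = 1 := by
          have h6 := congrArg (fun z => f g * z * (f g)⁻¹) h3
          simp only [mul_one, mul_inv_cancel] at h6
          have e1 : f g * ((f g)⁻¹ * f ⟨u, hle2 hu⟩ * f g) * (f g)⁻¹ = f ⟨u, hle2 hu⟩ := by group
          rwa [e1] at h6
        exact (hf1 _).1 h5
      obtain ⟨y, hy⟩ := exists_ne (1 : ↥A ⧸ Subgroup.center ↥A)
      obtain ⟨g, rfl⟩ := hf y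
      exact hy ((hf1 g).2 (h2 g.2))
    · have h2 : IsPGroup p ↥(⊤ : Subgroup (↥A ⧸ Subgroup.center ↥A)) := h1 ▸ hU.map f
      have h3 : IsPGroup p (↥A ⧸ Subgroup.center ↥A) := h2.of_equiv Subgroup.topEquiv
      have h4 : Group.IsNilpotent (↥A ⧸ Subgroup.center ↥A) := h3.isNilpotent
      exact Group.IsPerfect.not_isSolvable (↥A ⧸ Subgroup.center ↥A) inferInstance
  · rintro _ ⟨b, hb, rfl⟩ _ ⟨u, hu, rfl⟩
    exact ⟨b * u * b⁻¹, hn b hb u hu, by rw [map_mul, map_mul, map_inv]⟩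

end Cfsg.Agent.H283.DescComp
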