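import Cfsg.Agent.H841.SylFiveD
import Cfsg.Agent.CpAut.TwoAll
/-!
# `Fi₂₂`: the Sylow 5-subgroups are self-centralizing (helper283)
-/

set_option autoImplicit false

namespace Cfsg.Agent.H283.FiFive

open Cfsg Cfsg.Spor Cfsg.Agent.R01 Cfsg.Agent.R08 Cfsg.Agent.R08.FiTwentyFour
open Cfsg.Agent.R08.TetBasic Cfsg.Agent.R08.TetFi24A
open Subgroup Equiv

set_option synthInstance.maxHeartbeats 400000 in
set_option synthInstance.maxSize 1000 in
/-- a four-group of `S₄` is self-centralizing -/
theorem four : ∀ a b s : Perm (Fin 4), a * a = 1 → a ≠ 1 → b * b = 1 → b ≠ 1 → a ≠ b → a * b = b * a →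
    s * a = a * s → s * b = b * s → s = 1 ∨ s = a ∨ s = b ∨ s = a * b := by
  decide +kernel

/-- **`C(E) ≤ E` for the Sylow 5-subgroups `E` of `Fi₂₂`.** -/
theorem cent_le [Finite Fi22] (E : Sylow 5 Fi22) : centralizer ((E : Subgroup Fi22) : Set Fi22) ≤ E := by
  have := finite_Fi24
  have hp : Fact (Nat.Prime 5) := ⟨by norm_num⟩
  -- two commuting transpositions
  have hl : Fischer.Fi24Class.gen .l ∈ L := IsConj.refl _
  obtain ⟨b, hb, hne, hc⟩ : ∃ b ∈ L, b ≠ Fischer.Fi24Class.gen .l ∧ Commute b (Fischer.Fi24Class.gen .l) := by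
    have h1 : {c | c ∈ L ∧ c ≠ Fischer.Fi24Class.gen .l ∧ Commute c (Fischer.Fi24Class.gen .l)}.Nonempty :=
      Set.nonempty_of_ncard_ne_zero (by rw [ncard_commuting hl]; norm_num)
    obtain ⟨b, h1, h2, h3⟩ := h1
    exact ⟨b, h1, h2, h3⟩
  obtain ⟨P⟩ := exists_at hl hb hne.symm hc.symm
  generalize Fischer.Fi24Class.gen .l = a at P hl hne hc
  have hzz : (P.z : Fi24) = a * b := P.hz
  have haa : a * a = 1 := sq hl
  have hbb : b * b = 1 := sq hb
  have hab : a * b = b * a := P.ab.eq
  have hz2 : P.z * P.z = 1 := by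
    apply Subtype.ext
    show (P.z : Fi24) * (P.z : Fi24) = 1
    rw [hzz]
    calc a * b * (a * b) = a * (b * a) * b := by group
      _ = a * (a * b) * b := by rw [hab]
      _ = (a * a) * (b * b) := by group
      _ = 1 := by rw [haa, hbb, one_mul]
  have hz1 : P.z ≠ 1 := by
    intro h
    have h1 : a * b = 1 := by rw [← hzz, h]; rfl
    apply P.ne
    calc a = a * (b * b) := by rw [hbb, mul_one]
      _ = (a * b) * b := by group
      _ = b := by rw [h1, one_mul]
  -- the orders
  have hE : Nat.card ↥(E : Subgroup Fi22) = 25 := by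
    rw [E.card_eq_multiplicity, Fi22Facts.card]
    have : (64561751654400 : ℕ).factorization 5 = 2 := by
      rw [Nat.factorization_def _ (by norm_num : Nat.Prime 5)]
      have h1 : (64561751654400 : ℕ) = 5 ^ 2 * 2582470066176 := by norm_num
      rw [h1, padicValNat.mul (by norm_num) (by norm_num), padicValNat.prime_pow,
        padicValNat.eq_zero_of_not_dvd (by norm_num)]
    rw [this]
    norm_num
  have hker : ∀ x : Cab a b, P.π x = 1 → x = 1 ∨ x = P.z := by
    intro x hx
    rcases P.lift.ext.map_eq.1 (show P.π x = P.π 1 by rw [hx, map_one]) with h | h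
    · exact Or.inl h
    · rw [one_mul] at h
      exact Or.inr h
  have hzc : ∀ x : Cab a b, x * P.z = P.z * x := by
    intro x
    have hx := mem_Cab.1 x.2
    apply Subtype.ext
    show (x : Fi24) * (P.z : Fi24) = (P.z : Fi24) * (x : Fi24)
    rw [hzz]
    calc (x : Fi24) * (a * b) = (x * a) * b := by group
      _ = (a * x) * b := by rw [hx.2.1]
      _ = a * (x * b) := by group
      _ = a * (b * x) := by rw [hx.2.2]
      _ = a * b * x := by group
  -- the kernel
  have hk2 : Nat.card ↥P.π.ker = 2 := by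
    rw [Nat.card_eq_two_iff]
    refine ⟨1, ⟨P.z, ?_⟩, fun h => hz1 (congrArg Subtype.val h).symm, ?_⟩
    · have h1 : P.π (1 * P.z) = P.π 1 := P.lift.ext.map_eq.2 (Or.inr rfl)
      rw [one_mul, map_one] at h1
      exact h1
    · rw [Set.eq_univ_iff_forall]
      rintro ⟨x, hx⟩
      rcases hker x hx with h | h
      · left
        exact Subtype.ext h
      · right
        exact Subtype.ext h
  -- the preimage of `E`
  let M : Subgroup (Cab a b) := (E : Subgroup Fi22).comap P.π
  have hM : Nat.card ↥M = 2 * 25 := by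
    have h1 : M.index = (E : Subgroup Fi22).index := index_comap_of_surjective _ P.lift.ext.surj
    have h2 := M.card_mul_index
    have h3 := (E : Subgroup Fi22).card_mul_index
    have h4 : Nat.card ↥(Cab a b) = Nat.card Fi22 * 2 := by
      rw [P.π.ker.card_eq_card_quotient_mul_card_subgroup, hk2,
        Nat.card_congr (QuotientGroup.quotientKerEquivOfSurjective P.π P.lift.ext.surj).toEquiv]
    have h5 : 0 < (E : Subgroup Fi22).index := Nat.pos_of_ne_zero index_ne_zero_of_finite
    rw [h1, h4, ← h3, hE] at h2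
    exact Nat.eq_of_mul_eq_mul_right h5 (by rw [h2]; ring)
  obtain ⟨F⟩ : Nonempty (Sylow 5 ↥M) := inferInstance
  have hF : Nat.card ↥(F : Subgroup ↥M) = 25 := by
    rw [F.card_eq_multiplicity, hM]
    have : (2 * 25 : ℕ).factorization 5 = 2 := by
      rw [Nat.factorization_def _ (by norm_num : Nat.Prime 5)]
      have h1 : (2 * 25 : ℕ) = 5 ^ 2 * 2 := by norm_num
      rw [h1, padicValNat.mul (by norm_num) (by norm_num), padicValNat.prime_pow,
        padicValNat.eq_zero_of_not_dvd (by norm_num)]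
    rw [this]
    norm_num
  let F1 : Subgroup (Cab a b) := (F : Subgroup ↥M).map M.subtype
  let F2 : Subgroup Fi24 := F1.map (Cab a b).subtype
  have hF1 : Nat.card ↥F1 = 25 := by
    rw [card_map_of_injective M.subtype_injective, hF]
  have hF2 : Nat.card ↥F2 = 25 := by
    rw [card_map_of_injective (Cab a b).subtype_injective, hF1]
  -- it is a Sylow subgroup of `Fi24`
  let E24 : Sylow 5 Fi24 := Sylow.ofCard F2 (by
    rw [hF2, H841.Five.fac]
    norm_num)
  have hE24 : (E24 : Subgroup Fi24) = F2 := rfl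
  obtain ⟨-, -, ⟨φ⟩, -, hcomm, hsup, -⟩ := H841.Five.main (MulEquiv.refl Fi24) (D := L) (by
    rw [MulEquiv.coe_refl, Set.image_id]) E24
  generalize hS : closure (L ∩ (centralizer ((E24 : Subgroup Fi24) : Set Fi24) : Set Fi24)) = S at φ hcomm hsup
  rw [hE24] at hcomm hsup hS
  -- facts about `F2`
  have memF2 : ∀ f ∈ F2, ∃ x : Cab a b, (x : Fi24) = f ∧ P.π x ∈ (E : Subgroup Fi22) ∧ x ∈ F1 := by
    rintro f ⟨x, hx, rfl⟩
    obtain ⟨y, hy, rfl⟩ := hx
    exact ⟨_, rfl, y.2, ⟨y, hy, rfl⟩⟩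
  have hF5 : ∀ x ∈ F1, orderOf x ∣ 25 := by
    intro x hx
    have h1 : orderOf (⟨x, hx⟩ : ↥F1) ∣ Nat.card ↥F1 := orderOf_dvd_natCard _
    rwa [Subgroup.orderOf_mk, hF1] at h1
  have haC : a ∈ L ∩ (centralizer (F2 : Set Fi24) : Set Fi24) := by
    refine ⟨hl, mem_centralizer_iff.2 fun f hf => ?_⟩
    obtain ⟨x, rfl, -, -⟩ := memF2 f hf
    exact (mem_Cab.1 x.2).2.1
  have hbC : b ∈ L ∩ (centralizer (F2 : Set Fi24) : Set Fi24) := by
    refine ⟨hb, mem_centralizer_iff.2 fun f hf => ?_⟩
    obtain ⟨x, rfl, -, -⟩ := memF2 f hf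
    exact (mem_Cab.1 x.2).2.2
  have haS : a ∈ S := by rw [← hS]; exact subset_closure haC
  have hbS : b ∈ S := by rw [← hS]; exact subset_closure hbC
  have ha1 : a ≠ 1 := fun h => odd hl (by rw [h]; exact one_mem _)
  have hb1 : b ≠ 1 := fun h => odd hb (by rw [h]; exact one_mem _)
  -- the centralizer of `a`, `b` in `S`
  have hcen : ∀ s ∈ S, s * a = a * s → s * b = b * s → s = 1 ∨ s = a ∨ s = b ∨ s = a * b := by
    intro s hs h1 h2
    have hi : ∀ x y : ↥S, φ x = φ y → x = y := fun x y h => φ.injective h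
    have h3 := four (φ ⟨a, haS⟩) (φ ⟨b, hbS⟩) (φ ⟨s, hs⟩)
      (by rw [← map_mul]; exact (congrArg φ (Subtype.ext haa)).trans (map_one φ))
      (fun h => ha1 (congrArg Subtype.val (φ.injective (h.trans (map_one φ).symm))))
      (by rw [← map_mul]; exact (congrArg φ (Subtype.ext hbb)).trans (map_one φ))
      (fun h => hb1 (congrArg Subtype.val (φ.injective (h.trans (map_one φ).symm))))
      (fun h => P.ne (congrArg Subtype.val (φ.injective h)))
      (by rw [← map_mul, ← map_mul]; exact congrArg φ (Subtype.ext hab))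
      (by rw [← map_mul, ← map_mul]; exact congrArg φ (Subtype.ext h1))
      (by rw [← map_mul, ← map_mul]; exact congrArg φ (Subtype.ext h2))
    rcases h3 with h3 | h3 | h3 | h3
    · exact Or.inl (congrArg Subtype.val (φ.injective (h3.trans (map_one φ).symm)))
    · exact Or.inr (Or.inl (congrArg Subtype.val (φ.injective h3)))
    · exact Or.inr (Or.inr (Or.inl (congrArg Subtype.val (φ.injective h3))))
    · rw [← map_mul] at h3
      exact Or.inr (Or.inr (Or.inr (congrArg Subtype.val (φ.injective h3))))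
  -- the theorem
  intro c hc'
  obtain ⟨g, rfl⟩ := P.lift.ext.surj c
  have hgF : ∀ x ∈ F1, g * x = x * g := by
    intro x hx
    have hxE : P.π x ∈ (E : Subgroup Fi22) := by
      obtain ⟨y, -, rfl⟩ := hx
      exact y.2
    have h1 := mem_centralizer_iff.1 hc' _ hxE
    have h2 : P.π (g * x * g⁻¹) = P.π x := by
      rw [map_mul, map_mul, map_inv, ← h1]
      group
    rcases P.lift.ext.map_eq.1 h2 with h3 | h3
    · exact mul_inv_eq_iff_eq_mul.1 h3
    · exfalso
      have h4 : (g * x * g⁻¹) ^ 25 = 1 := by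
        rw [conj_pow, orderOf_dvd_iff_pow_eq_one.1 (hF5 x hx), mul_one, mul_inv_cancel]
      have h5 : Commute x P.z := hzc x
      rw [h3, h5.mul_pow, orderOf_dvd_iff_pow_eq_one.1 (hF5 x hx), one_mul,
        show (25 : ℕ) = 2 * 12 + 1 by norm_num, pow_succ, pow_mul, pow_two, hz2, one_pow, one_mul] at h4
      exact hz1 h4
  have hgC : (g : Fi24) ∈ F2 ⊔ S := by
    rw [hsup, mem_centralizer_iff]
    rintro f ⟨x, hx, rfl⟩
    exact (congrArg Subtype.val (hgF x hx)).symm
  have hFn : ∀ x ∈ F2, ∀ y ∈ S, x * y = y * x := hcomm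
  obtain ⟨e, he, s, hs, hes⟩ : ∃ e ∈ F2, ∃ s ∈ S, e * s = g := by
    have h1 : S ≤ normalizer (F2 : Set Fi24) := by
      intro y hy
      rw [mem_normalizer_iff]
      intro x
      constructor
      · intro hx
        rw [← hFn x hx y hy, mul_inv_cancel_right]
        exact hx
      · intro hx
        have h2 := hFn _ hx y hy
        have h3 : y * x * y⁻¹ = x := by
          have h4 : y * x = y * (y * x * y⁻¹) := by rw [← h2]; group
          exact (mul_left_cancel h4).symm
        rwa [h3] at hx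
    have h2 := coe_mul_of_right_le_normalizer_left F2 S h1
    have h3 : (g : Fi24) ∈ ((F2 ⊔ S : Subgroup Fi24) : Set Fi24) := hgC
    rw [h2] at h3
    exact Set.mem_mul.1 h3
  obtain ⟨x, rfl, hxE, hx1⟩ := memF2 e he
  have hs' : s = ((x⁻¹ * g : Cab a b) : Fi24) := by
    show s = (x : Fi24)⁻¹ * (g : Fi24)
    rw [← hes]
    group
  have hsC := mem_Cab.1 (x⁻¹ * g).2
  rw [← hs'] at hsC
  have hodd : ∀ d ∈ L, d ≠ ((x⁻¹ * g : Cab a b) : Fi24) := by
    intro d hd h
    exact odd hd (mem_commutator_iff.2 (by rw [h]; exact (mem_Cab.1 (x⁻¹ * g).2).1))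
  have hfin : P.π (x⁻¹ * g) = 1 → P.π g ∈ (E : Subgroup Fi22) := by
    intro h
    have h1 : P.π g = P.π x := by
      rw [map_mul, map_inv, inv_mul_eq_one] at h
      exact h.symm
    rw [h1]
    exact hxE
  rcases hcen s hs hsC.2.1 hsC.2.2 with h | h | h | h
  · apply hfin
    have h1 : x⁻¹ * g = 1 := Subtype.ext (by rw [← hs', h]; rfl)
    rw [h1, map_one]
  · exact absurd (h.symm.trans hs') (hodd a hl)
  · exact absurd (h.symm.trans hs') (hodd b hb)
  · apply hfin
    have h1 : x⁻¹ * g = P.z := Subtype.ext (by rw [← hs', h, hzz])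
    have h2 : P.π (1 * P.z) = P.π 1 := P.lift.ext.map_eq.2 (Or.inr rfl)
    rw [one_mul, map_one] at h2
    rw [h1, h2]

end Cfsg.Agent.H283.FiFive
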