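import Cfsg.Agent.H283.FourGeo
import Cfsg.Agent.S0058
/-!
# Generation by the centralizers of a four-group of automorphisms (helper283)

`gen` : `K` simple with a split (B,N)-pair of characteristic `p ≠ 2`, `α, β` commuting automorphisms of order 2, `α ≠ β`,
which centralize a nontrivial `p`-element: `K = ⟨C_K(α), C_K(β), C_K(αβ)⟩`.
-/

set_option autoImplicit false

namespace Cfsg.Agent.H283.FourGen

open Subgroup

section four

variable {G : Type*} [Group G] [Finite G]

/-- the four-group -/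
def four {α β : MulAut G} (hα : α * α = 1) (hβ : β * β = 1) (hc : α * β = β * α) : Subgroup (MulAut G) where
  carrier := {a | a = 1 ∨ a = α ∨ a = β ∨ a = α * β}
  one_mem' := Or.inl rfl
  mul_mem' := by
    have e1 : α * (α * β) = β := by rw [← mul_assoc, hα, one_mul]
    have e2 : β * (α * β) = α := by rw [hc, ← mul_assoc, hβ, one_mul]
    have e3 : (α * β) * α = β := by rw [hc, mul_assoc, hα, mul_one]
    have e4 : (α * β) * β = α := by rw [mul_assoc, hβ, mul_one]
    have e5 : (α * β) * (α * β) = 1 := by rw [mul_assoc, e2, hα]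
    rintro a b (rfl | rfl | rfl | rfl) (rfl | rfl | rfl | rfl)
    · exact Or.inl (one_mul 1)
    · exact Or.inr (Or.inl (one_mul _))
    · exact Or.inr (Or.inr (Or.inl (one_mul _)))
    · exact Or.inr (Or.inr (Or.inr (one_mul _)))
    · exact Or.inr (Or.inl (mul_one _))
    · exact Or.inl hα
    · exact Or.inr (Or.inr (Or.inr rfl))
    · exact Or.inr (Or.inr (Or.inl e1))
    · exact Or.inr (Or.inr (Or.inl (mul_one _)))
    · exact Or.inr (Or.inr (Or.inr hc.symm))
    · exact Or.inl hβ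
    · exact Or.inr (Or.inl e2)
    · exact Or.inr (Or.inr (Or.inr (mul_one _)))
    · exact Or.inr (Or.inr (Or.inl e3))
    · exact Or.inr (Or.inl e4)
    · exact Or.inl e5
  inv_mem' := by
    rintro a (rfl | rfl | rfl | rfl)
    · exact Or.inl inv_one
    · exact Or.inr (Or.inl (inv_eq_of_mul_eq_one_left hα))
    · exact Or.inr (Or.inr (Or.inl (inv_eq_of_mul_eq_one_left hβ)))
    · right; right; right
      rw [mul_inv_rev, inv_eq_of_mul_eq_one_left hα, inv_eq_of_mul_eq_one_left hβ, hc]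

variable {α β : MulAut G} (hα : α * α = 1) (hβ : β * β = 1) (hc : α * β = β * α)

theorem mem_four {a : MulAut G} : a ∈ four hα hβ hc ↔ a = 1 ∨ a = α ∨ a = β ∨ a = α * β := Iff.rfl

theorem four_sq {a : MulAut G} (h : a ∈ four hα hβ hc) : a * a = 1 := by
  have e2 : β * (α * β) = α := by rw [hc, ← mul_assoc, hβ, one_mul]
  rcases h with rfl | rfl | rfl | rfl
  · exact one_mul 1
  · exact hα
  · exact hβ
  · rw [mul_assoc, e2, hα]

include hα hβ hc in
/-- **Coprime action of a four-group.** -/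
theorem le_of_four {U N : Subgroup G} (hodd : Odd (Nat.card U)) (hUα : ∀ u ∈ U, α u ∈ U) (hUβ : ∀ u ∈ U, β u ∈ U)
    (h1 : ∀ u, α u = u → u ∈ N) (h2 : ∀ u, β u = u → u ∈ N) (h3 : ∀ u, α (β u) = u → u ∈ N) : U ≤ N := by
  by_cases hα1 : α = 1
  · intro u _
    exact h1 u (by rw [hα1]; rfl)
  by_cases hβ1 : β = 1
  · intro u _
    exact h2 u (by rw [hβ1]; rfl)
  by_cases hαβ : α = β
  · intro u _
    refine h3 u ?_
    rw [← hαβ]
    exact congrArg (fun f : MulAut G => f u) hα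
  let φ : MulAut G →* MulAut G := MonoidHom.id _
  have hfin : Finite (SemidirectProduct G (MulAut G) φ) := Finite.of_equiv _ SemidirectProduct.equivProd.symm
  let ι : G →* SemidirectProduct G (MulAut G) φ := SemidirectProduct.inl
  let κ : MulAut G →* SemidirectProduct G (MulAut G) φ := SemidirectProduct.inr
  have hι : Function.Injective ι := SemidirectProduct.inl_injective
  have hκ : Function.Injective κ := SemidirectProduct.inr_injective
  have hact : ∀ (a : MulAut G) (u : G), κ a * ι u * κ a⁻¹ = ι (a u) := fun a u =>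
    (SemidirectProduct.inl_aut a u).symm
  set A : Subgroup (SemidirectProduct G (MulAut G) φ) := (four hα hβ hc).map κ with hA
  set K : Subgroup (SemidirectProduct G (MulAut G) φ) := U.map ι with hK
  have hcomm : ∀ a ∈ four hα hβ hc, ∀ b ∈ four hα hβ hc, a * b = b * a := by
    intro a ha b hb
    have k1 := four_sq hα hβ hc ha
    have k2 := four_sq hα hβ hc hb
    have k3 := four_sq hα hβ hc (mul_mem ha hb)
    calc a * b = a * b * ((a * b) * (a * b)) := by rw [k3, mul_one]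
      _ = a * b * a * (b * b) * b⁻¹ * a * b := by group
      _ = a * b * a * b⁻¹ * a * b := by rw [k2, mul_one]
      _ = b * a := by
        have e1 : b⁻¹ = b := inv_eq_of_mul_eq_one_left k2
        have e2 : a * b * a * b = 1 := by rw [← k3]; group
        rw [e1]
        calc a * b * a * b * a * b = (a * b * a * b) * (a * b) := by group
          _ = a * b := by rw [e2, one_mul]
          _ = a⁻¹ * b⁻¹ := by rw [e1, inv_eq_of_mul_eq_one_left k1]
          _ = (b * a)⁻¹ := by group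
          _ = b * a := by
            have k4 := four_sq hα hβ hc (mul_mem hb ha)
            exact inv_eq_of_mul_eq_one_left k4
  have iA : IsMulCommutative A := by
    refine ⟨⟨?_⟩⟩
    rintro ⟨_, a, ha, rfl⟩ ⟨_, b, hb, rfl⟩
    apply Subtype.ext
    change κ a * κ b = κ b * κ a
    rw [← map_mul, ← map_mul, hcomm a ha b hb]
  have hcyc : ¬ IsCyclic A := by
    rintro ⟨⟨_, g, hg, rfl⟩, hgen⟩
    have k0 := four_sq hα hβ hc hg
    have k1 : ∀ a ∈ four hα hβ hc, a = 1 ∨ a = g := by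
      intro a ha
      obtain ⟨n, hn⟩ := mem_zpowers_iff.1 (hgen ⟨κ a, a, ha, rfl⟩)
      have k2 : κ g ^ n = κ a := congrArg Subtype.val hn
      rw [← map_zpow] at k2
      have k3 := hκ k2
      rcases Int.even_or_odd' n with ⟨m, rfl | rfl⟩
      · left
        rw [← k3, zpow_mul, zpow_ofNat, pow_two, k0, one_zpow]
      · right
        rw [← k3, zpow_add, zpow_mul, zpow_ofNat, pow_two, k0, one_zpow, one_mul, zpow_one]
    have k2 := (k1 α (Or.inr (Or.inl rfl))).resolve_left hα1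
    have k3 := (k1 β (Or.inr (Or.inr (Or.inl rfl)))).resolve_left hβ1
    exact hαβ (k2.trans k3.symm)
  have hAK : A ≤ normalizer (K : Set (SemidirectProduct G (MulAut G) φ)) := by
    have k1 : ∀ a ∈ four hα hβ hc, ∀ u ∈ U, a u ∈ U := by
      rintro a (rfl | rfl | rfl | rfl) u hu
      · exact hu
      · exact hUα u hu
      · exact hUβ u hu
      · exact hUα _ (hUβ u hu)
    have k2 : ∀ a ∈ four hα hβ hc, ∀ x ∈ K, κ a * x * (κ a)⁻¹ ∈ K := by
      rintro a ha _ ⟨u, hu, rfl⟩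
      refine ⟨a u, k1 a ha u hu, ?_⟩
      rw [← hact, map_inv]
    rintro _ ⟨a, ha, rfl⟩
    rw [mem_normalizer_iff]
    intro x
    refine ⟨k2 a ha x, fun hx => ?_⟩
    have k3 := k2 a⁻¹ (inv_mem ha) _ hx
    have e1 : κ a⁻¹ * (κ a * x * (κ a)⁻¹) * (κ a⁻¹)⁻¹ = x := by
      rw [map_inv]
      group
    rwa [e1] at k3
  have hcop : (Nat.card A).Coprime (Nat.card K) := by
    have k1 : IsPGroup 2 A := by
      rintro ⟨_, a, ha, rfl⟩
      refine ⟨1, Subtype.ext ?_⟩
      change κ a ^ 2 ^ 1 = 1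
      rw [pow_one, pow_two, ← map_mul, four_sq hα hβ hc ha, map_one]
    have : Fact (Nat.Prime 2) := ⟨Nat.prime_two⟩
    obtain ⟨n, hn⟩ := IsPGroup.iff_card.1 k1
    rw [hn, hK, ← Nat.card_congr (U.equivMapOfInjective ι hι).toEquiv]
    exact Nat.Coprime.pow_left n (Nat.coprime_two_left.2 hodd)
  have hmain := S0058.result A K hcyc hAK hcop
  have hle : K ≤ N.map ι := by
    rw [← hmain]
    refine iSup_le fun a => iSup_le fun ha => ?_
    obtain ⟨⟨a, ha, rfl⟩, hne⟩ := ha
    rintro _ ⟨⟨u, hu, rfl⟩, hx⟩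
    have k1 : κ a * ι u = ι u * κ a := (mem_centralizer_singleton_iff.1 hx).symm
    have k2 : a u = u := by
      apply hι
      rw [← hact, k1, map_inv, mul_inv_cancel_right]
    refine ⟨u, ?_, rfl⟩
    rcases ha with rfl | rfl | rfl | rfl
    · exact absurd (map_one κ) hne
    · exact h1 u k2
    · exact h2 u k2
    · exact h3 u k2
  intro u hu
  obtain ⟨n, hn, hnu⟩ := hle ⟨u, hu, rfl⟩
  have k1 := hι hnu
  rwa [← k1]

end four

open scoped Pointwise
open Cfsg Cfsg.Agent.Tits.Core Cfsg.Agent.Tits.Core.Bldg Cfsg.Agent.Tits.OfBN Cfsg.Agent.Schreier.BNSch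
open Cfsg.Agent.FixBN (Sys Conv HasSplit)
open Cfsg.Agent.FixOdd Cfsg.Agent.FixOdd.Tw Cfsg.Agent.H283.FourGeo

/-- **Generation.** -/
theorem gen {K : Type*} [Group K] [Finite K] [IsSimpleGroup K] {p : ℕ} [hp : Fact p.Prime] (hp2 : p ≠ 2)
    (h : HasSplit p K) {α β : MulAut K} (hα : α * α = 1) (hβ : β * β = 1) (hc : α * β = β * α)
    {V : Subgroup K} (hV : IsPGroup p V) (hne : V ≠ ⊥) (hVα : ∀ v ∈ V, α v ∈ V) (hVβ : ∀ v ∈ V, β v ∈ V)
    {N : Subgroup K} (h1 : ∀ u, α u = u → u ∈ N) (h2 : ∀ u, β u = u → u ∈ N) (h3 : ∀ u, α (β u) = u → u ∈ N) :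
    N = ⊤ := by
  classical
  obtain ⟨P, U, -, h⟩ := h
  have hN : ((P.B ⊓ P.N).subgroupOf P.N).Normal := normal_subgroupOf P
  obtain ⟨M, cs, hcs⟩ := S0320.result P
  obtain ⟨s, hs, hso⟩ := exists_tw h (Equiv.refl P.S) cs hcs α
  obtain ⟨t, ht, hto⟩ := exists_tw h (Equiv.refl P.S) cs hcs β
  have hI : Finite P.S := FixBN.OfBN.finite_I (Equiv.refl P.S)
  have := Fintype.ofFinite P.S
  have hth := thick P (Equiv.refl P.S) cs hcs
  let S := FixBN.OfBN.sys (Equiv.refl P.S) cs hcs h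
  have hs2 : s.θ ^ 2 = 1 := hso 2 (by rw [pow_two]; exact hα)
  have ht2 : t.θ ^ 2 = 1 := hto 2 (by rw [pow_two]; exact hβ)
  have hcomm : ∀ x, s.θ (t.θ x) = t.θ (s.θ x) := θ_comm S hth (fun g => by
    rw [hs, ht]
    exact congrArg (fun f : MulAut K => f g) hc)
  obtain ⟨c, hcV⟩ := S.exists_fix V hV
  let X : Set (K ⧸ P.B) := {x | ∀ v ∈ (V : Set K), v • x = x}
  have hX : Conv _ X := S.conv_fix _
  have key : ∀ (r : Tw (bldg P (Equiv.refl P.S) cs hcs) K) (γ : MulAut K), r.τ = γ → γ * γ = 1 →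
      (∀ v ∈ V, γ v ∈ V) → ∀ x ∈ X, r.θ x ∈ X := by
    intro r γ hr hγ hVγ x hx v hv
    have k1 : γ (γ v) = v := congrArg (fun f : MulAut K => f v) hγ
    have k2 := r.θ_smul (γ v) x
    rw [hx _ (hVγ v hv), hr, k1] at k2
    exact k2.symm
  have hno : ∀ d ∈ X, (bldg P (Equiv.refl P.S) cs hcs).δ c d ≠ wJ cs Set.univ := by
    intro d hd hcd
    apply hne
    rw [eq_bot_iff]
    intro v hv
    exact S.free c d hcd v (S.max c V hV hcV hv) (hd v hv)
  obtain ⟨J, hJ, hJs, hJt, d, hd, hds, hdt⟩ := smith2 hs2 ht2 hcomm hX (key s α hs hα hVα) (key t β ht hβ hVβ)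
    (c := c) hcV hno
  obtain ⟨L, b, z, had, hLt, hz, hzs, hzt⟩ := exists_opp2 S hth hp2 hs2 ht2 hcomm hJs hJt hds hdt
  have hcne : S.U c ≠ ⊥ := fun h0 => hne (le_bot_iff.1 ((S.max c V hV hcV).trans h0.le))
  have hgen := gen_radicals S hth hJ had had.symm hz ⟨c, hcne⟩
  rw [eq_top_iff, ← hgen]
  have hodd : ∀ Q : Set (K ⧸ P.B), Q.Nonempty → Odd (Nat.card ↥(S.UR Q)) := by
    intro Q hQ
    obtain ⟨n, hn⟩ := IsPGroup.iff_card.1 (S.UR_isP hQ)
    rw [hn]
    exact (hp.out.odd_of_ne_two hp2).pow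
  refine sup_le ?_ ?_
  · refine le_of_four hα hβ hc (hodd _ ⟨d, Bldg.self_mem_Res _ _ _⟩) (fun u hu => ?_) (fun u hu => ?_) h1 h2 h3
    · have := s.τ_mem_UR S hJs hds hu
      rwa [hs] at this
    · have := t.τ_mem_UR S hJt hdt hu
      rwa [ht] at this
  · refine le_of_four hα hβ hc (hodd _ ⟨z, Bldg.self_mem_Res _ _ _⟩) (fun u hu => ?_) (fun u hu => ?_) h1 h2 h3
    · have := s.τ_mem_UR S had.st' hzs hu
      rwa [hs] at this
    · have := t.τ_mem_UR S hLt hzt hu
      rwa [ht] at this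

end Cfsg.Agent.H283.FourGen
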