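import Cfsg.Agent.H283.StdSpor
/-!
# Standard subgroups whose centralizer has 2-rank at least 2 (S3092): the situation in `Aut(X)` (helper283)

`Four X A` : `X` a group, `W` the subgroup of `Aut(X)` induced by the centralizer of the standard subgroup `A ≅ L ≤ X`:
every involution of `W` has `L` as a normal component of its centralizer in `X`, and `W` contains a four-group `⟨x, y⟩`.
-/

set_option autoImplicit false

namespace Cfsg.Agent.H283.FourStd

open Cfsg Subgroup Cfsg.Agent.SignalizersComponents Cfsg.Agent.SignalizersComponents.Components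
open Cfsg.Agent.H284.FStd Cfsg.Agent.H283.StdSpor

universe u v

/-- the situation of S3092 -/
structure Four (X : Type u) [Group X] (A : Type v) [Group A] where
  L : Subgroup X
  e : ↥L ≃* A
  W : Subgroup (MulAut X)
  fix : ∀ z ∈ W, ∀ l ∈ L, z l = l
  conj : ∀ u ∈ centralizer (L : Set X), MulAut.conj u ∈ W
  comp : ∀ z ∈ W, z * z = 1 → z ≠ 1 →
    (L.subgroupOf (fixedSubgroup z)).Normal ∧ IsComponent (L.subgroupOf (fixedSubgroup z))
  nocomm : ∀ g : X, ¬ ∀ l ∈ L, ∀ m ∈ L, l * (g * m * g⁻¹) = (g * m * g⁻¹) * l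
  x : MulAut X
  y : MulAut X
  xW : x ∈ W
  yW : y ∈ W
  xx : x * x = 1
  yy : y * y = 1
  xy : x * y = y * x
  x1 : x ≠ 1
  y1 : y ≠ 1
  ne : x ≠ y
  qs : IsQuasisimple ↥L

/-- **The reduction.** -/
theorem exists_four {G : Type u} [Group G] [Finite G] {X A : Subgroup G} [hX : X.Normal]
    (hc : centralizer (X : Set G) = ⊥) (hA : IsStandardSubgroup A) (hAX : A ≤ X)
    (hR : ¬ PRankLE 2 1 ↥(centralizer (A : Set G))) : Nonempty (Four ↥X ↥A) := by
  -- `C_G(X) = 1`
  have hinj : ∀ g : G, (MulAut.conjNormal g : MulAut ↥X) = 1 → g = 1 := by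
    intro g hg
    have h1 : g ∈ centralizer (X : Set G) := by
      rw [mem_centralizer_iff]
      intro y hy
      have h2 := congrArg (fun f : MulAut ↥X => ((f ⟨y, hy⟩ : ↥X) : G)) hg
      change (((MulAut.conjNormal g : MulAut ↥X) ⟨y, hy⟩ : ↥X) : G) = y at h2
      rw [MulAut.conjNormal_apply] at h2
      exact (mul_inv_eq_iff_eq_mul.1 h2).symm
    rwa [hc, mem_bot] at h1
  -- a four-group
  obtain ⟨b, c, hbc, hcc, hbb, hcomm, hb1, hc1, hne⟩ : ∃ b c : G, b ∈ centralizer (A : Set G) ∧
      c ∈ centralizer (A : Set G) ∧ (b * b = 1 ∧ c * c = 1) ∧ b * c = c * b ∧ b ≠ 1 ∧ c ≠ 1 ∧ b ≠ c := by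
    unfold PRankLE at hR
    push Not at hR
    obtain ⟨B, hBc, hB2, hBcard⟩ := hR
    have hB3 : 2 < Nat.card ↥B := by simpa using hBcard
    obtain ⟨b, hb⟩ : ∃ b : ↥B, b ≠ 1 := by
      have : Nontrivial ↥B := Finite.one_lt_card_iff_nontrivial.1 (by omega)
      exact exists_ne 1
    obtain ⟨c, hc⟩ : ∃ c : ↥B, c ≠ 1 ∧ c ≠ b := by
      by_contra h
      push Not at h
      have h1 : Nat.card ↥B ≤ 2 := by
        classical
        have : Set.univ ⊆ ({1, b} : Set ↥B) := by
          intro d _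
          by_cases hd : d = 1
          · exact Or.inl hd
          · exact Or.inr (h d hd)
        rw [← Nat.card_univ]
        refine (Nat.card_mono (Set.toFinite _) this).trans ?_
        rw [Nat.card_coe_set_eq]
        exact Set.ncard_insert_le _ _ |>.trans (by rw [Set.ncard_singleton])
      omega
    refine ⟨b, c, (b : ↥(centralizer (A : Set G))).2, (c : ↥(centralizer (A : Set G))).2, ⟨?_, ?_⟩, ?_, ?_, ?_, ?_⟩
    · have := hB2 b b.2
      rw [pow_two] at this
      exact congrArg Subtype.val this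
    · have := hB2 c c.2
      rw [pow_two] at this
      exact congrArg Subtype.val this
    · have := hBc.is_comm.comm b c
      exact congrArg (fun z : ↥B => ((z : ↥(centralizer (A : Set G))) : G)) this
    · intro h
      exact hb (Subtype.ext (Subtype.ext h))
    · intro h
      exact hc.1 (Subtype.ext (Subtype.ext h))
    · intro h
      exact hc.2 (Subtype.ext (Subtype.ext h.symm))
  refine ⟨{
    L := A.subgroupOf X
    e := subgroupOfEquivOfLe hAX
    W := (centralizer (A : Set G)).map (MulAut.conjNormal : G →* MulAut ↥X)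
    fix := ?_
    conj := ?_
    comp := ?_
    nocomm := ?_
    x := MulAut.conjNormal b
    y := MulAut.conjNormal c
    xW := ⟨b, hbc, rfl⟩
    yW := ⟨c, hcc, rfl⟩
    xx := by rw [← map_mul, hbb.1, map_one]
    yy := by rw [← map_mul, hbb.2, map_one]
    xy := by rw [← map_mul, ← map_mul, hcomm]
    x1 := fun h => hb1 (hinj b h)
    y1 := fun h => hc1 (hinj c h)
    ne := ?_
    qs := (isQuasisimple_congr (subgroupOfEquivOfLe hAX)).2 hA.1 }⟩
  · rintro _ ⟨g, hg, rfl⟩ l hl
    exact le_fix hg hl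
  · intro u hu
    refine ⟨(u : G), ?_, ?_⟩
    · rw [SetLike.mem_coe, mem_centralizer_iff]
      intro a ha
      have h1 := mem_centralizer_iff.1 hu (⟨a, hAX ha⟩ : ↥X) (mem_subgroupOf.2 ha)
      exact congrArg Subtype.val h1
    · ext v
      rw [MulAut.conjNormal_apply, MulAut.conj_apply]
      rfl
  · rintro _ ⟨g, hg, rfl⟩ hz hz1
    have hg2 : orderOf g = 2 := by
      refine orderOf_eq_prime ?_ (fun h => hz1 (by rw [h, map_one]))
      rw [pow_two]
      apply hinj
      rw [map_mul, hz]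
    exact ⟨BB_normal hA hg2 hg, (comp_fix hc hA hAX hg2 hg).2.2⟩
  · intro g h
    have h1 : ⁅A, A.map (MulAut.conj (g : G)).toMonoidHom⁆ = ⊥ := by
      rw [commutator_eq_bot_iff_le_centralizer]
      intro a ha
      rw [mem_centralizer_iff]
      rintro _ ⟨m, hm, rfl⟩
      have h2 := h ⟨a, hAX ha⟩ (mem_subgroupOf.2 ha) ⟨m, hAX hm⟩ (mem_subgroupOf.2 hm)
      exact (congrArg Subtype.val h2).symm
    by_cases h2 : A.map (MulAut.conj (g : G)).toMonoidHom = A
    · rw [h2, commutator_eq_bot_iff_le_centralizer] at h1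
      apply quasisimple_not_isMulCommutative hA.1
      exact ⟨⟨fun a b => Subtype.ext (mem_centralizer_iff.1 (h1 b.2) a a.2)⟩⟩
    · exact hA.2.2.1 _ h2 h1
  · intro h
    apply hne
    have h1 : (MulAut.conjNormal (b * c) : MulAut ↥X) = 1 := by
      rw [map_mul, h, ← map_mul, hbb.2, map_one]
    have h2 := hinj _ h1
    calc b = b * (c * c) := by rw [hbb.2, mul_one]
      _ = (b * c) * c := by group
      _ = c := by rw [h2, one_mul]

/-- **S3092: `A` is normal, or `E(G)` is simple and we have the situation `Four`.** -/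
theorem main {G : Type u} [Group G] [Finite G] (hO : oddCore G = ⊥) {A : Subgroup G} (hA : IsStandardSubgroup A)
    (hR : ¬ PRankLE 2 1 ↥(centralizer (A : Set G))) :
    A.Normal ∨ (IsSimpleGroup ↥(normalClosure (A : Set G)) ∧ ¬ IsMulCommutative ↥(normalClosure (A : Set G)) ∧
      Nonempty (Four ↥(normalClosure (A : Set G)) ↥A)) := by
  have : Fact (Nat.Prime 2) := ⟨Nat.prime_two⟩
  obtain ⟨t, ht⟩ := exists_prime_orderOf_dvd_card' 2 hA.2.1.1.two_dvd
  have hto : orderOf (t : G) = 2 := by rw [Subgroup.orderOf_coe, ht]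
  by_cases h2 : pCore 2 G = ⊥
  swap
  · exact Or.inl (StandardTrichotomy.normal_of_pCore_ne_bot hA hto t.2 h2)
  have hC := StandardTrichotomy.centralizer_layer_eq_bot hO h2
  rcases S1347.result A hA hO t hto t.2 with h | ⟨Y, -, -, -, -, -, -, hcen⟩ | ⟨hAE, hs, hna⟩
  · exact Or.inl h
  · exfalso
    apply hR
    intro B _ _
    refine (Nat.card_le_card_of_injective B.subtype B.subtype_injective).trans ?_
    rw [hcen, Nat.card_zpowers, hto]
    norm_num
  · right
    have hEn : (layer G).Normal := layer_normal G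
    have hE : normalClosure (A : Set G) = layer G := by
      have h3 : normalClosure (A : Set G) ≤ layer G := normalClosure_le_normal hAE
      have h4 : ((normalClosure (A : Set G)).subgroupOf (layer G)).Normal := inferInstance
      rcases h4.eq_bot_or_eq_top with h5 | h5
      · exfalso
        rw [subgroupOf_eq_bot, disjoint_iff, inf_eq_left.2 h3] at h5
        have h6 : A ≤ ⊥ := by
          rw [← h5]
          exact subset_normalClosure
        have h7 : A = ⊥ := le_bot_iff.1 h6
        have := quasisimple_nontrivial hA.1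
        rw [h7] at this
        exact not_nontrivial _ this
      · exact le_antisymm h3 (subgroupOf_eq_top.1 h5)
    rw [hE]
    exact ⟨hs, hna, exists_four hC hA hAE hR⟩

/-- the conclusion of S3092 (`A` not normal) for `X = ⟨A^G⟩` -/
def Concl (X : Type u) [Group X] (A : Type v) [Group A] : Prop :=
  (∃ n : ℕ, 5 ≤ n ∧ Nonempty (A ≃* ↥(alternatingGroup (Fin n))) ∧ Nonempty (X ≃* ↥(alternatingGroup (Fin (n + 4))))) ∨
    (∃ (F : Type) (_ : Field F) (_ : Fintype F), Fintype.card F = 4 ∧
      Nonempty (A ≃* Matrix.ProjectiveSpecialLinearGroup (Fin 2) F) ∧ (Cfsg.Spor.IsoM12 X ∨ Cfsg.Spor.IsoJ2 X)) ∨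
    (∃ (F : Type) (_ : Field F) (_ : Fintype F), Fintype.card F = 4 ∧
      Nonempty (A ≃* Matrix.ProjectiveSpecialLinearGroup (Fin 3) F) ∧ Cfsg.Spor.IsoSuz X) ∨
    (∃ (F : Type) (_ : Field F) (_ : Fintype F), Fintype.card F = 4 ∧ Subgroup.center A ≠ ⊥ ∧
      Nonempty (A ⧸ Subgroup.center A ≃* Matrix.ProjectiveSpecialLinearGroup (Fin 3) F) ∧ Cfsg.Spor.IsoHe X) ∨
    (∃ (F : Type) (_ : Field F) (_ : Fintype F), Fintype.card F = 8 ∧
      Nonempty (A ≃* ↥(Cfsg.Lie.Sz F 4)) ∧ Cfsg.Spor.IsoRu X) ∨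
    (∃ (F : Type) (_ : Field F) (_ : Fintype F), Fintype.card F = 4 ∧
      Nonempty (A ≃* ↥(Cfsg.Lie.chevG2.group F)) ∧ Cfsg.Spor.IsoCo1 X)

/-- the rows -/
structure Rows : Prop where
  alt : ∀ {X A : Type u} [Group X] [Finite X] [IsSimpleGroup X] [Group A] {m : ℕ}, 5 ≤ m →
    Nonempty (X ≃* ↥(alternatingGroup (Fin m))) → Nonempty (Four X A) → Concl X A
  two : ∀ {X A : Type u} [Group X] [Finite X] [IsSimpleGroup X] [Group A], ¬ IsMulCommutative X →
    (IsLieTypeChar 2 X ∨ Lie.IsoTits X) → Nonempty (Four X A) → False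
  odd : ∀ {X A : Type u} [Group X] [Finite X] [IsSimpleGroup X] [Group A] {p : ℕ}, p.Prime → p ≠ 2 →
    IsLieTypeChar p X → Nonempty (Four X A) → False
  spor : ∀ {X A : Type u} [Group X] [Finite X] [IsSimpleGroup X] [Group A], IsSporadicGroup X →
    Nonempty (Four X A) → Concl X A

/-- **S3092 from the rows.** -/
theorem of_rows (R : Rows.{u}) {G : Type u} [Group G] [Finite G] (hO : oddCore G = ⊥) {A : Subgroup G}
    (hA : IsStandardSubgroup A) (hR : ¬ PRankLE 2 1 ↥(centralizer (A : Set G))) :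
    A.Normal ∨ Concl ↥(normalClosure (A : Set G)) ↥A := by
  rcases main hO hA hR with h | ⟨hs, hna, hF⟩
  · exact Or.inl h
  · right
    rcases OddHalf.Known.classify hna (S0000.result) with h | ⟨p, hp, hp2, h⟩ | h | h
    · obtain ⟨m, hm, e⟩ := h
      exact R.alt hm e hF
    · exact absurd hF (R.odd hp hp2 h)
    · exact absurd hF (R.two hna h)
    · exact R.spor h hF

end Cfsg.Agent.H283.FourStd
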