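import Cfsg.Agent.H283.NormalPrime
import Cfsg.Agent.H283.FourGen
import Cfsg.Agent.H283.FourStd
/-!
# S3092: no groups of Lie type of odd characteristic (helper283)

`odd_row` : `X` simple of Lie type of odd characteristic: the situation `Four X A` is impossible. A Sylow `p`-subgroup of
the component `L` is centralized by the four-group `⟨x, y⟩`, so `X` is generated by the centralizers of `x`, `y`, `x y`,
which normalize `L`.
-/

set_option autoImplicit false

namespace Cfsg.Agent.H283.OddFour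

open Cfsg Subgroup Cfsg.Agent.FixBN Cfsg.Agent.H283.FourStd Cfsg.Agent.SignalizersComponents.Components

universe u v w

section dvd

/-- `p` divides the orders of the normal perfect subgroups of `C_K(x)` -/
def DvdAll (p : ℕ) (K : Type*) [Group K] : Prop :=
  ∀ x : MulAut K, x ^ 2 = 1 → ∀ A : Subgroup ↥(fixedSubgroup x), A.Normal → ⁅A, A⁆ = A → A ≠ ⊥ → p ∣ Nat.card ↥A

theorem DvdAll.congr {p : ℕ} {K : Type u} {K' : Type v} [Group K] [Group K'] (e : K ≃* K') (h : DvdAll p K) :
    DvdAll p K' := by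
  intro x hx A hA hperf hne
  obtain ⟨y, hy⟩ : ∃ y : MulAut K, y = (MulAut.congr e).symm x := ⟨_, rfl⟩
  have hxy : MulAut.congr e y = x := by rw [hy, MulEquiv.apply_symm_apply]
  subst hxy
  have h2 : y ^ 2 = 1 := by
    rw [← map_pow] at hx
    exact (MulAut.congr e).injective (by rw [hx, map_one])
  have f := CpAut.fixEquiv e y
  have h4 := h y h2 (A.map f.symm.toMonoidHom) (hA.map _ f.symm.surjective)
    (by rw [← Subgroup.map_commutator, hperf])
    (fun h0 => hne ((Subgroup.map_eq_bot_iff_of_injective _ f.symm.injective).1 h0))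
  rwa [← Nat.card_congr (A.equivMapOfInjective f.symm.toMonoidHom f.symm.injective).toEquiv] at h4

theorem dvdAll {G : Type u} [Group G] [IsSimpleGroup G] {p : ℕ} (hp2 : p ≠ 2) (hG : IsLieTypeChar p G)
    (hR : ¬ Lie.IsoRee G) : DvdAll p G := by
  rcases exists_good_model hp2 hG with ⟨K, _, _, _, _, h, ⟨e⟩⟩ | h
  · refine DvdAll.congr e.symm ?_
    intro x hx A hA hperf hne
    exact NormalPrime.dvd_of_good hp2 h hx hperf hne
  · exact absurd h hR

theorem hasSplit {G : Type u} [Group G] [IsSimpleGroup G] {p : ℕ} (hp2 : p ≠ 2) (hG : IsLieTypeChar p G)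
    (hR : ¬ Lie.IsoRee G) : HasSplit p G := by
  rcases exists_good_model hp2 hG with ⟨K, _, _, _, _, h, ⟨e⟩⟩ | h
  · exact Transport.hasSplit_congr e.symm h.hasSplit
  · exact absurd h hR

end dvd

section ree

/-- the centralizer of a normal perfect subgroup of `2 × L` -/
theorem eq_of_two_prod {H : Type*} [Group H] {L : Type*} [Group L] [IsSimpleGroup L]
    (e : H ≃* Multiplicative (ZMod 2) × L) {A : Subgroup H} (hA : A.Normal) (hperf : ⁅A, A⁆ = A) (hne : A ≠ ⊥) {g h : H}
    (hg : ∀ a ∈ A, g * a = a * g) (hh : ∀ a ∈ A, h * a = a * h) (hg1 : g ≠ 1) (hh1 : h ≠ 1) : g = h := by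
  have hcomm : ¬ ∀ a ∈ A, ∀ b ∈ A, a * b = b * a := by
    intro hc
    apply hne
    rw [← hperf, commutator_eq_bot_iff_le_centralizer]
    intro a ha
    rw [mem_centralizer_iff]
    intro b hb
    exact hc b hb a ha
  let q : H →* L := (MonoidHom.snd (Multiplicative (ZMod 2)) L).comp e.toMonoidHom
  have hq : Function.Surjective q := Prod.snd_surjective.comp e.surjective
  have hn : (A.map q).Normal := hA.map q hq
  have htop : A.map q = ⊤ := by
    rcases hn.eq_bot_or_eq_top with h0 | h0
    · exfalso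
      apply hcomm
      intro a ha b hb
      have k1 : ∀ a ∈ A, (e a).2 = 1 := fun a ha => by
        have : q a ∈ A.map q := ⟨a, ha, rfl⟩
        rw [h0, mem_bot] at this
        exact this
      apply e.injective
      rw [map_mul, map_mul]
      apply Prod.ext
      · exact mul_comm _ _
      · change (e a).2 * (e b).2 = (e b).2 * (e a).2
        rw [k1 a ha, k1 b hb]
    · exact h0
  have hcen : center L = ⊥ := by
    rcases IsSimpleGroup.eq_bot_or_eq_top_of_normal (center L) inferInstance with h0 | h0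
    · exact h0
    · exfalso
      apply hcomm
      intro a ha b hb
      apply e.injective
      rw [map_mul, map_mul]
      apply Prod.ext
      · exact mul_comm _ _
      · change (e a).2 * (e b).2 = (e b).2 * (e a).2
        have k1 : (e a).2 ∈ center L := by rw [h0]; exact mem_top _
        exact (mem_center_iff.1 k1 _).symm
  have key : ∀ k : H, (∀ a ∈ A, k * a = a * k) → (e k).2 = 1 := by
    intro k hk
    have k1 : (e k).2 ∈ center L := by
      rw [mem_center_iff]
      intro l
      have hl : l ∈ A.map q := by rw [htop]; exact mem_top l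
      obtain ⟨a, ha, rfl⟩ := hl
      have k2 := congrArg (fun z => (e z).2) (hk a ha)
      simp only [map_mul] at k2
      exact k2.symm
    rwa [hcen, mem_bot] at k1
  have h2 : ∀ z w : Multiplicative (ZMod 2), z ≠ 1 → w ≠ 1 → z = w := by decide
  apply e.injective
  apply Prod.ext
  · refine h2 _ _ (fun h0 => hg1 ?_) (fun h0 => hh1 ?_)
    · apply e.injective
      rw [map_one]
      exact Prod.ext h0 (key g hg)
    · apply e.injective
      rw [map_one]
      exact Prod.ext h0 (key h hh)
  · rw [key g hg, key h hh]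

/-- the small Ree groups -/
theorem ree_core {G : Type u} [Group G] (h : Lie.IsoRee G) {x y : MulAut G} (hx : x * x = 1) (hy : y * y = 1)
    (hxy : x * y = y * x) (hx1 : x ≠ 1) (hy1 : y ≠ 1) (hne : x ≠ y) {A : Subgroup ↥(fixedSubgroup x)} (hA : A.Normal)
    (hperf : ⁅A, A⁆ = A) (hA1 : A ≠ ⊥) (hyA : ∀ a ∈ A, y (a : G) = a) : False := by
  obtain ⟨K, i1, i2, m, hm, hK, ⟨e0⟩⟩ := h
  classical
  have hchar := Cfsg.Agent.LieRecognition.ReeAbs.charP_three hK
  obtain ⟨U, h, n, D⟩ := Cfsg.Agent.ChevalleyStructure.Ree.Data.exists_data hK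
  have hfin : Finite ↥(Cfsg.Lie.twistedG2 K (3 ^ m)) := Cfsg.Agent.LieRecognition.ReeSylowThree.finite D
  obtain ⟨hs, hc⟩ := Cfsg.Agent.S1073.result hm hK
  obtain ⟨a, haH, ha1, ha2⟩ := Cfsg.Agent.S1157.exists_involution hK
  obtain ⟨⟨e⟩, hS⟩ := Cfsg.Agent.S1152.result hK a haH ha1 ha2
  have hcd := Cfsg.Agent.LieRecognition.ReeCent.centData ha1 ha2 e Cfsg.Agent.LieRecognition.ReePSL.klein
  have h27 : 3 < Nat.card K := by
    rw [Nat.card_eq_fintype_card, hK]
    have : 3 ^ 3 ≤ 3 ^ (2 * m + 1) := Nat.pow_le_pow_right (by norm_num) (by omega)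
    omega
  have hL : IsSimpleGroup (Matrix.ProjectiveSpecialLinearGroup (Fin 2) K) :=
    Matrix.ProjectiveSpecialLinearGroup.rank_two_simple h27
  -- transport
  set x' : MulAut ↥(Cfsg.Lie.twistedG2 K (3 ^ m)) := MulAut.congr e0 x with hx'
  have hxx' : x' * x' = 1 := by rw [hx', ← map_mul, hx, map_one]
  have hx1' : x' ≠ 1 := fun h0 => hx1 ((MulAut.congr e0).injective (by rw [map_one]; exact h0))
  obtain ⟨f⟩ := OddSpor.fix_equiv (BTheorem.center_eq_bot hc) e
      (fun g hg1 hg2 => Cfsg.Agent.LieRecognition.ReeInv.isConj_involution hcd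
        Cfsg.Agent.LieRecognition.ReePSL.klein (Cfsg.Agent.S1116.result hK hm) hS hg1 hg2)
      (RankOneRee.inner hm hK D) x' hxx' hx1'
  have F := (CpAut.fixEquiv e0 x).trans f
  -- the automorphisms are inner
  have hcen : center G = ⊥ := by
    have h0 : center ↥(Cfsg.Lie.twistedG2 K (3 ^ m)) = ⊥ := BTheorem.center_eq_bot hc
    rw [eq_bot_iff]
    intro z hz
    have h1 : e0 z ∈ center ↥(Cfsg.Lie.twistedG2 K (3 ^ m)) := by
      rw [mem_center_iff]
      intro w
      obtain ⟨w, rfl⟩ := e0.surjective w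
      rw [← map_mul, ← map_mul, mem_center_iff.1 hz w]
    rw [h0, mem_bot] at h1
    exact e0.injective (by rw [h1, map_one])
  have hinn : ∀ z : MulAut G, z * z = 1 → ∃ g : G, z = MulAut.conj g := by
    intro z hz
    obtain ⟨g, hg⟩ := RankOneRee.inner hm hK D (MulAut.congr e0 z) (by rw [← map_mul, hz, map_one])
    refine ⟨e0.symm g, ?_⟩
    apply (MulAut.congr e0).injective
    rw [hg]
    apply MulEquiv.ext
    intro w
    change g * w * g⁻¹ = e0 (e0.symm g * e0.symm w * (e0.symm g)⁻¹)
    rw [map_mul, map_mul, map_inv, e0.apply_symm_apply, e0.apply_symm_apply]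
  obtain ⟨g, rfl⟩ := hinn x hx
  obtain ⟨h, rfl⟩ := hinn y hy
  have hgh : g * h = h * g := by
    have h1 : (g * h) * (h * g)⁻¹ ∈ center G := by
      rw [mem_center_iff]
      intro w
      have h2 : MulAut.conj ((g * h) * (h * g)⁻¹) = (1 : MulAut G) := by
        rw [map_mul, map_inv, map_mul, map_mul, hxy, mul_inv_cancel]
      have h3 : (g * h) * (h * g)⁻¹ * w * ((g * h) * (h * g)⁻¹)⁻¹ = w := congrArg (fun f : MulAut G => f w) h2
      exact (mul_inv_eq_iff_eq_mul.1 h3).symm
    rw [hcen, mem_bot] at h1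
    exact mul_inv_eq_one.1 h1
  have hgm : g ∈ fixedSubgroup (MulAut.conj g) := by
    change MulAut.conj g g = g
    rw [MulAut.conj_apply]
    group
  have hhm : h ∈ fixedSubgroup (MulAut.conj g) := by
    change MulAut.conj g h = h
    rw [MulAut.conj_apply, hgh]
    group
  have hg1 : g ≠ 1 := fun h0 => hx1 (by rw [h0, map_one])
  have hh1 : h ≠ 1 := fun h0 => hy1 (by rw [h0, map_one])
  have hend := eq_of_two_prod F hA hperf hA1 (g := ⟨g, hgm⟩) (h := ⟨h, hhm⟩) (fun b hb => by
      apply Subtype.ext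
      have h1 : g * (b : G) * g⁻¹ = b := b.2
      exact mul_inv_eq_iff_eq_mul.1 h1) (fun b hb => by
      apply Subtype.ext
      have h1 : h * (b : G) * h⁻¹ = b := hyA b hb
      exact mul_inv_eq_iff_eq_mul.1 h1) (fun h0 => hg1 (congrArg Subtype.val h0))
      (fun h0 => hh1 (congrArg Subtype.val h0))
  apply hne
  rw [show g = h from congrArg Subtype.val hend]

end ree

/-- **No groups of Lie type of odd characteristic.** -/
theorem odd_row {X A : Type u} [Group X] [Finite X] [IsSimpleGroup X] [Group A] {p : ℕ} (hp : p.Prime) (hp2 : p ≠ 2)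
    (hX : IsLieTypeChar p X) (hF : Nonempty (Four X A)) : False := by
  obtain ⟨F⟩ := hF
  have : Fact p.Prime := ⟨hp⟩
  have hLx : F.L ≤ fixedSubgroup F.x := fun l hl => F.fix F.x F.xW l hl
  obtain ⟨hn, hcomp⟩ := F.comp F.x F.xW F.xx F.x1
  have hperf : ⁅F.L.subgroupOf (fixedSubgroup F.x), F.L.subgroupOf (fixedSubgroup F.x)⁆ =
      F.L.subgroupOf (fixedSubgroup F.x) := by
    have := hcomp.2.1
    exact Subgroup.commutator_eq_self (H := F.L.subgroupOf (fixedSubgroup F.x))
  have hne : F.L.subgroupOf (fixedSubgroup F.x) ≠ ⊥ := by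
    have := quasisimple_nontrivial hcomp.2
    exact (nontrivial_iff_ne_bot _).1 this
  by_cases hR : Lie.IsoRee X
  · refine ree_core hR F.xx F.yy F.xy F.x1 F.y1 F.ne hn hperf hne fun a ha => ?_
    exact F.fix F.y F.yW a (mem_subgroupOf.1 ha)
  · have hd := dvdAll hp2 hX hR F.x (by rw [pow_two]; exact F.xx) _ hn hperf hne
    rw [Nat.card_congr (subgroupOfEquivOfLe hLx).toEquiv] at hd
    obtain ⟨v, hv⟩ := exists_prime_orderOf_dvd_card' p hd
    have hvo : orderOf (v : X) = p := by rw [Subgroup.orderOf_coe, hv]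
    have hVp : IsPGroup p ↥(zpowers (v : X)) := by
      rw [IsPGroup.iff_card]
      exact ⟨1, by rw [Nat.card_zpowers, hvo, pow_one]⟩
    have hV1 : zpowers (v : X) ≠ ⊥ := by
      rw [Ne, zpowers_eq_bot]
      intro h0
      rw [h0, orderOf_one] at hvo
      exact hp.one_lt.ne hvo
    have hVL : zpowers (v : X) ≤ F.L := (zpowers_le).2 v.2
    -- the centralizers normalize `L`
    have hN : ∀ z ∈ F.W, z * z = 1 → z ≠ 1 → ∀ u, z u = u → u ∈ normalizer (F.L : Set X) := by
      intro z hz hzz hz1 u hu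
      have hn := (F.comp z hz hzz hz1).1
      have hLz : ∀ l ∈ F.L, z l = l := fun l hl => F.fix z hz l hl
      have key : ∀ u, z u = u → ∀ l ∈ F.L, u * l * u⁻¹ ∈ F.L := by
        intro u hu l hl
        have h1 := hn.conj_mem ⟨l, hLz l hl⟩ (mem_subgroupOf.2 hl) ⟨u, hu⟩
        exact mem_subgroupOf.1 h1
      rw [mem_normalizer_iff]
      intro l
      refine ⟨key u hu l, fun h => ?_⟩
      have h1 := key u⁻¹ (by rw [map_inv, hu]) _ h
      have e1 : u⁻¹ * (u * l * u⁻¹) * u⁻¹⁻¹ = l := by group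
      rwa [e1] at h1
    have hxy1 : F.x * F.y ≠ 1 := by
      intro h
      apply F.ne
      have h1 := congrArg (fun z => z * F.y) h
      simp only [one_mul] at h1
      rwa [mul_assoc, F.yy, mul_one] at h1
    have hxy2 : (F.x * F.y) * (F.x * F.y) = 1 := by
      calc (F.x * F.y) * (F.x * F.y) = (F.x * F.y) * (F.y * F.x) := by rw [← F.xy]
        _ = F.x * (F.y * F.y) * F.x := by group
        _ = 1 := by rw [F.yy, mul_one, F.xx]
    have htop := FourGen.gen hp2 (hasSplit hp2 hX hR) F.xx F.yy F.xy hVp hV1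
      (fun v hv => by rw [F.fix F.x F.xW v (hVL hv)]; exact hv)
      (fun v hv => by rw [F.fix F.y F.yW v (hVL hv)]; exact hv)
      (hN F.x F.xW F.xx F.x1) (hN F.y F.yW F.yy F.y1)
      (fun u hu => hN (F.x * F.y) (mul_mem F.xW F.yW) hxy2 hxy1 u hu)
    have hnorm : F.L.Normal := normalizer_eq_top_iff.1 htop
    rcases hnorm.eq_bot_or_eq_top with h0 | h0
    · apply hne
      rw [h0]
      exact bot_subgroupOf _
    · apply F.x1
      ext u
      exact F.fix F.x F.xW u (by rw [h0]; exact mem_top u)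

end Cfsg.Agent.H283.OddFour
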