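import Cfsg.Agent.H283.SporFour
import Cfsg.Agent.H283.OddFour
import Cfsg.Agent.H298.FourRuCo
import Cfsg.Agent.H295.FourAltRow
/-!
# S3092 from the row of characteristic 2 (helper283)
-/

set_option autoImplicit false

namespace Cfsg.Agent.H283.Fin92

open Cfsg Subgroup
open Cfsg.Agent.H283.FourStd Cfsg.Agent.H283.FourSpor

universe u

/-- the row of characteristic 2 -/
def RowTwo : Prop := ∀ {X A : Type u} [Group X] [Finite X] [IsSimpleGroup X] [Group A], ¬ IsMulCommutative X →
    (IsLieTypeChar 2 X ∨ Lie.IsoTits X) → Nonempty (Four X A) → False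

/-- all the rows -/
theorem rows (h : RowTwo.{u}) : Rows.{u} where
  alt := fun hm he hF => H295.FourAlt.alt_row hm he hF
  two := fun hna h2 hF => h hna h2 hF
  odd := fun hp hp2 hX hF => OddFour.odd_row hp hp2 hX hF
  spor := fun hs hF => spor (fun F h => H298.FourRuCo.ru h F) (fun F h => H298.FourRuCo.co1 h F) hs hF

end Cfsg.Agent.H283.Fin92
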