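import Cfsg.Agent.H283.Rows93
import Cfsg.Agent.H14.KnownSimple
/-!
# Standard subgroups `A` with `A / Z(A)` in the list `Seven`: the conclusion (helper283)
-/

set_option autoImplicit false

namespace Cfsg.Agent.H283.Fin93

open Cfsg Subgroup Cfsg.Agent.SignalizersComponents.Components Cfsg.Agent.H283.StdSpor Cfsg.Agent.H283.Rows93
open Cfsg.Agent.H283.NotCTSpor

universe u

theorem fin {G : Type u} [Group G] [Finite G] (hs : IsSimpleGroup ↥(generalizedFittingSubgroup G))
    (hna : ¬ IsMulCommutative ↥(generalizedFittingSubgroup G)) {A : Subgroup G} (hA : IsStandardSubgroup A)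
    (hS : Seven (↥A ⧸ center ↥A))
    (hHN : Spor.IsoHN ↥(generalizedFittingSubgroup G) → Spor.IsoJ2 (↥A ⧸ center ↥A) →
      Sit ↥(generalizedFittingSubgroup G) ↥A → False) :
    Good ↥(generalizedFittingSubgroup G) ↥A :=
  table (main hs hna hA hS).1 hna hA.1 hS (row2 hs hna hA) hHN

/-- a non-abelian simple group modulo its center -/
theorem quoSelf {A : Type u} [Group A] [IsSimpleGroup A] (h : ¬ IsMulCommutative A) :
    Nonempty (A ⧸ center A ≃* A) :=
  ⟨(QuotientGroup.quotientMulEquivOfEq (CTwoTab.center_eq_bot_of_simple h)).trans QuotientGroup.quotientBot⟩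

/-- a member of the list is its own quotient -/
theorem quo_seven {A : Type u} [Group A] (hQ : IsQuasisimple A) (h : Seven A) : Nonempty (A ⧸ center A ≃* A) := by
  have hs : IsSimpleGroup A := Cfsg.Agent.H14.KnownSimple.sporadic h.sporadic
  have h1 : center A = ⊥ := by
    rcases IsSimpleGroup.eq_bot_or_eq_top_of_normal (center A) inferInstance with h1 | h1
    · exact h1
    · exact absurd h1 (quasisimple_center_ne_top hQ)
  exact ⟨(QuotientGroup.quotientMulEquivOfEq h1).trans QuotientGroup.quotientBot⟩

end Cfsg.Agent.H283.Fin93
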