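import Cfsg.Agent.H283.Fin93
import Cfsg.Agent.H287.HNd
/-!
# Standard subgroups `A` with `A / Z(A)` in the list `Seven`: all cases (helper283)
-/

set_option autoImplicit false

namespace Cfsg.Agent.H283.Fin94

open Cfsg Subgroup Cfsg.Agent.SignalizersComponents.Components Cfsg.Agent.H283.StdSpor Cfsg.Agent.H283.Rows93
open Cfsg.Agent.H283.NotCTSpor

universe u

theorem fin {G : Type u} [Group G] [Finite G] (hs : IsSimpleGroup ↥(generalizedFittingSubgroup G))
    (hna : ¬ IsMulCommutative ↥(generalizedFittingSubgroup G)) {A : Subgroup G} (hA : IsStandardSubgroup A)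
    (hS : Seven (↥A ⧸ center ↥A)) :
    Good ↥(generalizedFittingSubgroup G) ↥A := by
  refine Fin93.fin hs hna hA hS fun h hJ T => ?_
  have hle : T.L ≤ fixedSubgroup T.t := fun l hl => T.fix l hl
  have e : ↥(T.L.subgroupOf (fixedSubgroup T.t)) ≃* ↥A := (subgroupOfEquivOfLe hle).trans T.e
  refine H287.OutHN.no_j2 h (orderOf_eq_prime (by rw [pow_two]; exact T.tt) T.ne) T.out (Sit.comp T) ?_
  obtain ⟨f⟩ := hJ
  exact ⟨(CTwoTab.quoEquiv e).trans f⟩

end Cfsg.Agent.H283.Fin94
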