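import Cfsg.Agent.FixOdd.Inst
/-!
# Two commuting involutory automorphisms and the building (helper283)

* `card_fix2` : two commuting involutions on a finite set: the number of the common fixed points has the parity of the
  order;
* `smith2` : two commuting involutory automorphisms `s`, `t` stabilizing a convex set `X` of chambers which contains no
  chamber opposite to `c ∈ X` stabilize a proper residue which meets `X`;
* `exists_opp2` : a stable residue has a stable opposite residue;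
* `gen_radicals` : the unipotent radicals of two opposite proper residues generate the simple group `G`.
-/

set_option autoImplicit false
set_option linter.unusedSectionVars false

open scoped Pointwise

namespace Cfsg.Agent.H283.FourGeo

open Cfsg.Agent.Tits.Core Cfsg.Agent.Tits.Core.Bldg Cfsg.Agent.Tits.Exchange Cfsg.Agent.Tits
open Cfsg.Agent.FixBN (Sys Conv conv_Res eq_of_isMinR par_transfer par_δ SS SS_all SS_nonempty mem_SS_of_δ)
open Cfsg.Agent.FixBN.Cox (Par Ad conjSet mem_of_simple_mem wJ_inj par_of_longest mem_WJ_map par_one)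
open Cfsg.Agent.FixOdd Cfsg.Agent.FixOdd.Cox Cfsg.Agent.FixOdd.Tw

section parity

variable {α : Type*} [Finite α]

theorem even_sub {f : α → α} (hf : ∀ a, f (f a) = a) : Nat.card α ≡ Nat.card {a // f a = a} [MOD 2] := by
  have : Fact (Nat.Prime 2) := ⟨Nat.prime_two⟩
  exact card_fixed_modEq f (by
    funext a
    exact hf a)

/-- the number of the common fixed points of two commuting involutions -/
theorem card_fix2 (f g : α → α) (hf : ∀ a, f (f a) = a) (hg : ∀ a, g (g a) = a) (hfg : ∀ a, f (g a) = g (f a)) :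
    Nat.card α ≡ Nat.card {a // f a = a ∧ g a = a} [MOD 2] := by
  let k : {a // f a = a} → {a // f a = a} := fun a => ⟨g a.1, by rw [hfg, a.2]⟩
  have h1 := even_sub hf
  have h2 := even_sub (f := k) (fun a => Subtype.ext (hg a.1))
  refine h1.trans (h2.trans ?_)
  have e : {a : {a // f a = a} // k a = a} ≃ {a // f a = a ∧ g a = a} :=
    { toFun := fun a => ⟨a.1.1, a.1.2, congrArg Subtype.val a.2⟩
      invFun := fun a => ⟨⟨a.1, a.2.1⟩, Subtype.ext a.2.2⟩
      left_inv := fun a => rfl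
      right_inv := fun a => rfl }
  rw [Nat.card_congr e]

end parity

variable {I : Type*} {M : CoxeterMatrix I} {W : Type*} [Group W] {cs : CoxeterSystem M W} {C : Type*}

local prefix:100 "ℓ" => cs.length

variable {Δ : Bldg cs C} {G : Type*} [Group G] [MulAction G C] {p : ℕ} {s t : Tw Δ G} [F : OppRes.Cox cs]

section inj

/-- a chamber is determined by its unipotent radical -/
theorem U_inj (S : Sys Δ G p) (hth : Δ.Thick) {x y : C} (h : S.U x = S.U y) : x = y := by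
  by_contra hne
  have hv : Δ.δ x y ≠ 1 := fun h1 => hne (Δ.eq_of_δ_eq_one h1)
  obtain ⟨i, hi⟩ := cs.exists_rightDescent_of_ne_one hv
  have hi : ℓ (Δ.δ x y * cs.simple i) < ℓ (Δ.δ x y) := hi
  obtain ⟨z0, hz0, hz0'⟩ := Δ.exists_step x y i
  obtain ⟨z1, hz1, hz1y, hz1z⟩ := hth.exists_third (i := i) (x := y) y z0
  have h1 : Δ.δ y z1 = cs.simple i := by
    rcases hz1 with h1 | h1
    · exact absurd h1 hz1y
    · exact h1
  have h2 : Δ.δ x z1 = Δ.δ x y := by
    have h3 : Δ.δ z0 z1 = cs.simple i := by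
      rcases Δ.mem_Pan_trans (Δ.mem_Pan_symm (Δ.mem_Pan_of_δ hz0)) hz1 with h3 | h3
      · exact absurd h3 hz1z
      · exact h3
    have h4 := Δ.step_lt x z0 z1 i h3 (by
      rw [hz0', mul_assoc, cs.simple_mul_simple_self, mul_one]
      exact hi)
    rw [h4, hz0', mul_assoc, cs.simple_mul_simple_self, mul_one]
  obtain ⟨u, hu, huz⟩ := S.exists_move h2.symm
  rw [h] at hu
  rw [S.fix y u hu] at huz
  exact hz1y huz.symm

omit F in
theorem U_θ (S : Sys Δ G p) (x : C) : S.U (t.θ x) = (S.U x).map (t.τ : G ≃* G).toMonoidHom := by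
  apply le_antisymm
  · intro g hg
    have h1 : IsPGroup p ((S.U (t.θ x)).map (t.τ : G ≃* G).symm.toMonoidHom) := (S.isP _).map _
    have h2 : (S.U (t.θ x)).map (t.τ : G ≃* G).symm.toMonoidHom ≤ S.U x := by
      refine S.max x _ h1 ?_
      rintro _ ⟨v, hv, rfl⟩
      apply t.θ.injective
      change t.θ ((t.τ : G ≃* G).symm v • x) = t.θ x
      rw [t.θ_smul]
      change (t.τ : G ≃* G) ((t.τ : G ≃* G).symm v) • t.θ x = t.θ x
      rw [MulEquiv.apply_symm_apply]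
      exact S.fix _ v hv
    exact ⟨_, h2 ⟨g, hg, rfl⟩, (t.τ : G ≃* G).apply_symm_apply g⟩
  · rintro _ ⟨g, hg, rfl⟩
    exact τ_mem_U S t hg

/-- the actions on the chambers commute -/
theorem θ_comm (S : Sys Δ G p) (hth : Δ.Thick) (h : ∀ g, s.τ (t.τ g) = t.τ (s.τ g)) (x : C) :
    s.θ (t.θ x) = t.θ (s.θ x) := by
  refine U_inj S hth ?_
  rw [U_θ, U_θ, U_θ, U_θ, Subgroup.map_map, Subgroup.map_map]
  congr 1
  ext g
  exact h g

omit F in
theorem σ_comm [F : OppRes.Cox cs] [hC : Nonempty C] (h : ∀ x, s.θ (t.θ x) = t.θ (s.θ x)) (i : I) :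
    s.σ (t.σ i) = t.σ (s.σ i) := by
  obtain ⟨y, hy⟩ := Δ.exists_δ hC.some (cs.simple i)
  have h1 : Δ.δ (s.θ (t.θ hC.some)) (s.θ (t.θ y)) = cs.simple (s.σ (t.σ i)) := by
    rw [s.δ_θ, t.δ_θ, hy, t.φ_simple, s.φ_simple]
  have h2 : Δ.δ (t.θ (s.θ hC.some)) (t.θ (s.θ y)) = cs.simple (t.σ (s.σ i)) := by
    rw [t.δ_θ, s.δ_θ, hy, s.φ_simple, t.φ_simple]
  rw [h, h, h2] at h1
  exact (F.inj h1).symm

end inj

section smith

variable [Fintype I] {X : Set C} {c : C}

/-- the action on the residues which meet `X` -/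
def fQ (t : Tw Δ G) (hX : ∀ x ∈ X, t.θ x ∈ X) (a : Qs Δ X (Finset.univ : Finset I) c) :
    Qs Δ X (Finset.univ : Finset I) c :=
  ⟨(a.1.1.map t.σ.toEmbedding, t.θ '' a.1.2), by
    obtain ⟨-, d, hd, -, hQ⟩ := a.2
    refine ⟨Finset.subset_univ _, t.θ d, hX d hd, ?_, ?_⟩
    · rw [Finset.coe_univ, Bldg.Res_univ]
      trivial
    · change t.θ '' a.1.2 = Δ.Res ((a.1.1.map t.σ.toEmbedding : Finset I) : Set I) (t.θ d)
      rw [hQ, image_Res', Finset.coe_map]
      rfl⟩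

omit F in
theorem fQ_fst [F : OppRes.Cox cs] (hX : ∀ x ∈ X, t.θ x ∈ X) (a : Qs Δ X (Finset.univ : Finset I) c) :
    (fQ t hX a).1.1 = a.1.1.map t.σ.toEmbedding := rfl

theorem fQ_snd (hX : ∀ x ∈ X, t.θ x ∈ X) (a : Qs Δ X (Finset.univ : Finset I) c) :
    (fQ t hX a).1.2 = t.θ '' a.1.2 := rfl

theorem fQ_fQ (hθ : t.θ ^ 2 = 1) (hX : ∀ x ∈ X, t.θ x ∈ X) (a : Qs Δ X (Finset.univ : Finset I) c) :
    fQ t hX (fQ t hX a) = a := by
  have hC : Nonempty C := ⟨c⟩
  have hσ : t.σ ^ 2 = 1 := σ_pow hθ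
  have h1 : ∀ x, t.θ (t.θ x) = x := fun x => by
    have := congrArg (fun f : Equiv.Perm C => f x) hθ
    rwa [pow_two] at this
  have h2 : ∀ x, t.σ (t.σ x) = x := fun x => by
    have := congrArg (fun f : Equiv.Perm I => f x) hσ
    rwa [pow_two] at this
  apply Subtype.ext
  apply Prod.ext
  · rw [fQ_fst, fQ_fst, Finset.map_map]
    ext i
    rw [Finset.mem_map]
    constructor
    · rintro ⟨j, hj, rfl⟩
      change t.σ (t.σ j) ∈ _
      rwa [h2]
    · intro hi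
      exact ⟨i, hi, h2 i⟩
  · rw [fQ_snd, fQ_snd, Set.image_image]
    ext y
    constructor
    · rintro ⟨z, hz, rfl⟩
      change t.θ (t.θ z) ∈ _
      rwa [h1]
    · intro hy
      exact ⟨y, hy, h1 y⟩

theorem fQ_comm (h : ∀ x, s.θ (t.θ x) = t.θ (s.θ x)) (hXs : ∀ x ∈ X, s.θ x ∈ X) (hXt : ∀ x ∈ X, t.θ x ∈ X)
    (a : Qs Δ X (Finset.univ : Finset I) c) : fQ s hXs (fQ t hXt a) = fQ t hXt (fQ s hXs a) := by
  have hC : Nonempty C := ⟨c⟩
  apply Subtype.ext
  apply Prod.ext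
  · rw [fQ_fst, fQ_fst, fQ_fst, fQ_fst, Finset.map_map, Finset.map_map]
    congr 1
    ext i
    exact σ_comm h i
  · rw [fQ_snd, fQ_snd, fQ_snd, fQ_snd, Set.image_image, Set.image_image]
    refine Set.image_congr fun x _ => h x

/-- **The Smith count for two commuting involutions.** -/
theorem smith2 [Finite C] (hs : s.θ ^ 2 = 1) (ht : t.θ ^ 2 = 1) (h : ∀ x, s.θ (t.θ x) = t.θ (s.θ x))
    (hX : Conv Δ X) (hXs : ∀ x ∈ X, s.θ x ∈ X) (hXt : ∀ x ∈ X, t.θ x ∈ X) (hc : c ∈ X)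
    (hno : ∀ d ∈ X, Δ.δ c d ≠ wJ cs Set.univ) :
    ∃ J : Set I, J ≠ Set.univ ∧ s.Stab J ∧ t.Stab J ∧ ∃ d ∈ X, s.θ d ∈ Δ.Res J d ∧ t.θ d ∈ Δ.Res J d := by
  classical
  have hfin : Finite (Qs Δ X (Finset.univ : Finset I) c) := Subtype.finite
  have h1 := card_fix2 (fQ (c := c) s hXs) (fQ t hXt) (fQ_fQ hs hXs) (fQ_fQ ht hXt) (fQ_comm h hXs hXt)
  have h2 := card_qs (J0 := (Finset.univ : Finset I)) hX hc (by rwa [Finset.coe_univ])
  have h3 : Nat.card (Qs Δ X (Finset.univ : Finset I) c) =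
      Nat.card {a : Qs Δ X (Finset.univ : Finset I) c // Even a.1.1.card} +
        Nat.card {a : Qs Δ X (Finset.univ : Finset I) c // ¬ Even a.1.1.card} := by
    rw [← Nat.card_sum]
    exact Nat.card_congr (Equiv.sumCompl _).symm
  by_contra hcon
  push Not at hcon
  let a0 : Qs Δ X (Finset.univ : Finset I) c :=
    ⟨(Finset.univ, Δ.Res ((Finset.univ : Finset I) : Set I) c), subset_rfl, c, hc, Δ.self_mem_Res _ _, rfl⟩
  have hu : ∀ d : C, Δ.Res ((Finset.univ : Finset I) : Set I) d = Set.univ := fun d => by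
    rw [Finset.coe_univ, Bldg.Res_univ]
  have hfix : ∀ a : Qs Δ X (Finset.univ : Finset I) c, fQ s hXs a = a → fQ t hXt a = a → a = a0 := by
    intro a ha ha'
    obtain ⟨-, d, hd, hdc, hQ⟩ := a.2
    have k : ∀ (r : Tw Δ G) (hXr : ∀ x ∈ X, r.θ x ∈ X), fQ r hXr a = a →
        r.Stab (a.1.1 : Set I) ∧ r.θ d ∈ Δ.Res (a.1.1 : Set I) d := by
      intro r hXr hr
      have e1 : a.1.1.map r.σ.toEmbedding = a.1.1 := congrArg (fun a : Qs Δ X (Finset.univ : Finset I) c => a.1.1) hr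
      have e2 : r.θ '' a.1.2 = a.1.2 := congrArg (fun a : Qs Δ X (Finset.univ : Finset I) c => a.1.2) hr
      constructor
      · intro i hi
        rw [Finset.mem_coe, ← e1]
        exact Finset.mem_map.2 ⟨i, Finset.mem_coe.1 hi, rfl⟩
      · rw [← hQ, ← e2]
        exact ⟨d, by rw [hQ]; exact Δ.self_mem_Res _ _, rfl⟩
    obtain ⟨k1, k2⟩ := k s hXs ha
    obtain ⟨k3, k4⟩ := k t hXt ha'
    by_cases e5 : (a.1.1 : Set I) = Set.univ
    · have e6 : a.1.1 = Finset.univ := Finset.coe_injective (by rw [e5, Finset.coe_univ])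
      apply Subtype.ext
      apply Prod.ext
      · exact e6
      · change a.1.2 = Δ.Res ((Finset.univ : Finset I) : Set I) c
        rw [hQ, e5, Bldg.Res_univ, hu]
    · exact absurd k4 (hcon _ e5 k1 k3 d hd k2)
  have h0 : ∀ (r : Tw Δ G) (hXr : ∀ x ∈ X, r.θ x ∈ X), fQ r hXr a0 = a0 := by
    intro r hXr
    apply Subtype.ext
    apply Prod.ext
    · rw [fQ_fst]
      ext i
      refine ⟨fun _ => Finset.mem_univ _, fun _ => Finset.mem_map.2 ⟨r.σ.symm i, Finset.mem_univ _, ?_⟩⟩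
      exact r.σ.apply_symm_apply i
    · rw [fQ_snd]
      change r.θ '' Δ.Res ((Finset.univ : Finset I) : Set I) c = Δ.Res ((Finset.univ : Finset I) : Set I) c
      rw [hu, Set.image_univ, r.θ.surjective.range_eq]
  have k1 : Nat.card {a // fQ (c := c) s hXs a = a ∧ fQ t hXt a = a} = 1 := by
    have : Unique {a // fQ (c := c) s hXs a = a ∧ fQ t hXt a = a} :=
      { default := ⟨a0, h0 s hXs, h0 t hXt⟩
        uniq := fun a => Subtype.ext (hfix _ a.2.1 a.2.2) }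
    exact Nat.card_unique
  rw [k1, h3, ← h2, ← two_mul] at h1
  have h4 : (2 * Nat.card {a : Qs Δ X (Finset.univ : Finset I) c // Even a.1.1.card}) % 2 = 1 % 2 := h1
  omega

end smith

section opp

variable [Finite I] [Finite G] [hp : Fact p.Prime] [Finite C]

/-- **Two commuting involutions stabilizing a residue stabilize an opposite residue.** -/
theorem exists_opp2 (S : Sys Δ G p) (hth : Δ.Thick) (hp2 : p ≠ 2) (hs : s.θ ^ 2 = 1) (ht : t.θ ^ 2 = 1)
    (h : ∀ x, s.θ (t.θ x) = t.θ (s.θ x)) {J : Set I} {x : C} (hJs : s.Stab J) (hJt : t.Stab J)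
    (hxs : s.θ x ∈ Δ.Res J x) (hxt : t.θ x ∈ Δ.Res J x) :
    ∃ (K : Set I) (b : W) (z : C), Ad cs s.φ s.σ Set.univ J K b ∧ t.Stab K ∧ Δ.δ x z = b ∧
      s.θ z ∈ Δ.Res K z ∧ t.θ z ∈ Δ.Res K z := by
  classical
  obtain ⟨K, b, had⟩ := exists_ad (cs := cs) s.φ_simple (T := Set.univ) (J := J)
    (fun _ _ => Set.mem_univ _) hJs (Set.subset_univ _)
  obtain ⟨K', b', had'⟩ := exists_ad (cs := cs) t.φ_simple (T := Set.univ) (J := J)
    (fun _ _ => Set.mem_univ _) hJt (Set.subset_univ _)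
  have hb : b' = b := mul_left_cancel (had'.long'.trans had.long'.symm)
  subst hb
  have hK : K' = K := wJ_inj (cs := cs) (mul_left_cancel (had'.long.trans had.long.symm))
  subst hK
  have h2 : Fact (Nat.Prime 2) := ⟨Nat.prime_two⟩
  have hodd : ¬ 2 ∣ Nat.card (SS Δ J K' b' x) := by
    obtain ⟨Z, hZ⟩ := SS_nonempty (Δ := Δ) J K' b' x
    have h1 : SS Δ J K' b' x = MulAction.orbit (S.UR (Δ.Res J x)) Z := by
      ext Z'
      constructor
      · intro hZ'
        obtain ⟨u, hu, _, huZ⟩ := S.trans_SS hth (T := Set.univ) (Δ.δ_self x) (par_one J)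
          (isMinR_one cs Set.univ) had hZ hZ'
        exact ⟨⟨u, hu⟩, huZ⟩
      · rintro ⟨⟨u, hu⟩, rfl⟩
        obtain ⟨z, hz, rfl⟩ := SS_all had.par hZ (Δ.self_mem_Res _ _)
        refine ⟨x, Δ.self_mem_Res _ _, u • z, ?_, S.smul_Res u K' z⟩
        rw [← hz, ← S.iso u x z, S.fix x u (hu x (Δ.self_mem_Res _ _))]
    rw [Nat.card_coe_set_eq, h1, ← MulAction.index_stabilizer]
    exact fun hd => not_dvd_card hp2.symm (S.UR_isP ⟨x, Δ.self_mem_Res _ _⟩)
      (hd.trans (Subgroup.index_dvd_card _))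
  -- the actions
  have key : ∀ (r : Tw Δ G), r.Stab J → r.Stab K' → r.φ b' = b' → r.θ x ∈ Δ.Res J x →
      ∀ Z ∈ SS Δ J K' b' x, r.θ '' Z ∈ SS Δ J K' b' x := by
    rintro r hrJ hrK hrb hrx _ ⟨y', hy', z, hz, rfl⟩
    refine ⟨r.θ y', θ_stable_Res hrJ hrx y' hy', r.θ z, ?_, ?_⟩
    · rw [r.δ_θ, hz, hrb]
    · rw [r.image_Res hrK]
  have ks := key s hJs had.st' had.fix hxs
  have kt := key t hJt had'.st' had'.fix hxt
  have hinv : ∀ (r : Tw Δ G), r.θ ^ 2 = 1 → ∀ Z : Set C, r.θ '' (r.θ '' Z) = Z := by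
    intro r hr Z
    rw [Set.image_image]
    have h1 : ∀ x, r.θ (r.θ x) = x := fun x => by
      have := congrArg (fun f : Equiv.Perm C => f x) hr
      rwa [pow_two] at this
    ext y
    constructor
    · rintro ⟨z, hz, rfl⟩
      change r.θ (r.θ z) ∈ _
      rwa [h1]
    · intro hy
      exact ⟨y, hy, h1 y⟩
  let f : SS Δ J K' b' x → SS Δ J K' b' x := fun Z => ⟨s.θ '' Z.1, ks Z.1 Z.2⟩
  let g : SS Δ J K' b' x → SS Δ J K' b' x := fun Z => ⟨t.θ '' Z.1, kt Z.1 Z.2⟩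
  have h1 := card_fix2 f g (fun Z => Subtype.ext (hinv s hs Z.1)) (fun Z => Subtype.ext (hinv t ht Z.1))
    (fun Z => Subtype.ext (by
      change s.θ '' (t.θ '' Z.1) = t.θ '' (s.θ '' Z.1)
      rw [Set.image_image, Set.image_image]
      exact Set.image_congr fun x _ => h x))
  have h3 : Nat.card {a // f a = a ∧ g a = a} ≠ 0 := by
    intro h0
    rw [h0] at h1
    exact hodd ((Nat.modEq_zero_iff_dvd).1 h1)
  obtain ⟨⟨⟨Z, hZ⟩, hZs, hZt⟩⟩ : Nonempty {a // f a = a ∧ g a = a} := by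
    by_contra hne
    rw [not_nonempty_iff] at hne
    exact h3 Nat.card_of_isEmpty
  obtain ⟨z, hz, rfl⟩ := SS_all had.par hZ (Δ.self_mem_Res _ _)
  exact ⟨K', b', z, had, had'.st', hz, gd_of_image (congrArg Subtype.val hZs),
    gd_of_image (congrArg Subtype.val hZt)⟩

end opp

section gen

variable (S : Sys Δ G p)

/-- the groups of two opposite chambers move a chamber to its neighbours -/
theorem panel_of_opp (hth : Δ.Thick) {E : Subgroup G} {c c' : C} (hopp : Δ.Opp c' c) (h1 : S.U c ≤ E)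
    (h2 : S.U c' ≤ E) {i : I} {d : C} (hd : Δ.δ c d = cs.simple i) : ∃ e ∈ E, e • c = d := by
  obtain ⟨z0, hz0, hz0'⟩ := Δ.exists_step c' c i
  obtain ⟨z1, hz1, hz1y, hz1z⟩ := hth.exists_third (i := i) (x := c) c z0
  have k1 : Δ.δ c z1 = cs.simple i := by
    rcases hz1 with h1 | h1
    · exact absurd h1 hz1y
    · exact h1
  have k2 : Δ.δ c' z1 = Δ.δ c' c := by
    have h3 : Δ.δ z0 z1 = cs.simple i := by
      rcases Δ.mem_Pan_trans (Δ.mem_Pan_symm (Δ.mem_Pan_of_δ hz0)) hz1 with h3 | h3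
      · exact absurd h3 hz1z
      · exact h3
    have h4 := Δ.step_lt c' z0 z1 i h3 (by
      rw [hz0', mul_assoc, cs.simple_mul_simple_self, mul_one]
      have h5 : Δ.δ c' c = w0 cs := hopp
      have h6 := F.len_w0_mul (cs.simple i)
      rw [cs.length_simple] at h6
      rw [h5]
      omega)
    rw [h4, hz0', mul_assoc, cs.simple_mul_simple_self, mul_one]
  obtain ⟨u, hu, huz⟩ := S.exists_move k2.symm
  obtain ⟨v, hv, hvz⟩ := S.exists_move (k1.trans hd.symm)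
  exact ⟨v * u, mul_mem (h1 hv) (h2 hu), by rw [mul_smul, huz, hvz]⟩

/-- the groups of two opposite chambers are transitive on the chambers -/
theorem trans_of_opp (hth : Δ.Thick) {E : Subgroup G} {c c' : C} (hopp : Δ.Opp c' c) (h1 : S.U c ≤ E)
    (h2 : S.U c' ≤ E) (d : C) : ∃ e ∈ E, e • c = d := by
  induction hn : ℓ (Δ.δ c d) using Nat.strong_induction_on generalizing d with
  | _ n ih =>
    by_cases hcd : Δ.δ c d = 1
    · exact ⟨1, one_mem _, by rw [one_smul]; exact Δ.eq_of_δ_eq_one hcd⟩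
    obtain ⟨i, hi⟩ := cs.exists_rightDescent_of_ne_one hcd
    have hi : ℓ (Δ.δ c d * cs.simple i) < ℓ (Δ.δ c d) := hi
    obtain ⟨z0, hz0, hz0'⟩ := Δ.exists_step c d i
    obtain ⟨e, he, hez⟩ := ih _ (by rw [← hn, hz0']; exact hi) z0 rfl
    have h3 : Δ.δ c (e⁻¹ • d) = cs.simple i := by
      have h4 : Δ.δ (e • c) (e • (e⁻¹ • d)) = Δ.δ c (e⁻¹ • d) := S.iso _ _ _
      rw [hez, smul_inv_smul] at h4
      rw [← h4]
      exact Δ.δ_symm_simple hz0
    obtain ⟨f, hf, hfd⟩ := panel_of_opp S hth hopp h1 h2 h3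
    exact ⟨e * f, mul_mem he hf, by rw [mul_smul, hfd, smul_inv_smul]⟩

/-- the groups of two opposite chambers generate the simple group `G` -/
theorem top_of_opp [IsSimpleGroup G] (hth : Δ.Thick) {E : Subgroup G} {c c' : C} (hopp : Δ.Opp c' c)
    (h1 : S.U c ≤ E) (h2 : S.U c' ≤ E) (hne : S.U c ≠ ⊥) : E = ⊤ := by
  have h3 : (⨆ d, S.U d) ≤ E := by
    refine iSup_le fun d u hu => ?_
    obtain ⟨e, he, rfl⟩ := trans_of_opp S hth hopp h1 h2 d
    have h4 : e⁻¹ * u * e⁻¹⁻¹ ∈ S.U c := by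
      have := S.conj_mem_U hu e⁻¹
      rwa [inv_smul_smul] at this
    have h5 := mul_mem (mul_mem he (h1 h4)) (inv_mem he)
    have e1 : e * (e⁻¹ * u * e⁻¹⁻¹) * e⁻¹ = u := by group
    rwa [e1] at h5
  have hn : (⨆ d, S.U d).Normal := by
    refine ⟨fun n hn g => ?_⟩
    have h1 : (⨆ d, S.U d).map (MulAut.conj g).toMonoidHom ≤ ⨆ d, S.U d := by
      rw [Subgroup.map_iSup]
      refine iSup_le fun d => ?_
      rintro _ ⟨x, hx, rfl⟩
      exact (le_iSup S.U (g • d)) (S.conj_mem_U hx g)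
    exact h1 ⟨n, hn, rfl⟩
  rcases hn.eq_bot_or_eq_top with h4 | h4
  · exact absurd (le_bot_iff.1 ((le_iSup S.U c).trans h4.le)) hne
  · rw [h4] at h3
    exact top_le_iff.1 h3

/-- **The unipotent radicals of two opposite proper residues generate.** -/
theorem gen_radicals [IsSimpleGroup G] [Finite I] [Finite G] [hp : Fact p.Prime] [Finite C] (hth : Δ.Thick)
    {φ : W ≃* W} {σ : I → I}
    {J K : Set I} {b : W} {x z : C} (hJ : J ≠ Set.univ) (had : Ad cs φ σ Set.univ J K b)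
    (had' : Ad cs φ σ Set.univ K J b⁻¹) (hz : Δ.δ x z = b) (hne : ∃ c, S.U c ≠ ⊥) :
    S.UR (Δ.Res J x) ⊔ S.UR (Δ.Res K z) = ⊤ := by
  -- opposite chambers
  obtain ⟨z', hz'⟩ := Δ.exists_δ z (wJ cs K)
  have hzz : z' ∈ Δ.Res K z := by rw [mem_Res, hz']; exact F.wJ_mem K
  have hopp : Δ.Opp x z' := by
    have := Δ.δ_mul_of hz hz' (had.par.minR _ (F.wJ_mem K))
    rw [had.long] at this
    exact this
  have hopp' : Δ.Opp z' x := by
    have h1 := Δ.symm x z'
    have h2 : Δ.δ x z' = w0 cs := hopp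
    rw [h2, F.w0_inv] at h1
    exact h1
  have hUx : S.U x ≠ ⊥ := by
    obtain ⟨c, hc⟩ := hne
    intro h0
    apply hc
    obtain ⟨e, -, rfl⟩ := trans_of_opp S hth (E := ⊤) (c := x) hopp' le_top le_top c
    rw [eq_bot_iff]
    intro u hu
    have h4 : e⁻¹ * u * e⁻¹⁻¹ ∈ S.U x := by
      have := S.conj_mem_U hu e⁻¹
      rwa [inv_smul_smul] at this
    rw [h0, Subgroup.mem_bot] at h4
    have e1 : u = e * (e⁻¹ * u * e⁻¹⁻¹) * e⁻¹ := by group
    rw [Subgroup.mem_bot, e1, h4]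
    group
  have hz1 : Δ.Res K z ∈ SS Δ J K b x := mem_SS_of_δ hz
  have hx1 : Δ.Res J x ∈ SS Δ K J b⁻¹ z := mem_SS_of_δ (by rw [Δ.symm, hz])
  set D := S.UR (Δ.Res J x) ⊔ S.UR (Δ.Res K z) with hD
  -- the factorization
  have kx : ∀ u ∈ S.U x, ∃ v ∈ S.UR (Δ.Res J x), (v⁻¹ * u) • Δ.Res J x = Δ.Res J x ∧
      (v⁻¹ * u) • Δ.Res K z = Δ.Res K z := by
    intro u hu
    have hux : u • Δ.Res J x = Δ.Res J x := by rw [S.smul_Res, S.fix x u hu]
    have h1 : u • Δ.Res K z ∈ SS Δ J K b x := by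
      rw [S.smul_Res]
      refine mem_SS_of_δ ?_
      rw [← hz, ← S.iso u x z, S.fix x u hu]
    obtain ⟨v, hv, -, hvz⟩ := S.trans_SS hth (T := Set.univ) (Δ.δ_self x) (par_one J)
      (isMinR_one cs Set.univ) had hz1 h1
    refine ⟨v, hv, ?_, ?_⟩
    · rw [mul_smul, hux, inv_smul_eq_iff, S.smul_Res, S.fix x v (hv x (Δ.self_mem_Res _ _))]
    · rw [mul_smul, ← hvz, inv_smul_smul]
  have kz : ∀ u ∈ S.U z', ∃ v ∈ S.UR (Δ.Res K z), (v⁻¹ * u) • Δ.Res J x = Δ.Res J x ∧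
      (v⁻¹ * u) • Δ.Res K z = Δ.Res K z := by
    intro u hu
    have e1 : Δ.Res K z = Δ.Res K z' := (Δ.Res_eq_of_mem hzz).symm
    have huz : u • Δ.Res K z = Δ.Res K z := by rw [e1, S.smul_Res, S.fix z' u hu]
    have h1 : u • Δ.Res J x ∈ SS Δ K J b⁻¹ z := by
      obtain ⟨x2, hx2, he⟩ := SS_all had'.par hx1 hzz
      refine ⟨z', hzz, u • x2, ?_, ?_⟩
      · rw [← hx2, ← S.iso u z' x2, S.fix z' u hu]
      · rw [he, S.smul_Res]
    obtain ⟨v, hv, -, hvz⟩ := S.trans_SS hth (T := Set.univ) (Δ.δ_self z) (par_one K)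
      (isMinR_one cs Set.univ) had' hx1 h1
    refine ⟨v, hv, ?_, ?_⟩
    · rw [mul_smul, ← hvz, inv_smul_smul]
    · rw [mul_smul, huz, inv_smul_eq_iff, S.smul_Res, S.fix z v (hv z (Δ.self_mem_Res _ _))]
  -- the stabilizers normalize `D`
  have kn : ∀ g : G, g • Δ.Res J x = Δ.Res J x → g • Δ.Res K z = Δ.Res K z → ∀ n ∈ D, g * n * g⁻¹ ∈ D := by
    intro g h1 h2 n hn
    have h3 : D.map (MulAut.conj g).toMonoidHom ≤ D := by
      rw [hD, Subgroup.map_sup]
      refine sup_le ?_ ?_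
      · rintro _ ⟨u, hu, rfl⟩
        refine Subgroup.mem_sup_left ?_
        have h4 := (S.conj_mem_UR_iff (Q := Δ.Res J x) (u := u) (g := g)).2 hu
        rw [h1] at h4
        exact h4
      · rintro _ ⟨u, hu, rfl⟩
        refine Subgroup.mem_sup_right ?_
        have h4 := (S.conj_mem_UR_iff (Q := Δ.Res K z) (u := u) (g := g)).2 hu
        rw [h2] at h4
        exact h4
    exact h3 ⟨n, hn, rfl⟩
  have kN : ∀ g : G, (∃ v ∈ D, (v⁻¹ * g) • Δ.Res J x = Δ.Res J x ∧ (v⁻¹ * g) • Δ.Res K z = Δ.Res K z) →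
      ∀ n ∈ D, g * n * g⁻¹ ∈ D := by
    rintro g ⟨v, hv, h1, h2⟩ n hn
    have h3 := mul_mem (mul_mem hv (kn _ h1 h2 n hn)) (inv_mem hv)
    have e1 : v * (v⁻¹ * g * n * (v⁻¹ * g)⁻¹) * v⁻¹ = g * n * g⁻¹ := by group
    rwa [e1] at h3
  have hnorm : D.Normal := by
    have h1 : Subgroup.normalizer (D : Set G) = ⊤ := by
      have hle : ∀ (c : C), (∀ u ∈ S.U c, ∀ n ∈ D, u * n * u⁻¹ ∈ D) → S.U c ≤ Subgroup.normalizer (D : Set G) := by
        intro c hc u hu
        rw [Subgroup.mem_normalizer_iff]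
        intro n
        refine ⟨hc u hu n, fun hn => ?_⟩
        have h2 := hc u⁻¹ (inv_mem hu) _ hn
        have e1 : u⁻¹ * (u * n * u⁻¹) * u⁻¹⁻¹ = n := by group
        rwa [e1] at h2
      refine top_of_opp S hth hopp' (hle x fun u hu => kN u ?_) (hle z' fun u hu => kN u ?_) hUx
      · obtain ⟨v, hv, h⟩ := kx u hu
        exact ⟨v, Subgroup.mem_sup_left hv, h⟩
      · obtain ⟨v, hv, h⟩ := kz u hu
        exact ⟨v, Subgroup.mem_sup_right hv, h⟩
    exact Subgroup.normalizer_eq_top_iff.1 h1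
  rcases hnorm.eq_bot_or_eq_top with h0 | h0
  · exfalso
    have hx0 : S.UR (Δ.Res J x) = ⊥ := le_bot_iff.1 (le_sup_left.trans h0.le)
    have hz0 : S.UR (Δ.Res K z) = ⊥ := le_bot_iff.1 (le_sup_right.trans h0.le)
    have hst : MulAction.stabilizer G (Δ.Res J x) = ⊤ := by
      refine top_of_opp S hth hopp' (fun u hu => ?_) (fun u hu => ?_) hUx
      · obtain ⟨v, hv, h1, -⟩ := kx u hu
        rw [hx0, Subgroup.mem_bot] at hv
        rw [hv, inv_one, one_mul] at h1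
        exact h1
      · obtain ⟨v, hv, h1, -⟩ := kz u hu
        rw [hz0, Subgroup.mem_bot] at hv
        rw [hv, inv_one, one_mul] at h1
        exact h1
    apply hJ
    rw [Set.eq_univ_iff_forall]
    intro i
    obtain ⟨d, hd⟩ := Δ.exists_δ x (cs.simple i)
    obtain ⟨e, -, hed⟩ := trans_of_opp S hth (E := ⊤) hopp' le_top le_top d
    have h1 : e • Δ.Res J x = Δ.Res J x := by
      have : e ∈ MulAction.stabilizer G (Δ.Res J x) := by rw [hst]; trivial
      exact this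
    have h2 : d ∈ Δ.Res J x := by
      rw [← h1, ← hed]
      exact Set.smul_mem_smul_set (Δ.self_mem_Res _ _)
    rw [mem_Res, hd] at h2
    exact mem_of_simple_mem h2
  · exact h0

end gen

end Cfsg.Agent.H283.FourGeo
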