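import Cfsg.Agent.H283.FourStd
import Cfsg.Agent.H498.SporOut
import Cfsg.Agent.CpAut.Base
/-!
# S3092: the sporadic row, the situation (helper283)

`In1 X A` : a quasisimple subgroup `L ≅ A` of `X` which is a normal component of `C_X(z)` for all the involutions `z` of
`C_X(L)`; an involution `t ∈ C_X(L)` and an involutory automorphism `y ≠ conj t` of `X` which centralizes `t` and `L`, such
that `L` is a normal component of `C_X(y)`.

`of_four` : `X` sporadic, `Four X A` : `In1 X A`.
-/

set_option autoImplicit false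

namespace Cfsg.Agent.H283.FourSpor

open Cfsg Subgroup Cfsg.Agent.SignalizersComponents Cfsg.Agent.SignalizersComponents.Components
open Cfsg.Agent.H283.FourStd

universe u v

/-- the situation in a sporadic group -/
structure In1 (X : Type u) [Group X] (A : Type v) [Group A] where
  L : Subgroup X
  e : ↥L ≃* A
  qs : IsQuasisimple ↥L
  t : X
  ht : orderOf t = 2
  tL : ∀ l ∈ L, t * l = l * t
  all : ∀ z : X, orderOf z = 2 → (∀ l ∈ L, z * l = l * z) →
    (L.subgroupOf (centralizer ({z} : Set X))).Normal ∧ IsComponentOf L (centralizer ({z} : Set X))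
  y : MulAut X
  yy : y * y = 1
  y1 : y ≠ 1
  yt : y t = t
  ynt : y ≠ MulAut.conj t
  fix : ∀ l ∈ L, y l = l
  yn : (L.subgroupOf (fixedSubgroup y)).Normal
  yc : IsComponent (L.subgroupOf (fixedSubgroup y))
  nocomm : ∀ g : X, ¬ ∀ l ∈ L, ∀ m ∈ L, l * (g * m * g⁻¹) = (g * m * g⁻¹) * l

section

variable {X : Type u} [Group X] {A : Type v} [Group A]

theorem conj_mem_iff {t l : X} : MulAut.conj t l = l ↔ t * l = l * t := by
  rw [MulAut.conj_apply]
  exact mul_inv_eq_iff_eq_mul

theorem fixed_conj (t : X) : fixedSubgroup (MulAut.conj t : MulAut X) = centralizer ({t} : Set X) := by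
  ext y
  rw [mem_centralizer_singleton_iff]
  change MulAut.conj t y = y ↔ _
  rw [conj_mem_iff]
  exact eq_comm

theorem all_of_four (F : Four X A) (hc : center X = ⊥) (z : X) (hz : orderOf z = 2) (hL : ∀ l ∈ F.L, z * l = l * z) :
    (F.L.subgroupOf (centralizer ({z} : Set X))).Normal ∧ IsComponentOf F.L (centralizer ({z} : Set X)) := by
  have h1 : MulAut.conj z ∈ F.W := F.conj z (mem_centralizer_iff.2 fun l hl => (hL l hl).symm)
  have hz1 : z ≠ 1 := by
    rintro rfl
    rw [orderOf_one] at hz
    omega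
  have h2 : (MulAut.conj z : MulAut X) * MulAut.conj z = 1 := by
    rw [← map_mul, ← pow_two, ← hz, pow_orderOf_eq_one, map_one]
  have h3 : (MulAut.conj z : MulAut X) ≠ 1 := by
    intro h
    apply hz1
    rw [← mem_bot, ← hc, mem_center_iff]
    intro x
    have h4 : MulAut.conj z x = x := by rw [h]; rfl
    exact (conj_mem_iff.1 h4).symm
  have h4 := F.comp _ h1 h2 h3
  rw [fixed_conj] at h4
  refine ⟨h4.1, ?_, h4.2⟩
  intro l hl
  rw [mem_centralizer_singleton_iff]
  exact (hL l hl).symm

/-- the case of an inner element of the four-group -/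
theorem of_inner (F : Four X A) (hc : center X = ⊥) {t : X} {y : MulAut X} (ht : MulAut.conj t ∈ F.W)
    (htt : (MulAut.conj t : MulAut X) * MulAut.conj t = 1) (ht1 : (MulAut.conj t : MulAut X) ≠ 1) (hy : y ∈ F.W)
    (hyy : y * y = 1) (hy1 : y ≠ 1) (hne : y ≠ MulAut.conj t) (hty : MulAut.conj t * y = y * MulAut.conj t) :
    Nonempty (In1 X A) := by
  have hinj : ∀ a : X, (MulAut.conj a : MulAut X) = 1 → a = 1 := by
    intro a ha
    rw [← mem_bot, ← hc, mem_center_iff]
    intro x
    have h4 : MulAut.conj a x = x := by rw [ha]; rfl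
    exact (conj_mem_iff.1 h4).symm
  have ht2 : t ≠ 1 := fun h => ht1 (by rw [h, map_one])
  have hto : orderOf t = 2 := orderOf_eq_prime (by
    rw [pow_two]
    exact hinj _ (by rw [map_mul, htt])) ht2
  have htL : ∀ l ∈ F.L, t * l = l * t := fun l hl => conj_mem_iff.1 (F.fix _ ht l hl)
  have h1 := F.comp y hy hyy hy1
  refine ⟨{
    L := F.L, e := F.e, qs := F.qs, t := t, ht := hto, tL := htL
    all := all_of_four F hc
    y := y, yy := hyy, y1 := hy1
    yt := ?_
    ynt := hne
    fix := fun l hl => F.fix y hy l hl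
    yn := h1.1
    yc := h1.2
    nocomm := F.nocomm }⟩
  have h2 : (MulAut.conj (y t) : MulAut X) = MulAut.conj t := by
    have h3 : (MulAut.conj (y t) : MulAut X) = y * MulAut.conj t * y⁻¹ := by
      apply MulEquiv.ext
      intro x
      change y t * x * (y t)⁻¹ = y (t * (y⁻¹ x) * t⁻¹)
      rw [map_mul, map_mul, map_inv]
      congr 2
      exact (MulEquiv.apply_symm_apply y x).symm
    rw [h3, ← hty, mul_inv_cancel_right]
  have h3 : y t * t⁻¹ = 1 := hinj _ (by rw [map_mul, map_inv, h2, mul_inv_cancel])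
  exact mul_inv_eq_one.1 h3

/-- **The reduction.** -/
theorem of_four [Finite X] [IsSimpleGroup X] (hs : IsSporadicGroup X) (hna : ¬ IsMulCommutative X) (F : Four X A) :
    Nonempty (In1 X A) := by
  have hc : center X = ⊥ := by
    rcases IsSimpleGroup.eq_bot_or_eq_top_of_normal (center X) inferInstance with h0 | h0
    · exact h0
    · exfalso
      apply hna
      refine ⟨⟨fun a b => ?_⟩⟩
      have h1 : b ∈ center X := by rw [h0]; exact mem_top b
      exact mem_center_iff.1 h1 a
  have h2 := H498.SporOut.index_le_two hs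
  have hin : ∀ a b : MulAut X, a ∉ (MulAut.conj : X →* MulAut X).range → b ∉ (MulAut.conj : X →* MulAut X).range →
      a * b ∈ (MulAut.conj : X →* MulAut X).range := by
    intro a b ha hb
    have h0 : (MulAut.conj : X →* MulAut X).range.index ≠ 0 := Subgroup.index_ne_zero_of_finite
    have h1 : (MulAut.conj : X →* MulAut X).range.index ≠ 1 := by
      intro h
      rw [index_eq_one] at h
      exact ha (by rw [h]; exact mem_top a)
    have h3 : (MulAut.conj : X →* MulAut X).range.index = 2 := by omega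
    rw [mul_mem_iff_of_index_two h3]
    exact ⟨fun h => absurd h ha, fun h => absurd h hb⟩
  have hxy1 : F.x * F.y ≠ 1 := by
    intro h
    apply F.ne
    have h1 := congrArg (fun z => z * F.y) h
    simp only [one_mul] at h1
    rwa [mul_assoc, F.yy, mul_one] at h1
  have hxy2 : (F.x * F.y) * (F.x * F.y) = 1 := by
    calc (F.x * F.y) * (F.x * F.y) = (F.x * F.y) * (F.y * F.x) := by rw [← F.xy]
      _ = F.x * (F.y * F.y) * F.x := by group
      _ = 1 := by rw [F.yy, mul_one, F.xx]
  by_cases hx : F.x ∈ (MulAut.conj : X →* MulAut X).range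
  · obtain ⟨t, ht⟩ := hx
    refine of_inner F hc (t := t) (y := F.y) ?_ ?_ ?_ F.yW F.yy F.y1 ?_ ?_
    · rw [ht]; exact F.xW
    · rw [ht]; exact F.xx
    · rw [ht]; exact F.x1
    · rw [ht]; exact F.ne.symm
    · rw [ht]; exact F.xy
  by_cases hy : F.y ∈ (MulAut.conj : X →* MulAut X).range
  · obtain ⟨t, ht⟩ := hy
    refine of_inner F hc (t := t) (y := F.x) ?_ ?_ ?_ F.xW F.xx F.x1 ?_ ?_
    · rw [ht]; exact F.yW
    · rw [ht]; exact F.yy
    · rw [ht]; exact F.y1
    · rw [ht]; exact F.ne
    · rw [ht]; exact F.xy.symm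
  · obtain ⟨t, ht⟩ := hin _ _ hx hy
    refine of_inner F hc (t := t) (y := F.x) ?_ ?_ ?_ F.xW F.xx F.x1 ?_ ?_
    · rw [ht]; exact mul_mem F.xW F.yW
    · rw [ht]; exact hxy2
    · rw [ht]; exact hxy1
    · rw [ht]
      intro h
      apply F.y1
      exact mul_eq_left.1 h.symm
    · rw [ht, ← mul_assoc, F.xx, one_mul, F.xy, mul_assoc, F.xx, mul_one]

end

end Cfsg.Agent.H283.FourSpor
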