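import Cfsg.Agent.H283.SporFourA
import Cfsg.Agent.CTwoTab.HS
import Cfsg.Agent.H287.OutA
import Cfsg.Agent.H287.InnTwo
import Cfsg.Agent.BiChar.HNFive
/-!
# The Higman-Sims group: S3092 (helper283)

`noIn` (the centralizer of `A₆ = E(C(2B))` has order 2), `outCard` (the components of the centralizers of the outer
involutions: `A₈`, or of order dividing 960), `row`.
-/

set_option autoImplicit false

namespace Cfsg.Agent.H283.HSFour

open Subgroup Cfsg Cfsg.Agent.CTwoTab Cfsg.Agent.SignalizersComponents.Components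

universe u v

section inner

open Cfsg.Agent.KFacts.HS Cfsg.Agent.KFacts.HS.DFour Cfsg.Agent.CTwoTab.HS

theorem noIn {X : Type u} [Group X] [Finite X] (h : Spor.IsoHS X) : NoIn.NoIn X := by
  obtain ⟨D⟩ := exists_mod h
  intro u hu
  have huu : u * u = 1 := by rw [← pow_two, ← hu, pow_orderOf_eq_one]
  have hu1 : u ≠ 1 := by
    rintro rfl
    rw [orderOf_one] at hu
    omega
  rcases inv_cases D u huu hu1 with ⟨c, rfl⟩ | ⟨c, rfl⟩
  · exact (NoIn.At.of_none (no_comp_zA D)).conj c
  · refine NoIn.At.conj ?_ c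
    intro K hK _ s hs hst hsK
    have h2 := comp_eq (quasi_alt (n := 6) (by norm_num) (equivLA D)) (LA_le D) (perfect_le_LA D) hK
    subst h2
    exact cent_LA D hsK

end inner

section outer

open Cfsg.Agent.HN Cfsg.Agent.HN.Pres Cfsg.Agent.HN.HS100 Cfsg.Agent.HN.P1408 Cfsg.Agent.HN.H0Basic
open Cfsg.Agent.HN.Local Cfsg.Agent.HN.Iota
open Cfsg.Agent.KFacts.HS
open Cfsg.Agent.CpAutTwo.HS
open Cfsg.Agent.H287

theorem card_Cd_eq : Nat.card ↥Cd = 1920 := by
  have := fin_H0
  have h0 : Nat.card (Subgroup.centralizer {Syl.d} : Subgroup H0) = 3840 := Cfsg.Agent.HN.FactF3.card_centralizer_d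
  have h1 := card_Cd
  have h2 : Cd.relIndex (centralizer ({Syl.d} : Set H0)) ≤ 2 := by
    have h4 : Cd.relIndex (centralizer ({Syl.d} : Set H0)) = K.relIndex (centralizer ({Syl.d} : Set H0)) :=
      inf_relIndex_left _ _
    have h5 : K.relIndex (centralizer ({Syl.d} : Set H0)) = Nat.card ↥((centralizer ({Syl.d} : Set H0)).map sgn) :=
      relIndex_ker (centralizer ({Syl.d} : Set H0)) sgn
    rw [h4, h5]
    refine (Nat.card_le_card_of_injective _ (subtype_injective _)).trans ?_
    rw [Nat.card_eq_fintype_card, Fintype.card_units_int]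
  have h3 : Nat.card ↥Cd * Cd.relIndex (centralizer ({Syl.d} : Set H0)) =
      Nat.card ↥(centralizer ({Syl.d} : Set H0)) := by
    have h4 := relIndex_mul_relIndex (⊥ : Subgroup H0) Cd (centralizer ({Syl.d} : Set H0)) bot_le inf_le_left
    rwa [relIndex_bot_left, relIndex_bot_left] at h4
  rw [h0] at h3
  have h6 := Nat.mul_le_mul_left (Nat.card ↥Cd) h2
  omega

variable {L : Type u} [Group L] (D : Cfsg.Agent.KFacts.HS.Mod L)

theorem hcard_hs_d : HCard (fun n _ => n ∣ 960) ↥(fixedSubgroup (D.au Syl.d)) := by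
  have hfin : Finite L := KFacts.HS.DFour.fin D
  have hcd : 2 * Nat.card ↥(D.im Cd) = Nat.card ↥Cd := D.card_im τ_mem_Cd inf_le_right
  have hle := card_Cd_eq
  intro K hK
  have h1 : K ≤ (D.im Cd).subgroupOf (fixedSubgroup (D.au Syl.d)) := by
    refine CTwoTab.perfect_le_of_sq (C := ⊤) ?_ K le_top (component_commutator_self hK)
    intro q _
    exact mem_subgroupOf.2 (sq_mem D q.2)
  have h2 : Nat.card ↥K ∣ Nat.card ↥(D.im Cd) := by
    refine (card_dvd_of_le h1).trans ?_
    rw [Nat.card_congr (subgroupOfEquivOfLe (im_le D)).toEquiv]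
  have h3 : Nat.card ↥(D.im Cd) = 960 := by omega
  rwa [h3] at h2

theorem outCard {X : Type u} [Group X] (h : Spor.IsoHS X) :
    OutCard (fun n m => (n = 20160 ∧ m = 20160) ∨ n ∣ 960) X := by
  obtain ⟨D⟩ := exists_mod h
  intro x hx hout
  obtain ⟨a, h | h⟩ := outer_cases D x hx hout
  · exact (hcard_conj_aut a h (hcard_hs_z D)).mono fun n m h => Or.inl h
  · exact (hcard_conj_aut a h (hcard_hs_d D)).mono fun n m h => Or.inr h

end outer

/-- **`HS`** -/
theorem row {X : Type u} [Group X] [Finite X] (hz : center X = ⊥) {A : Type v} [Group A] (h : Spor.IsoHS X)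
    (F : FourSpor.In1 X A) : False := by
  by_cases hy : ∃ g, F.y = MulAut.conj g
  · exact FourSpor.inner_false hz (noIn h) F hy
  · have h1 := FourSpor.of_comp (H287.compCard_hs h) F
    have h2 := FourSpor.of_out (outCard h) F hy
    rw [h1.1] at h2
    omega

end Cfsg.Agent.H283.HSFour
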