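import Cfsg.Agent.H283.NoIn
import Cfsg.Agent.CTwoTab.Monster
/-!
# The Monster: `NoIn` (S3092) (helper283)
-/

set_option autoImplicit false

namespace Cfsg.Agent.H283.MFour

open Subgroup Cfsg Cfsg.Agent.CTwoTab Cfsg.Agent.MonsterX.Model Cfsg.Agent.MonsterX.MainPack
  Cfsg.Agent.MonsterX.MainSimple Cfsg.Agent.MonsterX.MainBasic Cfsg.Agent.MonsterU.Assembly
open Cfsg.Agent.CTwoTab.MonsterOf

universe u

variable {W : Type} [AddCommGroup W] [Module ℚ W] {M : MData W} {K₀ : Type} [Group K₀]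

theorem noIn_of (A : All M K₀) {y : ℕ → M.G} (hP : Cfsg.Agent.Bimonster.PRel y) (hne : y 0 ≠ y 1)
    (hy : ∃ g : M.G, g * tG A.hG A.hR * g⁻¹ = y 10) (hB : Cfsg.IsB Cfsg.Spor.BabyMonster) : NoIn.NoIn ↥M.G := by
  have := G_finite A.hO
  intro u hu
  have hu1 : u ≠ 1 := by
    rintro rfl
    rw [orderOf_one] at hu
    exact absurd hu (by norm_num)
  have huu : u * u = 1 := by rw [← pow_two, ← hu, pow_orderOf_eq_one]
  rcases A.classes u huu hu1 with ⟨g, rfl⟩ | ⟨g, rfl⟩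
  · exact (NoIn.At.of_none (not_comp_large (Cfsg.Agent.MonsterU.ModelChart.large A.hG A.hR A.hL A.hO A.hT))).conj g
  · have hc := cover_t A hP hne hy hB
    have ht1 : tG A.hG A.hR ≠ 1 := by
      intro h
      apply hu1
      rw [h]; group
    exact (NoIn.At.of_top ht1 (quasisimple_cover hB hc) hc.1).conj g

/-- the model -/
theorem model : NoIn.NoIn ↥Cfsg.Agent.MonsterX.InstData.M.G :=
  noIn_of Cfsg.Agent.MonsterU.Uncond.all
    (Cfsg.Agent.MonsterP.NodesGrp.prel Cfsg.Agent.MonsterU.NodesU.hyp)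
    (Cfsg.Agent.MonsterP.NodesNe.ne Cfsg.Agent.MonsterU.NodesU.hyp) Cfsg.Agent.MonsterU.NodesU.conj_ten
    Cfsg.Agent.S1704.result

/-- **`M`** -/
theorem noIn {X : Type u} [Group X] (h : Spor.IsoM X) : NoIn.NoIn X := by
  obtain ⟨e⟩ := h
  obtain ⟨f⟩ := Cfsg.Agent.MonsterP.Equiv.equiv
  exact NoIn.NoIn.of_equiv (e.trans f).symm model

end Cfsg.Agent.H283.MFour
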