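import Cfsg.Agent.H283.OutTools
import Cfsg.Agent.H291.RowsB
import Cfsg.Agent.H287.FixInnB
import Cfsg.Agent.CpAut.TwoAll
import Cfsg.Agent.H7.JOneStd
import Cfsg.Agent.S2065
import Cfsg.Agent.UGT.EndJ1.Main
/-!
# Elements of order 11 and involutory automorphisms of `M₁₂`, `J₁` (helper283)
-/

set_option autoImplicit false

namespace Cfsg.Agent.H283.OutTools

open Cfsg Subgroup

universe u v

section mtwelve

open Cfsg.Agent.CoThreeStd.MTwelve (H y p r inv_class card_cent_y card_cent_v card_H)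
open Cfsg.Agent.CoThreeStd.AutGamma (c c_y)
open Cfsg.Agent.CoThreeStd.AutMain (F0 c_fix c_F0 comm_y_F0)
open Cfsg.Agent.CoThreeStd.AutCent (exists_equiv_F0)
open Cfsg.Agent.CpAutTwo.MTwelve

theorem card_cent_inv {g : H} (h1 : g ≠ 1) (h2 : g * g = 1) :
    Nat.card ↥(centralizer ({g} : Set H)) = 240 ∨ Nat.card ↥(centralizer ({g} : Set H)) = 192 := by
  rcases inv_class g h1 h2 with ⟨m, hm⟩ | ⟨m, hm⟩
  · left
    have h3 := H291.RowsB.card_cent_equiv (MulAut.conj m⁻¹) y
    rw [MulAut.conj_apply, inv_inv, hm, card_cent_y] at h3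
    exact h3
  · right
    have h3 := H291.RowsB.card_cent_equiv (MulAut.conj m⁻¹) (p * r)
    rw [MulAut.conj_apply, inv_inv, hm, card_cent_v] at h3
    exact h3

theorem noFix_model : NoFix 11 Spor.M12 := by
  intro α hα hα1 w hw hαw
  by_cases hin : ∃ g : H, α = MulAut.conj g
  · obtain ⟨g, rfl⟩ := hin
    have hg1 : g ≠ 1 := by
      rintro rfl
      exact hα1 (map_one _)
    have hgg : g * g = 1 := by
      have h1 : g * g ∈ center H := by
        rw [mem_center_iff]
        intro x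
        have h2 := DFunLike.congr_fun hα x
        rw [← map_mul, MulAut.conj_apply, MulAut.one_apply] at h2
        exact (mul_inv_eq_iff_eq_mul.1 h2).symm
      rw [Cfsg.Agent.CpAut.TwoMTwelve.center_bot, mem_bot] at h1
      exact h1
    have h3 : w ∈ centralizer ({g} : Set H) := by
      rw [mem_centralizer_singleton_iff]
      rw [MulAut.conj_apply] at hαw
      exact (mul_inv_eq_iff_eq_mul.1 hαw).symm
    have h4 : 11 ∣ Nat.card ↥(centralizer ({g} : Set H)) := by
      have h5 : orderOf (⟨w, h3⟩ : ↥(centralizer ({g} : Set H))) ∣ _ := orderOf_dvd_natCard _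
      rwa [Subgroup.orderOf_mk, hw] at h5
    rcases card_cent_inv hg1 hgg with h5 | h5
    · rw [h5] at h4
      norm_num at h4
    · rw [h5] at h4
      norm_num at h4
  · have h1 : α ∉ Cfsg.Agent.CoThreeStd.AutClass.Inn := fun ⟨g, hg⟩ => hin ⟨g, hg.symm⟩
    obtain ⟨m, hm⟩ := Cfsg.Agent.CoThreeStd.AutInv.outer_conj h1 hα
    have h2 : (m⁻¹ * w * m) ∈ fixedSubgroup c := by
      show c (m⁻¹ * w * m) = m⁻¹ * w * m
      have h3 : m * c (m⁻¹ * w * m) * m⁻¹ = w := by
        have h4 : α w = m * c (m⁻¹ * w * m) * m⁻¹ := by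
          rw [hm, MulAut.mul_apply, MulAut.mul_apply, MulAut.conj_apply, ← map_inv, MulAut.conj_apply, inv_inv]
        rw [← h4, hαw]
      calc c (m⁻¹ * w * m) = m⁻¹ * (m * c (m⁻¹ * w * m) * m⁻¹) * m := by group
        _ = m⁻¹ * w * m := by rw [h3]
    have h5 := sq_mem h2
    have h6 : orderOf (m⁻¹ * w * m) = 11 := by
      have h7 : m⁻¹ * w * m = MulAut.conj m⁻¹ w := by rw [MulAut.conj_apply, inv_inv]
      rw [h7, MulEquiv.orderOf_eq, hw]
    have h7 : orderOf ((m⁻¹ * w * m) * (m⁻¹ * w * m)) = 11 := by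
      rw [← pow_two, orderOf_pow, h6]
      norm_num
    have h8 : orderOf (⟨_, h5⟩ : ↥F0) ∣ Nat.card ↥F0 := orderOf_dvd_natCard _
    obtain ⟨e⟩ := exists_equiv_F0
    have h9 : Nat.card ↥F0 = 60 := by
      rw [Nat.card_congr e.toEquiv, nat_card_alternatingGroup, Nat.card_eq_fintype_card, Fintype.card_fin]
      decide
    rw [Subgroup.orderOf_mk, h7, h9] at h8
    norm_num at h8

theorem noFix_m12 {Y : Type u} [Group Y] (h : Spor.IsoM12 Y) : NoFix 11 Y := by
  obtain ⟨e⟩ := h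
  exact noFix_model.congr e.symm

end mtwelve

theorem noFix_j1 {Y : Type u} [Group Y] (h : Spor.IsoJ1 Y) : NoFix 11 Y := by
  obtain ⟨e⟩ := h
  refine NoFix.congr e.symm ?_
  have hO := Cfsg.Agent.H7.JOneStd.ord_J1
  have hfin : Finite Spor.J1 := Nat.finite_of_card_ne_zero (by rw [hO.card]; norm_num)
  intro α hα hα1 w hw hαw
  obtain ⟨g, rfl⟩ := Cfsg.Agent.H287.inner_of_out S2065.result α
  have hg1 : g ≠ 1 := by
    rintro rfl
    exact hα1 (map_one _)
  have hs : IsSimpleGroup Spor.J1 := Cfsg.Agent.UGT.EndJ1.Main.simple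
  have hz : center Spor.J1 = ⊥ := CpAut.TwoInner.center_eq_bot_of_card hs (by rw [hO.card]; norm_num)
  have hgg : g * g = 1 := by
    have h1 : g * g ∈ center Spor.J1 := by
      rw [mem_center_iff]
      intro x
      have h2 := DFunLike.congr_fun hα x
      rw [← map_mul, MulAut.conj_apply, MulAut.one_apply] at h2
      exact (mul_inv_eq_iff_eq_mul.1 h2).symm
    rw [hz, mem_bot] at h1
    exact h1
  have hc : Nat.card ↥(centralizer ({g} : Set Spor.J1)) ∣ 120 := by
    rw [hO.cen g hgg hg1]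
  have h3 : w ∈ centralizer ({g} : Set Spor.J1) := by
    rw [mem_centralizer_singleton_iff]
    rw [MulAut.conj_apply] at hαw
    exact (mul_inv_eq_iff_eq_mul.1 hαw).symm
  have h4 : 11 ∣ Nat.card ↥(centralizer ({g} : Set Spor.J1)) := by
    have h5 : orderOf (⟨w, h3⟩ : ↥(centralizer ({g} : Set Spor.J1))) ∣ _ := orderOf_dvd_natCard _
    rwa [Subgroup.orderOf_mk, hw] at h5
  have h5 := h4.trans hc
  norm_num at h5

/-! ### `Fi₂₂`, `HN` -/

theorem inv_fi22_eleven : H291.RowsB.Inv 11 Spor.Fi22 := by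
  have := R01.Fi22Facts.finite
  obtain ⟨h1, ⟨d, hd, hT⟩, -⟩ := R01.Fi22Facts.isThreeTranspositionClass_T
  refine ⟨d, h1.1 d hd, ?_⟩
  have h2 := H291.RowsB.card_class d
  rw [← hT, R01.Fi22Facts.ncard_T, R01.Fi22Facts.card] at h2
  omega

end Cfsg.Agent.H283.OutTools
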