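import Cfsg.Agent.H283.NoIn
import Cfsg.Agent.H287.TwoAlt
import Cfsg.Agent.H287.InnTwo
import Cfsg.Agent.H287.InnON
import Cfsg.Agent.CTwoTab.Co3
import Cfsg.Agent.CTwoTab.Fi23Fin
import Cfsg.Agent.H7.JOneStd
/-!
# `NoIn` for the sporadic groups (helper283)

`J1`, `Co3`, `McL`, `ON`, `Ly`, `Fi22`, `Fi23`, `Fi24'`, `HN`.
-/

set_option autoImplicit false

namespace Cfsg.Agent.H283.NoIn

open Cfsg Subgroup Cfsg.Agent.CTwoTab Cfsg.Agent.SignalizersComponents.Components

universe u v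

theorem ne_one_of {X : Type u} [Group X] {t : X} (ht : orderOf t = 2) : t * t = 1 ∧ t ≠ 1 := by
  refine ⟨by rw [← pow_two, ← ht, pow_orderOf_eq_one], ?_⟩
  rintro rfl
  rw [orderOf_one] at ht
  omega

theorem na_of_card {K : Type v} [Group K] [IsSimpleGroup K] (h : ¬ (Nat.card K).Prime) : ¬ IsMulCommutative K := by
  intro hc
  apply h
  have hc2 : ∀ a b : K, a * b = b * a := fun a b => hc.is_comm.comm a b
  let _ : CommGroup K := { (inferInstance : Group K) with mul_comm := hc2 }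
  exact IsSimpleGroup.prime_card

/-- `J₁` -/
theorem j1 {X : Type u} [Group X] (h : Spor.IsoJ1 X) : NoIn X := by
  intro t ht K hK _ s hs hst hsK
  obtain ⟨-, -, h1, -⟩ := H7.JOneStd.std_of_iso h ht _ hK.2
  have h2 : s ∈ centralizer (((K.subgroupOf (centralizer ({t} : Set X))).map
      (centralizer ({t} : Set X)).subtype : Subgroup X) : Set X) := by
    rw [mem_centralizer_iff]
    rintro _ ⟨k, hk, rfl⟩
    exact (hsK _ (mem_subgroupOf.1 hk)).symm
  rw [h1, mem_zpowers_iff] at h2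
  obtain ⟨k, rfl⟩ := h2
  have ht2 : t ^ (2 : ℤ) = 1 := by
    have := pow_orderOf_eq_one t
    rw [ht] at this
    exact_mod_cast this
  rcases Int.even_or_odd' k with ⟨m, rfl | rfl⟩
  · left
    rw [zpow_mul, ht2, one_zpow]
  · right
    rw [zpow_add, zpow_mul, ht2, one_zpow, one_mul, zpow_one]

section twoAlt

open Cfsg.Agent.H287.TwoAlt Cfsg.Agent.SporRec.TwoAn Cfsg.Agent.TypeM Cfsg.Agent.TypeM.Two

theorem two_alt {n : ℕ} (hn : 5 ≤ n) {G : Type u} [Group G] (L : MT n G) : NoIn G := by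
  refine NoIn.mk_of_classes (fun s => s = L.t) ?_ ?_
  · intro t ht
    obtain ⟨g, hg⟩ := L.one t (ne_one_of ht).1 (ne_one_of ht).2
    exact ⟨g, L.t, rfl, hg.symm⟩
  · rintro s rfl
    have hs : IsSimpleGroup (↥(centralizer ({L.t} : Set G)) ⧸ L.K.π.ker) := simple_alt hn (quoKer L.K)
    refine At.of_hom (U := ↥(centralizer ({L.t} : Set G)) ⧸ L.K.π.ker) (na_alt hn (quoKer L.K))
      (f := QuotientGroup.mk' L.K.π.ker) (QuotientGroup.mk'_surjective _) ?_
    intro x hx
    have h1 : x ∈ L.K.π.ker := by rwa [QuotientGroup.mk'_apply, QuotientGroup.eq_one_iff] at hx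
    rcases (L.K.ker x).1 h1 with h2 | h2
    · left; rw [h2]; rfl
    · right; rw [h2, L.hz]

/-- `Ly` -/
theorem ly {X : Type u} [Group X] (h : Spor.IsoLy X) : NoIn X := by
  obtain ⟨-, -, -, ⟨L⟩⟩ := FactsLy.facts h
  exact two_alt (by norm_num) L

/-- `McL` -/
theorem mcl {X : Type u} [Group X] (h : Spor.IsoMcL X) : NoIn X := by
  obtain ⟨-, -, -, ⟨L⟩⟩ := FactsMcL.facts h
  exact two_alt (by norm_num) L

end twoAlt

section co3

open Cfsg.Agent.CTwoTab.Co3 Cfsg.Agent.SporRec.Co3.Chain Cfsg.Agent.SporRec.Co3.Ident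

/-- `Co₃` -/
theorem co3 {X : Type u} [Group X] (h : Spor.IsoCo3 X) : NoIn X := by
  obtain ⟨e⟩ := h
  obtain ⟨w, D⟩ := exists_data
  have := finite_G3
  refine NoIn.of_equiv (SporRec.Co3.Model.equivCo3.trans e.symm) ?_
  obtain ⟨π, N⟩ := D.ns
  refine NoIn.mk_of_classes (fun s => s = Z ∨ s = w) ?_ ?_
  · intro s hs
    obtain ⟨g, rfl | rfl⟩ := D.cls s hs
    · exact ⟨g, Z, Or.inl rfl, rfl⟩
    · exact ⟨g, w, Or.inr rfl, rfl⟩
  · rintro s (rfl | rfl)
    · refine At.of_eq (ne_one_of D.t2).2 (fun K hK => comp_eq_of_NS N hK) ?_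
      exact card_center_of (card_of_NS N) (card_quo_of_NS N) (by norm_num) (by norm_num)
    · obtain ⟨f, hf, hk⟩ := D.hom
      have := simple_M12
      exact At.of_hom (f := f) (na_of_card (by rw [D.card]; norm_num)) hf
        (fun x hx => (hk x hx).imp (fun h => by rw [h]; rfl) id)

end co3

section on

open Cfsg.Agent.H287.InnON
open Cfsg.Spor (ON)
open Cfsg.Agent.SporadicB.ON45Word (on)
open Cfsg.Agent.KFacts.MulSpor.ON (w)
open Cfsg.Agent.KFacts.ON.Cent (hON)
open Cfsg.Agent.KFacts.ON.Words Cfsg.Agent.KFacts.ON.Struct Cfsg.Agent.KFacts.ON.Qs Cfsg.Agent.KFacts.ON.Estar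
open Cfsg.Agent.KFacts.ON.OneClass Cfsg.Agent.KFacts.ON

theorem own_on : Own ON := by
  have : Finite ON := Cfsg.Agent.KFacts.ON.Cent.finite_ON
  refine Own.mk_of_classes (fun s => s = on .f) (fun a ha => ?_) ?_
  · obtain ⟨g, hg⟩ := isConj_iff.1 (one_class (ne_one_of ha).1 (ne_one_of ha).2).symm
    exact ⟨g, _, rfl, hg.symm⟩
  · rintro s rfl K hK
    have hle : J ≤ centralizer ({on .f} : Set ON) := by
      intro x hx
      rw [mem_centralizer_singleton_iff]
      exact Struct.mem_K0.1 (J_le hx)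
    have h1 : K = J := comp_eq qs hle (fun P hP hperf => perfect_le_of_sq (fun g hg => by
      have h2 := mul_self_mem_of_index_two index_J (⟨g, Struct.mem_K0.2 (mem_centralizer_singleton_iff.1 hg)⟩ :
        ↥Cfsg.Agent.ONType.TupK.K0)
      exact mem_subgroupOf.1 h2) P hP hperf) hK
    subst h1
    have hfv : on .f = v ^ 2 := by rw [pow_two, vv]
    constructor
    · rw [hfv]
      exact pow_mem vJ 2
    · intro a ha haJ haa
      have h2 : a ∈ zpowers v := by
        have h3 : (⟨a, ha⟩ : ↥J) ∈ center ↥J := by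
          rw [mem_center_iff]
          intro k
          exact Subtype.ext (haJ k k.2).symm
        exact mem_center.1 h3
      have hv4 := orderOf_v
      obtain ⟨k, hk, rfl⟩ : ∃ k < 4, v ^ k = a := by
        have h3 : a ∈ Submonoid.powers v := mem_powers_iff_mem_zpowers.2 h2
        obtain ⟨k, rfl⟩ := h3
        exact ⟨k % 4, Nat.mod_lt _ (by norm_num), by rw [← hv4]; exact pow_mod_orderOf v k⟩
      rw [← pow_add] at haa
      have h4 := orderOf_dvd_of_pow_eq_one haa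
      rw [hv4] at h4
      interval_cases k
      · left; exact pow_zero v
      · omega
      · right; exact hfv.symm
      · omega

/-- `O'N` -/
theorem on {X : Type u} [Group X] (h : Spor.IsoON X) : NoIn X := by
  obtain ⟨e⟩ := h
  exact NoIn.of_equiv e.symm own_on.noIn

end on

section fi22

open Cfsg.Agent.CTwoTab.Fi22 Cfsg.Agent.R01.FiFusion Cfsg.Agent.R01.FiFacts Cfsg.Agent.StdFi22.TLev
open Cfsg.Agent.OddHalf.D4.Spor.Fi22 (inv_cases)
open Cfsg.Agent.StdFi22.MainFi22 (bas)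
open Cfsg.Agent.R08.AutT (T)

theorem noIn_fi22 : NoIn Spor.Fi22 := by
  have := finite
  intro t ht
  obtain ⟨tt, t1⟩ := ne_one_of ht
  rcases inv_cases tt t1 with h | ⟨a, ha, b, hb, hab, cab, rfl⟩ | ⟨a, b, c, h, rfl⟩
  · obtain ⟨b, c, hT⟩ := bas.exists_tri h
    obtain ⟨R, F⟩ := facts h hT.my hT.xy hT.cxy
    exact At.of_top t1 F.quasi (card_center F)
  · refine At.of_none fun K hK => ?_
    obtain ⟨R, F⟩ := facts ha hb hab cab
    have : Fact (Nat.Prime 2) := ⟨Nat.prime_two⟩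
    refine no_comp_of_pGroup (p := 2) (R := R) ?_ ?_ F.R_two ?_ K hK
    · intro x hx
      obtain ⟨h1, h2⟩ := mem_pair.1 (F.R_le hx)
      exact mem_centralizer_singleton_iff.2 (comm_mul h1 h2)
    · intro c hc r hr
      exact F.R_normal c (mem_centralizer_singleton_iff.1 hc) r hr
    · intro c _ h
      rcases F.R_center c h with rfl | rfl | rfl | rfl
      · exact one_mem _
      · exact F.d_mem
      · exact F.d'_mem
      · exact mul_mem F.d_mem F.d'_mem
  · exact At.of_none fun K hK => no_comp_three h K hK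

/-- `Fi₂₂` -/
theorem fi22 {X : Type u} [Group X] (h : Spor.IsoFi22 X) : NoIn X := by
  obtain ⟨e⟩ := h
  exact NoIn.of_equiv e.symm noIn_fi22

end fi22

section fi24

open Cfsg.Agent.CTwoTab.FiTF Cfsg.Spor Cfsg.Agent.R01 Cfsg.Agent.R08 Cfsg.Agent.R08.FiTwentyFour
open Cfsg.Agent.R08.TetTwo Cfsg.Agent.R08.TetThree Cfsg.Agent.R08.TetBasic

theorem own_fi24 : Own Spor.Fi24' := by
  have := finite_Fi24
  have : Finite Spor.Fi24' := inferInstance
  intro t ht
  rcases CTwoTab.FiTF.classes t ht with ⟨a, b, P, h⟩ | ⟨g, rfl⟩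
  · refine OwnAt.of_eq (ne_one_of ht).2 (N := N a b) (fun K hK => comp_eq (qs_N P) (N_le h) (perf_le P h) hK) ?_ (N_le h) ?_
    · rw [mem_N, mem_Cab, h]
      have hab : a * b = b * a := P.ab
      refine ⟨?_, ?_, ?_⟩
      · rw [← h]
        exact mem_commutator_iff.1 t.2
      · rw [mul_assoc, ← hab]
      · rw [hab, mul_assoc, ← hab]
    · refine card_center_of ((Nat.card_congr (eN a b).toEquiv).trans (OddHalf.D4.Spor.FiTF.card_Cab P))
        ((Nat.card_congr ((quoEquiv (eN a b)).trans (quoEquivFi P)).toEquiv).trans Cfsg.Agent.S1696.result.2)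
        (by norm_num) (by norm_num)
  · refine OwnAt.conj (OwnAt.of_none fun K hK => ?_) g
    have : Fact (Nat.Prime 2) := ⟨Nat.prime_two⟩
    refine no_comp_of_pGroup R0_le R0_norm R0_p (fun c _ h => ?_) _ hK
    rcases R0_cent c h with rfl | rfl
    · exact R0.one_mem
    · exact z0_mem

/-- `Fi₂₄'` -/
theorem fi24 {X : Type u} [Group X] (h : Spor.IsoFi24' X) : NoIn X := by
  obtain ⟨e⟩ := h
  exact NoIn.of_equiv e.symm own_fi24.noIn

end fi24

section hn

open Cfsg.Agent.CTwoTab.HN Cfsg.Agent.KFacts.HN Cfsg.Agent.HN.XWords Cfsg.Agent.HN.XStruct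
open Cfsg.Agent.HN Cfsg.Agent.HN.Pres Cfsg.Agent.HN.P1408 Cfsg.Agent.HN.H0Basic

theorem own_hn : Own Cfsg.Spor.HN := by
  have := finite_HN
  refine Own.mk_of_classes (fun s => s = W0 ∨ s = Q 0) ?_ ?_
  · intro t ht
    rcases OddHalf.D4.Spor.HN.inv_cases (ne_one_of ht).1 (ne_one_of ht).2 with ⟨g, hg⟩ | ⟨g, hg⟩
    · exact ⟨g, W0, Or.inl rfl, hg.symm⟩
    · exact ⟨g, Q 0, Or.inr rfl, hg.symm⟩
  · rintro s (rfl | rfl)
    · exact OwnAt.of_none no_comp_W0
    · refine OwnAt.of_eq Q0_ne (N := N) (fun K hK => comp_Q0 hK) ?_ N_le ?_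
      · exact ⟨τ, τ_mem_K, rfl⟩
      · exact card_center_of ((Nat.card_congr eN.symm.toEquiv).trans card_K)
          ((Nat.card_congr (quoEquiv eN.symm).toEquiv).trans card_quo) (by norm_num) (by norm_num)

/-- `HN` -/
theorem hn {X : Type u} [Group X] (h : Spor.IsoHN X) : NoIn X := by
  obtain ⟨e⟩ := h
  exact NoIn.of_equiv e.symm own_hn.noIn

end hn

section fi23

set_option maxRecDepth 100000

open Cfsg.Agent.Fischer.Fi23Z Cfsg.Agent.Fischer.Fi23Hom
open Cfsg.Agent.Fischer Cfsg.Agent.Fischer.Fi23Class Cfsg.Agent.Fischer.Fi23Simple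
open Cfsg.Agent.KFacts.FiTTh.Cent
open Cfsg.Spor Cfsg.Spor.Fi23
open Cfsg.Agent.CTwoTab.Fi23 Cfsg.Agent.CTwoTab.Fi23Res

/-- a component of `C(z0 a)` centralizes `z0` -/
theorem comm_z0 {L : Subgroup Spor.Fi23} (hL : IsComponentOf L (centralizer ({W2} : Set Spor.Fi23))) :
    ∀ k ∈ L, z0 * k = k * z0 := by
  have hfin := finite_Fi23
  have hz2 : z0 ∈ centralizer Ds2 := mem_cent2.2 ⟨rfl, comm_za⟩
  have ha2 : gen .a ∈ centralizer Ds2 := mem_cent2.2 ⟨za, rfl⟩
  have hcard : Ds2.ncard ≤ 3 := by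
    unfold Ds2
    exact (Set.ncard_insert_le _ _).trans (by rw [Set.ncard_singleton]; norm_num)
  obtain ⟨hN, hsol, hcen⟩ := Tower.tower_data (W := W2) (s := Ds2) (fun y hy x hx => perm2 hy hx) hcard
    (by rintro x (rfl | rfl); exacts [hz2, ha2]) (fun x hx => (hWD2 x hx).symm)
  have h3 := Tower.le_of_perfect hsol hL.2.2.1
  intro k hk
  have h5 : (⟨k, hL.1 hk⟩ : ↥(centralizer ({W2} : Set Spor.Fi23))) ∈ L.subgroupOf (centralizer ({W2} : Set Spor.Fi23)) :=
    mem_subgroupOf.2 hk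
  have h6 := mem_subgroupOf.1 (h3 h5)
  exact (mem_cent2.1 h6).1.symm

theorem noIn_fi23 : NoIn Spor.Fi23 := by
  have hfin := finite_Fi23
  have hz : orderOf (z0 : Spor.Fi23) = 2 := orderOf_eq_prime (by rw [pow_two]; exact KFacts.FiTTh.Cent.zz) z0_one
  refine NoIn.mk_of_classes (fun s => s = z0 ∨ s = W2 ∨ s = W3) ?_ ?_
  · intro t ht
    rcases KFacts.FiTTh.Has.inv t (ne_one_of ht).1 (ne_one_of ht).2 with h | h | h
    · obtain ⟨g, hg⟩ := isConj_iff.1 h.symm
      exact ⟨g, z0, Or.inl rfl, hg.symm⟩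
    · obtain ⟨g, hg⟩ := isConj_iff.1 h.symm
      exact ⟨g, W2, Or.inr (Or.inl rfl), hg.symm⟩
    · obtain ⟨g, hg⟩ := isConj_iff.1 h.symm
      exact ⟨g, W3, Or.inr (Or.inr rfl), hg.symm⟩
  · rintro s (rfl | rfl | rfl)
    · have hK : IsComponentOf (centralizer ({z0} : Set Spor.Fi23)) (centralizer ({z0} : Set Spor.Fi23)) := by
        refine ⟨le_rfl, ?_, ?_⟩
        · rw [subgroupOf_self]
          exact Subgroup.IsSubnormal.top
        · exact (isQuasisimple_congr (subgroupOfEquivOfLe le_rfl)).2 KFacts.FiTTh.Quasi.qs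
      obtain ⟨⟨e⟩, hc⟩ := comp_one hK
      have h1 := card_center_of hc ((Nat.card_congr e.toEquiv).trans Cfsg.Agent.S1696.result.2)
        (show (2 * 64561751654400 : ℕ) = 64561751654400 * 2 by norm_num) (by norm_num)
      exact At.of_top z0_one KFacts.FiTTh.Quasi.qs h1
    · intro K hK hall
      exfalso
      obtain ⟨⟨e⟩, -⟩ := comp_two hK
      obtain ⟨⟨e2⟩, -⟩ := comp_one (hall z0 hz (comm_z0 hK))
      have h1 := (Nat.card_congr e.toEquiv).trans card_U
      rw [(Nat.card_congr e2.toEquiv).trans Cfsg.Agent.S1696.result.2] at h1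
      norm_num at h1
    · exact At.of_none (three_data CTwoTab.Fi23Fin.hU).2

/-- `Fi₂₃` -/
theorem fi23 {X : Type u} [Group X] (h : Spor.IsoFi23 X) : NoIn X := by
  obtain ⟨e⟩ := h
  exact NoIn.of_equiv e.symm noIn_fi23

end fi23

end Cfsg.Agent.H283.NoIn
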