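import Cfsg.Agent.FixOdd.Inst
import Cfsg.Agent.H566.Main
import Cfsg.Agent.H283.OddComp
import Cfsg.Agent.S0000
/-!
# Normal `p'`-subgroups of the centralizer of an involutory automorphism in characteristic `p` (helper283)

* `fix_all` : `H` with a gate system on its Sylow `r`-subgroups, `X` a normal `r'`-subgroup of `H`: an element of `X` which
  normalizes one Sylow `r`-subgroup normalizes (so centralizes) all of them;
* `isSolvable_of_le` : a normal `r'`-subgroup inside `Hp r H` is solvable;
* `dvd_of_good` : `K` with a good split (B,N)-pair of odd characteristic `p`, `x ∈ Aut(K)`, `x ^ 2 = 1`, `A ≠ 1` a normal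
  perfect subgroup of `C_K(x)`: `p ∣ |A|`.
-/

set_option autoImplicit false

open scoped Pointwise commutatorElement

namespace Cfsg.Agent.H283.NormalPrime

open Cfsg Subgroup Cfsg.Agent.FixBN Cfsg.Agent.FixBN.Gates Cfsg.Agent.BpGate

universe u

section gate

variable {H : Type u} [Group H] [Finite H] {r : ℕ} [hp : Fact r.Prime]
variable {Pa : Set (Set (Sylow r H))} {d : Sylow r H → Sylow r H → ℕ}

/-- an element of `X` which normalizes one Sylow `r`-subgroup normalizes all of them -/
theorem fix_all {X : Subgroup H} [hX : X.Normal] (hG : GSys Pa d) (hcop : (Nat.card X).Coprime r)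
    {a : Sylow r H} {c : H} (hc : c ∈ X) (hca : c • a = a) (b : Sylow r H) : c • b = b := by
  have hd : ∀ b : Sylow r H, Disjoint X (b : Subgroup H) := disjoint_of_coprime hcop
  induction hn : d a b using Nat.strong_induction_on generalizing b with
  | _ n ih =>
    by_cases hab : a = b
    · rw [← hab, hca]
    obtain ⟨S, hS, hbS, c1, hc1, hg, hne, hlt⟩ := hG.desc a b hab
    have h1 : c • c1 = c1 := ih _ (by rw [← hn]; exact hlt) c1 rfl
    have hst : c • S = S := stab hG hd hS hc hc1 (by rw [h1]; exact hc1)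
    have hcb : c • b ∈ S := by
      rw [← hst]
      exact Set.smul_mem_smul_set hbS
    have hcb1 : c • b ≠ c1 := by
      intro h
      apply hne
      rw [← h1] at h
      exact (smul_left_cancel c h).symm
    obtain ⟨u, hu, -, hub⟩ := (hG.gate_self hS hc1).tr b hbS (c • b) hcb (Ne.symm hne) hcb1
    have hcu : ∀ k ∈ c1, c * k = k * c := fun k hk =>
      comm_of_mem hd hc hk (by rw [h1]; exact hk)
    have hpow : ∀ m : ℕ, c ^ m • b = u ^ m • b := by
      intro m
      induction m with
      | zero => rw [pow_zero, pow_zero]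
      | succ m ihm =>
        have h2 : c * u ^ m = u ^ m * c := hcu _ (pow_mem hu m)
        rw [pow_succ', mul_smul, ihm, ← mul_smul, h2, mul_smul, ← hub, ← mul_smul, ← pow_succ]
    obtain ⟨k, hk⟩ := (c1.isPGroup' ⟨u, hu⟩ : ∃ k : ℕ, (⟨u, hu⟩ : ↥(c1 : Subgroup H)) ^ r ^ k = 1)
    have hk' : u ^ r ^ k = 1 := congrArg Subtype.val hk
    have h3 : c ^ r ^ k • b = b := by rw [hpow, hk', one_smul]
    have h4 : (r ^ k).Coprime (orderOf c) := by
      refine Nat.Coprime.pow_left k ?_
      have h5 : orderOf (⟨c, hc⟩ : X) ∣ Nat.card X := orderOf_dvd_natCard _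
      rw [Subgroup.orderOf_mk] at h5
      exact (Nat.Coprime.coprime_dvd_left h5 hcop).symm
    obtain ⟨m, hm⟩ := exists_pow_eq_self_of_coprime h4
    have h5 : c ^ r ^ k ∈ MulAction.stabilizer H b := h3
    have h6 := pow_mem h5 m
    rw [hm] at h6
    exact h6

/-- the elements of `X` normalizing a Sylow `r`-subgroup centralize `Hp r H` -/
theorem comm_Hp {X : Subgroup H} [hX : X.Normal] (hG : GSys Pa d) (hcop : (Nat.card X).Coprime r)
    {a : Sylow r H} {c : H} (hc : c ∈ X) (hca : c • a = a) : c ∈ centralizer (Hp r H : Set H) := by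
  have hd : ∀ b : Sylow r H, Disjoint X (b : Subgroup H) := disjoint_of_coprime hcop
  have h1 : Hp r H ≤ centralizer ({c} : Set H) := by
    refine iSup_le fun b k hk => ?_
    rw [mem_centralizer_singleton_iff]
    exact (comm_of_mem hd hc hk (by rw [fix_all hG hcop hc hca b]; exact hk)).symm
  rw [mem_centralizer_iff]
  intro h hh
  exact mem_centralizer_singleton_iff.1 (h1 hh)

/-- a normal `r'`-subgroup inside `Hp r H` is solvable -/
theorem isSolvable_of_le {X : Subgroup H} [hX : X.Normal] (hG : GSys Pa d) (hcop : (Nat.card X).Coprime r)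
    (hle : X ≤ Hp r H) : Group.IsSolvable ↥X := by
  by_contra hns
  obtain ⟨a⟩ : Nonempty (Sylow r H) := inferInstance
  have hn : (a : Subgroup H) ≤ normalizer (X : Set H) := by
    rw [normalizer_eq_top]
    exact le_top
  have hca : (Nat.card ↥(a : Subgroup H)).Coprime (Nat.card X) := by
    obtain ⟨n, hn⟩ := (IsPGroup.iff_card (p := r) (G := ↥(a : Subgroup H))).1 a.isPGroup'
    rw [hn]
    exact Nat.Coprime.pow_left n hcop.symm
  have h1 := H566.rich_sub (fun X _ _ _ => S0000.result) hn hca hns
  apply h1.1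
  have h2 : IsMulCommutative ↥(X ⊓ centralizer ((a : Subgroup H) : Set H)) := by
    refine ⟨⟨?_⟩⟩
    rintro ⟨c, hcX, hcC⟩ ⟨e, heX, -⟩
    apply Subtype.ext
    have h3 : c • a = a := by
      refine Sylow.ext ?_
      ext k
      change k ∈ (c • a : Sylow r H) ↔ k ∈ (a : Subgroup H)
      rw [mem_smul_iff]
      constructor
      · intro hk
        have h5 : (c⁻¹ * k * c) * c = c * (c⁻¹ * k * c) := mem_centralizer_iff.1 hcC _ hk
        have h6 : k = c⁻¹ * k * c := by
          calc k = c * (c⁻¹ * k * c) * c⁻¹ := by group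
            _ = ((c⁻¹ * k * c) * c) * c⁻¹ := by rw [h5]
            _ = c⁻¹ * k * c := by group
        rw [h6]
        exact hk
      · intro hk
        have h5 : k * c = c * k := mem_centralizer_iff.1 hcC _ hk
        have h6 : c⁻¹ * k * c = k := by rw [mul_assoc, h5, inv_mul_cancel_left]
        change c⁻¹ * k * c ∈ (a : Subgroup H)
        rw [h6]
        exact hk
    have h4 := comm_Hp hG hcop hcX h3
    exact ((mem_centralizer_iff.1 h4) e (hle heX)).symm
  let i : CommGroup ↥(X ⊓ centralizer ((a : Subgroup H) : Set H)) :=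
    { (inferInstance : Group ↥(X ⊓ centralizer ((a : Subgroup H) : Set H))) with mul_comm := h2.is_comm.comm }
  exact (CommGroup.isNilpotent : Group.IsNilpotent ↥(X ⊓ centralizer ((a : Subgroup H) : Set H)))

end gate

open Cfsg.Agent.H283.DescInst Cfsg.Agent.H283.OddComp in
/-- **`p` divides the orders of the normal nonsolvable perfect subgroups of `C_K(x)`.** -/
theorem dvd_of_good {K : Type u} [Group K] [Finite K] {p : ℕ} [hp : Fact p.Prime] (hp2 : p ≠ 2)
    (h : HasGoodSplit p K) {x : MulAut K} (hx : x ^ 2 = 1) {A : Subgroup ↥(fixedSubgroup x)} [hA : A.Normal]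
    (hperf : ⁅A, A⁆ = A) (hne : A ≠ ⊥) : p ∣ Nat.card ↥A := by
  have h0 := h.hasSplit
  obtain ⟨Pa, d, hG, -, -⟩ := FixOdd.Inst.gate (r := 2) (fun e => hp2 e.symm) h0 x hx
  obtain ⟨P, U, -, hg⟩ := h
  have hxx : ∀ g, x (x g) = g := fun g => by
    have := congrArg (fun y : MulAut K => y g) hx
    simpa [pow_two] using this
  -- THEOREM OUT
  have hle : A ≤ Hp p ↥(fixedSubgroup x) := by
    have hLp : ⁅A.map (fixedSubgroup x).subtype, A.map (fixedSubgroup x).subtype⁆ = A.map (fixedSubgroup x).subtype := by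
      rw [← Subgroup.map_commutator, hperf]
    have h1 := GoodSplit.out hp2 hg (x : K ≃* K) hxx (L := A.map (fixedSubgroup x).subtype) (map_subtype_le A) hLp
    have h2 : Lib.PComponents.pElem p (Reduce.fixSub (x : K ≃* K)) ≤ (Hp p ↥(fixedSubgroup x)).map (fixedSubgroup x).subtype := by
      unfold Lib.PComponents.pElem
      rw [closure_le]
      rintro y ⟨hy, n, hn⟩
      exact ⟨⟨y, hy⟩, mem_Hp (n := n) (Subtype.ext hn), rfl⟩
    intro a ha
    obtain ⟨b, hb, hba⟩ := h2 (h1 ⟨a, ha, rfl⟩)
    have h3 : b = a := Subtype.ext hba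
    rwa [← h3]
  by_contra hdvd
  have hs := isSolvable_of_le hG ((Nat.Prime.coprime_iff_not_dvd hp.out).2 hdvd).symm hle
  have h3 : Nontrivial ↥A := (Subgroup.nontrivial_iff_ne_bot _).mpr hne
  have h4 : Group.IsPerfect ↥A := Subgroup.isPerfect_iff.mpr hperf
  exact Group.IsPerfect.not_isSolvable ↥A hs

end Cfsg.Agent.H283.NormalPrime
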