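import Cfsg.Agent.CpAut.TwoTab
import Cfsg.Agent.CTwoTab.JTwo
import Cfsg.Agent.CTwoTab.Suz
import Cfsg.Agent.OddHalf.NI.Ex.RowM12
import Cfsg.Agent.H7.JOneStd
import Cfsg.Agent.H284.CharTwoComp
/-!
# Sporadic groups with an involution centralizer which is not of characteristic 2 (helper283)

`M₁₂`, `J₁`, `J₂`, `Co₃`, `Suz`, `O'N`, `He`.
-/

set_option autoImplicit false

namespace Cfsg.Agent.H283.NotCTSpor

open Subgroup Cfsg Cfsg.Agent.CpAut Cfsg.Agent.CpAut.TwoTab Cfsg.Agent.SignalizersComponents.Components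

universe u

/-! ### `M₁₂` -/

section M12

open Cfsg.Agent.CoThreeStd Cfsg.Agent.CoThreeStd.MTwelve Cfsg.Agent.CoThreeStd.InvTwo Cfsg.Agent.CoThreeStd.OutAut
open Cfsg.Agent.OddHalf.D9.TwoM12

theorem m12 : NotCT (fun X _ => Spor.IsoM12 X) := by
  rintro G _ _ ⟨e⟩
  refine notCT_of_iso (X := H) ?_ e
  have hx : orderOf y = 2 := orderOf_eq_prime (by rw [pow_two]; exact y_sq) y_ne_one
  have hs : IsSimpleGroup ↥(alternatingGroup (Fin 5)) := alternatingGroup.isSimpleGroup_five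
  have e5 : ↥A5 ≃* ↥(alternatingGroup (Fin 5)) :=
    ((alternatingGroup (Fin 5)).equivMapOfInjective w w_injective).symm
  have hs5 : IsSimpleGroup ↥A5 := e5.isSimpleGroup
  have hna : ¬ IsMulCommutative ↥A5 := CTwoTab.na_alt le_rfl e5
  refine not_allCT_of_max hx (N := A5) (CTwoTab.isQuasisimple_of_simple hna) ?_ ?_
  · intro a ha
    rw [mem_centralizer_singleton_iff]
    exact (A5_y ha).symm
  · intro P hP hPP
    exact OddHalf.NI.Ex.RowM12.le_A5 hPP fun a ha => mem_centralizer_singleton_iff.1 (hP ha)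

end M12

/-! ### `J₂` -/

theorem j2 : NotCT (fun X _ => Spor.IsoJ2 X) := by
  intro G _ _ h
  obtain ⟨t, u, Q, v, ρ, D⟩ := Cfsg.Agent.KFacts.J2.Facts.exists_dat_of h
  obtain ⟨f, U, V, H0, F⟩ := Cfsg.Agent.J2Type.CentU.main D.F
  obtain ⟨e⟩ := OddHalf.D4.Spor.JTwo.equiv_H0 D F
  have hs := OddHalf.D4.Spor.JTwo.simple_H0 D F
  have hu : orderOf u = 2 := D.F.hu
  exact not_allCT_of_max hu (N := H0) (CTwoTab.isQuasisimple_of_simple (CTwoTab.na_alt le_rfl e)) F.str.le
    (fun P hP hperf => CTwoTab.perfect_le_of_sq (fun a ha => F.str.sq_mem a ha) P hP hperf)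

/-! ### `Suz` -/

section Suz

open Cfsg.Agent.KFacts.SuzLFour Cfsg.Agent.KFacts.SuzTwoB

theorem suz : NotCT (fun X _ => Spor.IsoSuz X) := by
  rintro G _ _ ⟨e⟩
  have hfin := CTwoTab.Suz.finSuz
  refine notCT_of_iso ?_ e
  have hx : orderOf e0 = 2 := orderOf_eq_prime (by rw [pow_two]; exact e0_sq) e0_ne
  exact not_allCT_of_norm hx CTwoTab.Suz.quasi_L CTwoTab.Suz.L_le_CE (fun c hc x hx => conj_L hc hx)

end Suz

/-! ### `J₁` -/

/-- an element of order 5 does not act on a 2-group of order at most 16 centralizing an involution of it -/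
theorem not_ct_of_card {H : Type*} [Group H] [Finite H] {u : H} (hu : orderOf u = 2) (huc : u ∈ center H)
    (h5 : 5 ∣ Nat.card H) (h32 : ¬ 32 ∣ Nat.card H) : ¬ IsOfCharacteristicTwo H := by
  intro hct
  have : Fact (Nat.Prime 5) := ⟨Nat.prime_five⟩
  have : Fact (Nat.Prime 2) := ⟨Nat.prime_two⟩
  obtain ⟨x, hx⟩ := exists_prime_orderOf_dvd_card' 5 h5
  have hQn : (pCore 2 H).Normal := Lib.Cores.pCore_normal 2
  have hQ2 : IsPGroup 2 ↥(pCore 2 H) := Lib.Cores.pCore_isPGroup 2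
  have huQ : u ∈ pCore 2 H := by
    have h1 : (zpowers u).Normal := by
      refine ⟨fun y hy g => ?_⟩
      have h2 : y ∈ center H := (zpowers_le.mpr huc) hy
      have h3 : g * y * g⁻¹ = y := by
        rw [mem_center_iff.mp h2 g, mul_inv_cancel_right]
      rwa [h3]
    have h2 : IsPGroup 2 ↥(zpowers u) := IsPGroup.of_card (n := 1) (by rw [Nat.card_zpowers, hu, pow_one])
    exact Lib.Cores.le_pCore h1 h2 (mem_zpowers u)
  -- the action
  let P : Subgroup H := zpowers x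
  have hP5 : IsPGroup 5 ↥P := IsPGroup.of_card (n := 1) (by rw [Nat.card_zpowers, hx, pow_one])
  let f : H →* MulAut ↥(pCore 2 H) := MulAut.conjNormal
  let _ : MulAction ↥P ↥(pCore 2 H) := MulAction.compHom _ (f.comp P.subtype)
  have hsm : ∀ (a : ↥P) (q : ↥(pCore 2 H)), ((a • q : ↥(pCore 2 H)) : H) = (a : H) * q * (a : H)⁻¹ := fun a q => rfl
  have h1 := hP5.card_modEq_card_fixedPoints (α := ↥(pCore 2 H))
  -- the fixed points
  let F : Subgroup ↥(pCore 2 H) := (centralizer ({x} : Set H)).subgroupOf (pCore 2 H)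
  have hF : MulAction.fixedPoints ↥P ↥(pCore 2 H) = (F : Set ↥(pCore 2 H)) := by
    ext q
    rw [MulAction.mem_fixedPoints]
    constructor
    · intro h
      have h2 := congrArg Subtype.val (h ⟨x, mem_zpowers x⟩)
      rw [hsm] at h2
      change (q : H) ∈ centralizer ({x} : Set H)
      rw [mem_centralizer_singleton_iff]
      exact (mul_inv_eq_iff_eq_mul.1 h2).symm
    · intro h a
      have h2 : (q : H) ∈ centralizer ({x} : Set H) := h
      rw [mem_centralizer_singleton_iff] at h2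
      apply Subtype.ext
      rw [hsm, mul_inv_eq_iff_eq_mul]
      obtain ⟨k, hk⟩ := mem_zpowers_iff.1 a.2
      rw [← hk]
      exact ((show Commute x (q : H) from h2.symm).zpow_left k)
  have hFc : Nat.card (MulAction.fixedPoints ↥P ↥(pCore 2 H)) = Nat.card ↥F := by
    rw [hF]; rfl
  rw [hFc] at h1
  obtain ⟨k, hk⟩ := (IsPGroup.iff_card.1 hQ2)
  obtain ⟨j, hj⟩ := (IsPGroup.iff_card.1 (hQ2.to_subgroup F))
  have hk4 : k ≤ 4 := by
    by_contra hlt
    apply h32
    have h2 : 2 ^ 5 ∣ Nat.card ↥(pCore 2 H) := by rw [hk]; exact pow_dvd_pow 2 (by omega)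
    exact h2.trans (card_subgroup_dvd_card _)
  have hjk : j ≤ k := by
    have h2 : Nat.card ↥F ≤ Nat.card ↥(pCore 2 H) := Nat.card_le_card_of_injective _ F.subtype_injective
    rw [hk, hj] at h2
    exact (Nat.pow_le_pow_iff_right (by norm_num)).1 h2
  have hj1 : 1 ≤ j := by
    by_contra hlt
    have hj0 : j = 0 := by omega
    rw [hj0, pow_zero, card_eq_one] at hj
    have h2 : (⟨u, huQ⟩ : ↥(pCore 2 H)) ∈ F := by
      change u ∈ centralizer ({x} : Set H)
      rw [mem_centralizer_singleton_iff]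
      exact (mem_center_iff.1 huc x).symm
    rw [hj, mem_bot] at h2
    have h3 : u = 1 := congrArg Subtype.val h2
    rw [h3, orderOf_one] at hu
    omega
  have hjk' : j = k := by
    rw [hk, hj] at h1
    interval_cases k <;> interval_cases j <;> first | rfl | (exfalso; revert h1; decide)
  have hFt : F = ⊤ := Subgroup.eq_top_of_card_eq F (by rw [hj, hk, hjk'])
  have hxC : x ∈ centralizer (pCore 2 H : Set H) := by
    rw [mem_centralizer_iff]
    intro q hq
    have h2 : (⟨q, hq⟩ : ↥(pCore 2 H)) ∈ F := by rw [hFt]; trivial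
    exact mem_centralizer_singleton_iff.1 (show q ∈ centralizer ({x} : Set H) from h2)
  have hxQ := hct hxC
  obtain ⟨n, hn⟩ := hQ2 ⟨x, hxQ⟩
  have h2 : x ^ 2 ^ n = 1 := congrArg Subtype.val hn
  have h3 := orderOf_dvd_of_pow_eq_one h2
  rw [hx] at h3
  have h4 := Nat.prime_five.dvd_of_dvd_pow h3
  omega

theorem j1 : NotCT (fun X _ => Spor.IsoJ1 X) := by
  rintro G _ _ ⟨e⟩ h
  have ho := H7.JOneStd.ord_J1.congr e
  have : Fact (Nat.Prime 2) := ⟨Nat.prime_two⟩
  obtain ⟨u, hu⟩ := exists_prime_orderOf_dvd_card' (G := G) 2 (by rw [ho.card]; norm_num)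
  have huu : u * u = 1 := by rw [← pow_two, ← hu, pow_orderOf_eq_one]
  have hu1 : u ≠ 1 := by
    rintro rfl
    rw [orderOf_one] at hu
    omega
  have hc := ho.cen u huu hu1
  let u' : ↥(centralizer ({u} : Set G)) := ⟨u, mem_centralizer_singleton_iff.2 rfl⟩
  have hu' : orderOf u' = 2 := by rw [Subgroup.orderOf_mk]; exact hu
  refine not_ct_of_card (u := u') hu' ?_ (by rw [hc]; norm_num) (by rw [hc]; norm_num) (h u hu)
  rw [mem_center_iff]
  intro g
  exact Subtype.ext (mem_centralizer_singleton_iff.1 g.2)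

/-! ### conclusion -/

/-- the list -/
def Seven (X : Type u) [Group X] : Prop :=
  Spor.IsoM12 X ∨ Spor.IsoJ1 X ∨ Spor.IsoJ2 X ∨ Spor.IsoCo3 X ∨ Spor.IsoSuz X ∨ Spor.IsoON X ∨ Spor.IsoHe X

theorem Seven.sporadic {X : Type u} [Group X] (h : Seven X) : IsSporadicGroup X := by
  unfold Seven at h
  unfold IsSporadicGroup
  tauto

/-- **No group of the list has all its involution centralizers of characteristic 2.** -/
theorem not_ACT {X : Type u} [Group X] [Finite X] (h : Seven X) : ¬ H284.CharTwoComp.ACT X := by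
  intro hA
  rcases h with ⟨⟨e⟩⟩ | ⟨⟨e⟩⟩ | ⟨⟨e⟩⟩ | ⟨⟨e⟩⟩ | ⟨⟨e⟩⟩ | ⟨⟨e⟩⟩ | ⟨⟨e⟩⟩
  all_goals have := Finite.of_equiv _ e.toEquiv
  · exact m12 _ ⟨MulEquiv.refl _⟩ (hA.congr e)
  · exact j1 _ ⟨MulEquiv.refl _⟩ (hA.congr e)
  · exact j2 _ ⟨MulEquiv.refl _⟩ (hA.congr e)
  · exact co3 _ ⟨MulEquiv.refl _⟩ (hA.congr e)
  · exact suz _ ⟨MulEquiv.refl _⟩ (hA.congr e)
  · exact on _ ⟨MulEquiv.refl _⟩ (hA.congr e)
  · exact he _ ⟨MulEquiv.refl _⟩ (hA.congr e)

end Cfsg.Agent.H283.NotCTSpor
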