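import Cfsg.Agent.H283.OddComp
import Cfsg.Agent.H283.SporLie
import Cfsg.Agent.H256.OddInner
import Cfsg.Agent.H340.OddLie
import Cfsg.Agent.OddHalf.Known
import Cfsg.Agent.S1144
/-!
# No sporadic components in the groups of Lie type of odd characteristic (helper283)

`no_spor` : `K` simple of Lie type in odd characteristic, `x ∈ Aut(K)`, `x ^ 2 = 1`, `A` a normal component of `C_K(x)`:
`A / Z(A)` is not sporadic.
-/

set_option autoImplicit false
set_option linter.unusedSectionVars false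

namespace Cfsg.Agent.H283.OddSpor

open Cfsg Subgroup Cfsg.Agent.FixBN Cfsg.Agent.BpGate Cfsg.Agent.H283.DescInst Cfsg.Agent.H283.DescQuot
open Cfsg.Agent.H283.DescComp Cfsg.Agent.SignalizersComponents.Components Cfsg.Agent.H283.OddComp
open Cfsg.Agent.OddHalf.Known (IsLie char_cases isLie_exc)

universe u v

/-- the conclusion of S1144, with the characteristic -/
theorem lie_of_concl {X : Type u} [Group X] (h : TitsThree.Top.LieConcl X) : IsLie X ∨ Lie.IsoTits X := by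
  rcases h with h | h | h | h | h | h | h
  · obtain ⟨F, _, _, n, h1, h2, f⟩ := h
    obtain ⟨p, hp, hc⟩ := char_cases (F := F)
    exact (Or.inl ⟨p, hp, Or.inl ⟨F, _, _, hc, n, h1, h2, f⟩⟩)
  · obtain ⟨F, _, _, n, h1, h2, f⟩ := h
    obtain ⟨p, hp, hc⟩ := char_cases (F := F)
    exact (Or.inl ⟨p, hp, Or.inr (Or.inl ⟨F, _, _, hc, n, h1, h2, f⟩)⟩)
  · obtain ⟨F, _, _, n, q, h1, h2, h3, f⟩ := h
    obtain ⟨p, hp, hc⟩ := char_cases (F := F)
    exact (Or.inl ⟨p, hp, Or.inr (Or.inr (Or.inl ⟨F, _, _, hc, n, q, h1, h2, h3, f⟩))⟩)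
  · obtain ⟨F, _, _, m, h1, h2, f⟩ := h
    obtain ⟨p, hp, hc⟩ := char_cases (F := F)
    exact (Or.inl ⟨p, hp, Or.inr (Or.inr (Or.inr (Or.inl ⟨F, _, _, hc, m, h1, h2, f⟩)))⟩)
  · obtain ⟨F, i1, i2, m, h1, f⟩ := h
    obtain ⟨p, hp, hc⟩ := char_cases (F := F)
    exact (Or.inl ⟨p, hp, Or.inr (Or.inr (Or.inr (Or.inr (Or.inl ⟨F, i1, i2, hc, m, h1, f⟩))))⟩)
  · obtain ⟨F, i1, i2, m, a, b, h1, h2, f⟩ := h
    obtain ⟨p, hp, hc⟩ := char_cases (F := F)
    exact (Or.inl ⟨p, hp, Or.inr (Or.inr (Or.inr (Or.inr (Or.inr (Or.inl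
      ⟨F, i1, i2, hc, m, a, b, h1, h2, f⟩)))))⟩)
  · rcases h with h | h | h | h | h | h | h | h | h | h | h
    · obtain ⟨F, _, _, h1, f⟩ := h
      exact (Or.inl (isLie_exc (F := F) (Or.inl ⟨h1, f⟩)))
    · obtain ⟨F, _, _, f⟩ := h
      exact (Or.inl (isLie_exc (F := F) (Or.inr (Or.inl f))))
    · obtain ⟨F, _, _, f⟩ := h
      exact (Or.inl (isLie_exc (F := F) (Or.inr (Or.inr (Or.inl f)))))
    · obtain ⟨F, _, _, f⟩ := h
      exact (Or.inl (isLie_exc (F := F) (Or.inr (Or.inr (Or.inr (Or.inl f))))))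
    · obtain ⟨F, _, _, f⟩ := h
      exact (Or.inl (isLie_exc (F := F) (Or.inr (Or.inr (Or.inr (Or.inr f))))))
    · obtain ⟨F, _, _, q, h1, h2, f⟩ := h
      obtain ⟨p, hp, hc⟩ := char_cases (F := F)
      exact (Or.inl ⟨p, hp, Or.inr (Or.inr (Or.inr (Or.inr (Or.inr (Or.inr (Or.inr (Or.inl
        ⟨F, _, _, hc, q, h1, Or.inl ⟨h2, f⟩⟩)))))))⟩)
    · obtain ⟨F, _, _, q, h1, h2, f⟩ := h
      obtain ⟨p, hp, hc⟩ := char_cases (F := F)
      exact (Or.inl ⟨p, hp, Or.inr (Or.inr (Or.inr (Or.inr (Or.inr (Or.inr (Or.inr (Or.inl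
        ⟨F, _, _, hc, q, h1, Or.inr ⟨h2, f⟩⟩)))))))⟩)
    · exact (Or.inl ⟨2, Nat.prime_two, Or.inr (Or.inr (Or.inr (Or.inr (Or.inr (Or.inr (Or.inr (Or.inr
        (Or.inl ⟨rfl, h⟩))))))))⟩)
    · exact (Or.inl ⟨3, Nat.prime_three, Or.inr (Or.inr (Or.inr (Or.inr (Or.inr (Or.inr (Or.inr
        (Or.inr (Or.inr (Or.inr ⟨rfl, h⟩)))))))))⟩)
    · exact (Or.inl ⟨2, Nat.prime_two, Or.inr (Or.inr (Or.inr (Or.inr (Or.inr (Or.inr (Or.inr (Or.inr
        (Or.inr (Or.inl ⟨rfl, h⟩)))))))))⟩)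
    · exact Or.inr h

/-- a simple group with a split (B,N)-pair is not sporadic -/
theorem charBN_not_sporadic {p : ℕ} [Fact p.Prime] {Q : Type u} [Group Q] [Finite Q] [IsSimpleGroup Q] (h : CharBN p Q) :
    ¬ IsSporadicGroup Q := by
  intro hs
  obtain ⟨P, h1, h2⟩ := h.isSplit
  rcases lie_of_concl (S1144.result P h1 h2) with ⟨p, hp, h⟩ | h
  · exact SporLie.not_lie hp h (Or.inl hs)
  · exact SporLie.not_tits_spor h hs

/-- the `p`-elements act on a normal sporadic component as inner automorphisms -/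
theorem inn_of_OI {p : ℕ} (hp : p.Prime) (hp2 : p ≠ 2) {H : Type*} [Group H] [Finite H] {A : Subgroup H} [hn : A.Normal]
    (hA : IsQuasisimple A) (h : H256.OddInner.OI (↥A ⧸ center ↥A)) : OddComp.Inn p A := by
  rintro u ⟨n, hu⟩
  have hun : u ∈ normalizer (A : Set H) := by
    rw [normalizer_eq_top_iff.2 hn]; trivial
  have h1 : (Schreier.Balance.quoAut ↥A (A.normalizerMonoidHom ⟨u, hun⟩)) ^ p ^ n = 1 := by
    rw [← map_pow, ← map_pow]
    have : (⟨u, hun⟩ : ↥(normalizer (A : Set H))) ^ p ^ n = 1 := Subtype.ext hu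
    rw [this, map_one, map_one]
  have h2 : Odd (orderOf (Schreier.Balance.quoAut ↥A (A.normalizerMonoidHom ⟨u, hun⟩))) := by
    obtain ⟨k, -, hk⟩ := (Nat.dvd_prime_pow hp).1 (orderOf_dvd_of_pow_eq_one h1)
    rw [hk]
    exact (hp.odd_of_ne_two hp2).pow
  obtain ⟨a, ha⟩ := h _ h2
  exact mem_sup_of_quo hA hun ha

/-! ### the small Ree groups -/

theorem fix_equiv {G : Type*} [Group G] [Finite G] (hcen : center G = ⊥)
    {L : Type*} [Group L] {a : G} (e : ↥(centralizer ({a} : Set G)) ≃* Multiplicative (ZMod 2) × L)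
    (hconj : ∀ g : G, g ≠ 1 → g * g = 1 → ∃ c, c * a * c⁻¹ = g)
    (hin : ∀ τ : MulAut G, τ * τ = 1 → ∃ g, τ = MulAut.conj g) (x : MulAut G) (hx : x * x = 1) (hx1 : x ≠ 1) :
    Nonempty (↥(fixedSubgroup x) ≃* Multiplicative (ZMod 2) × L) := by
  obtain ⟨g, rfl⟩ := hin x hx
  have hg1 : g ≠ 1 := by
    rintro rfl
    exact hx1 (map_one _)
  have hg2 : g * g = 1 := by
    have h1 : g * g ∈ center G := by
      rw [mem_center_iff]
      intro y
      have h2 := congrArg (fun f : MulAut G => f y) hx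
      have h3 : g * (g * y * g⁻¹) * g⁻¹ = y := h2
      calc y * (g * g) = g * (g * y * g⁻¹) * g⁻¹ * (g * g) := by rw [h3]
        _ = g * g * y := by group
    rw [hcen] at h1
    exact h1
  obtain ⟨c, rfl⟩ := hconj g hg1 hg2
  have h3 : fixedSubgroup (MulAut.conj (c * a * c⁻¹) : MulAut G) = (centralizer ({a} : Set G)).map (MulAut.conj c).toMonoidHom := by
    rw [CpAut.fixedSubgroup_conj]
    ext y
    rw [mem_centralizer_singleton_iff]
    constructor
    · intro h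
      refine ⟨c⁻¹ * y * c, ?_, by simp [mul_assoc]⟩
      rw [SetLike.mem_coe, mem_centralizer_singleton_iff]
      have h4 := congrArg (fun z => c⁻¹ * z * c) h
      calc c⁻¹ * y * c * a = c⁻¹ * (y * (c * a * c⁻¹)) * c := by group
        _ = c⁻¹ * (c * a * c⁻¹ * y) * c := h4
        _ = a * (c⁻¹ * y * c) := by group
    · rintro ⟨z, hz, rfl⟩
      rw [SetLike.mem_coe, mem_centralizer_singleton_iff] at hz
      change c * z * c⁻¹ * (c * a * c⁻¹) = c * a * c⁻¹ * (c * z * c⁻¹)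
      calc c * z * c⁻¹ * (c * a * c⁻¹) = c * (z * a) * c⁻¹ := by group
        _ = c * (a * z) * c⁻¹ := by rw [hz]
        _ = _ := by group
  exact ⟨(MulEquiv.subgroupCongr h3).trans
    (((centralizer ({a} : Set G)).equivMapOfInjective (MulAut.conj c).toMonoidHom (MulAut.conj c).injective).symm.trans e)⟩

/-- **the small Ree groups** -/
theorem cf_ree {G : Type v} [Group G] (h : Lie.IsoRee G) : H340.InvCF.{u} (fun S _ => IsLieTypeChar 3 S) G := by
  obtain ⟨K, i1, i2, m, hm, hK, ⟨e0⟩⟩ := h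
  refine H340.InvCF.congr ?_ e0.symm
  classical
  have hchar := Cfsg.Agent.LieRecognition.ReeAbs.charP_three hK
  obtain ⟨U, h, n, D⟩ := Cfsg.Agent.ChevalleyStructure.Ree.Data.exists_data hK
  have hfin : Finite ↥(Cfsg.Lie.twistedG2 K (3 ^ m)) := Cfsg.Agent.LieRecognition.ReeSylowThree.finite D
  obtain ⟨hs, hc⟩ := Cfsg.Agent.S1073.result hm hK
  obtain ⟨a, haH, ha1, ha2⟩ := Cfsg.Agent.S1157.exists_involution hK
  obtain ⟨⟨e⟩, hS⟩ := Cfsg.Agent.S1152.result hK a haH ha1 ha2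
  have hcd := Cfsg.Agent.LieRecognition.ReeCent.centData ha1 ha2 e Cfsg.Agent.LieRecognition.ReePSL.klein
  have h27 : 3 < Nat.card K := by
    rw [Nat.card_eq_fintype_card, hK]
    have : 3 ^ 3 ≤ 3 ^ (2 * m + 1) := Nat.pow_le_pow_right (by norm_num) (by omega)
    omega
  have hL : IsSimpleGroup (Matrix.ProjectiveSpecialLinearGroup (Fin 2) K) :=
    Matrix.ProjectiveSpecialLinearGroup.rank_two_simple h27
  intro x hx
  by_cases hx1 : x = 1
  · have h1 : ↥(Cfsg.Lie.twistedG2 K (3 ^ m)) ≃* ↥(fixedSubgroup x) := by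
      have h2 : fixedSubgroup x = ⊤ := by
        rw [eq_top_iff, hx1]
        intro y _
        rfl
      exact Subgroup.topEquiv.symm.trans (MulEquiv.subgroupCongr h2.symm)
    refine H340.CF.congr ?_ h1
    refine H340.CF.of_simple ?_
    rintro S _ ⟨f⟩
    exact Or.inr (Or.inr (Or.inr (Or.inr (Or.inr (Or.inr (Or.inr
        (Or.inr (Or.inr (Or.inr ⟨rfl, K, i1, i2, m, hm, hK, ⟨f⟩⟩)))))))))
  · obtain ⟨f⟩ := fix_equiv (BTheorem.center_eq_bot hc) e
      (fun g hg1 hg2 => Cfsg.Agent.LieRecognition.ReeInv.isConj_involution hcd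
        Cfsg.Agent.LieRecognition.ReePSL.klein (Cfsg.Agent.S1116.result hK hm) hS hg1 hg2)
      (RankOneRee.inner hm hK D) x hx hx1
    refine H340.CF.congr ?_ f.symm
    refine H340.CF.prod (H340.CF.of_solvable inferInstance) (H340.CF.of_simple ?_)
    rintro S _ ⟨f⟩
    exact Or.inl ⟨K, i1, i2, hchar, 2, le_refl 2, fun _ => by rw [← Nat.card_eq_fintype_card]; omega, ⟨f⟩⟩

/-- **No sporadic components.** -/
theorem no_spor {K : Type u} [Group K] [Finite K] [IsSimpleGroup K] {p : ℕ} (hp : p.Prime) (hp2 : p ≠ 2)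
    (hK : IsLieTypeChar p K) {x : MulAut K} (hx : x ^ 2 = 1) {A : Subgroup ↥(fixedSubgroup x)} [A.Normal]
    (hA : IsComponent A) : ¬ IsSporadicGroup (↥A ⧸ center ↥A) := by
  intro hs
  have := hA.2.2
  have : Fact p.Prime := ⟨hp⟩
  have hperf := hA.2.1.commutator_eq_top
  by_cases hR : Lie.IsoRee K
  · have h1 := H340.CF.component (cf_ree.{u, u} hR x (by rw [← pow_two]; exact hx)) hA.1 hA.2.2 hperf
    exact SporLie.not_lie Nat.prime_three h1 (Or.inl hs)
  · have h1 := odd_row hp2 hK hR x hx A hA (inn_of_OI hp hp2 hA.2 (H256.OddInner.sporadic hs))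
    exact charBN_not_sporadic h1 hs

end Cfsg.Agent.H283.OddSpor
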