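import Cfsg.Agent.H283.StdSporB
import Cfsg.Agent.H291.FixIndex
/-!
# Outer involutory automorphisms: tools to exclude standard subgroups (helper283)

`Sit X A` : `t` an outer involutory automorphism of `X`, `L ≅ A` a normal quasisimple subgroup of `C_X(t)`, no involution of
`C_X(t)` centralizes `L`.

* `sylow_case` : a Sylow `p`-subgroup of `L` (`p` odd) is a self-centralizing Sylow `p`-subgroup of `X`: then
  `|X : C_X(t)| ≡ 1 (mod p)`, `C_X(t) ≤ Aut(L)`, `Z(L) = 1`;
* `no_even` : the elements of order `r` of `X` commute with involutions, but no involutory automorphism of `A / Z(A)` fixes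
  an element of order `r`: impossible.
-/

set_option autoImplicit false

namespace Cfsg.Agent.H283.OutTools

open Cfsg Subgroup Cfsg.Agent.SignalizersComponents.Components Cfsg.Agent.H283.StdSpor
open scoped commutatorElement

universe u v

section bar

/-- the automorphism of `N / Z(N)` -/
noncomputable def bar {N : Type u} [Group N] (τ : MulAut N) : MulAut (N ⧸ center N) :=
  QuotientGroup.congr (center N) (center N) τ (Subgroup.characteristic_iff_map_eq.1 inferInstance τ)

theorem bar_mk {N : Type u} [Group N] (τ : MulAut N) (x : N) :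
    bar τ (QuotientGroup.mk' _ x) = QuotientGroup.mk' _ (τ x) := rfl

theorem bar_mul {N : Type u} [Group N] (τ σ : MulAut N) : bar (τ * σ) = bar τ * bar σ := by
  ext x
  obtain ⟨x, rfl⟩ := QuotientGroup.mk'_surjective _ x
  rfl

theorem bar_one {N : Type u} [Group N] : bar (1 : MulAut N) = 1 := by
  ext x
  obtain ⟨x, rfl⟩ := QuotientGroup.mk'_surjective _ x
  rfl

/-- an automorphism trivial on `N / Z(N)`, `N` perfect, is trivial -/
theorem eq_one_of_bar {N : Type u} [Group N] (hN : commutator N = ⊤) (τ : MulAut N) (h : bar τ = 1) : τ = 1 := by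
  have h1 : ∀ x : N, x⁻¹ * τ x ∈ center N := by
    intro x
    have h2 := DFunLike.congr_fun h (QuotientGroup.mk' (center N) x)
    rw [bar_mk] at h2
    exact QuotientGroup.eq.1 h2.symm
  have h2 : (⊤ : Subgroup N) ≤ fixedSubgroup τ := by
    rw [← hN, _root_.commutator_def, commutator_le]
    intro x _ y _
    change τ ⁅x, y⁆ = ⁅x, y⁆
    obtain ⟨c, hc, hx⟩ : ∃ c ∈ center N, τ x = x * c := ⟨_, h1 x, by group⟩
    obtain ⟨d, hd, hy⟩ : ∃ c ∈ center N, τ y = y * c := ⟨_, h1 y, by group⟩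
    rw [mem_center_iff] at hc hd
    rw [commutatorElement_def, map_mul, map_mul, map_mul, map_inv, map_inv, hx, hy, mul_inv_rev, mul_inv_rev]
    calc x * c * (y * d) * (c⁻¹ * x⁻¹) * (d⁻¹ * y⁻¹) = x * (c * (y * d)) * (c⁻¹ * x⁻¹) * (d⁻¹ * y⁻¹) := by group
      _ = x * ((y * d) * c) * (c⁻¹ * x⁻¹) * (d⁻¹ * y⁻¹) := by rw [hc (y * d)]
      _ = x * y * (d * x⁻¹) * d⁻¹ * y⁻¹ := by group
      _ = x * y * (x⁻¹ * d) * d⁻¹ * y⁻¹ := by rw [← hd x⁻¹]
      _ = x * y * x⁻¹ * y⁻¹ := by group
  ext x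
  exact h2 (mem_top x)

end bar

section sit

variable {X : Type u} [Group X] {A : Type v} [Group A] (S : Sit X A)

/-- the action of `C_X(t)` on `L` -/
def cj : ↥(fixedSubgroup S.t) →* MulAut ↥S.L where
  toFun u :=
    { toFun := fun l => ⟨(u : X) * l * (u : X)⁻¹, S.norm u u.2 l l.2⟩
      invFun := fun l => ⟨(u : X)⁻¹ * l * ((u : X)⁻¹)⁻¹, S.norm (u : X)⁻¹ (u⁻¹).2 l l.2⟩
      left_inv := fun l => Subtype.ext (by
        show (u : X)⁻¹ * ((u : X) * l * (u : X)⁻¹) * ((u : X)⁻¹)⁻¹ = l
        group)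
      right_inv := fun l => Subtype.ext (by
        show (u : X) * ((u : X)⁻¹ * l * ((u : X)⁻¹)⁻¹) * (u : X)⁻¹ = l
        group)
      map_mul' := fun l k => Subtype.ext (by
        show (u : X) * ((l : X) * k) * (u : X)⁻¹ = (u : X) * l * (u : X)⁻¹ * ((u : X) * k * (u : X)⁻¹)
        group) }
  map_one' := by
    ext l
    show (1 : X) * l * (1 : X)⁻¹ = l
    group
  map_mul' u w := by
    ext l
    show ((u : X) * (w : X)) * l * ((u : X) * (w : X))⁻¹ = (u : X) * ((w : X) * l * (w : X)⁻¹) * (u : X)⁻¹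
    group

theorem coe_cj (u : ↥(fixedSubgroup S.t)) (l : ↥S.L) : ((cj S u l : ↥S.L) : X) = (u : X) * l * (u : X)⁻¹ := rfl

theorem cj_eq_one {u : ↥(fixedSubgroup S.t)} (h : cj S u = 1) : ∀ l ∈ S.L, (u : X) * l = l * u := by
  intro l hl
  have h1 := congrArg Subtype.val (DFunLike.congr_fun h ⟨l, hl⟩)
  rw [coe_cj] at h1
  exact mul_inv_eq_iff_eq_mul.1 h1

theorem L_le : S.L ≤ fixedSubgroup S.t := fun l hl => S.fix l hl

/-- the quotients -/
theorem card_L : Nat.card ↥S.L = Nat.card A := Nat.card_congr S.e.toEquiv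

end sit

section sylow

variable {X : Type u} [Group X] [Finite X] {A : Type v} [Group A] (S : Sit X A)

/-- **The Sylow case.** -/
theorem sylow_case {p k : ℕ} [hp : Fact p.Prime] (ho : Odd p) (hA : p ^ k ∣ Nat.card (A ⧸ center A))
    (hX : ¬ p ^ (k + 1) ∣ Nat.card X)
    (hC : ∀ P : Sylow p X, centralizer ((P : Subgroup X) : Set X) ≤ P) :
    center A = ⊥ ∧ (fixedSubgroup S.t).index ≡ 1 [MOD p] ∧ Nat.card A ∣ Nat.card ↥(fixedSubgroup S.t) ∧
      Nat.card ↥(fixedSubgroup S.t) ∣ Nat.card (MulAut A) := by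
  have hfA : Finite A := Finite.of_equiv _ S.e.toEquiv
  have hcA : Nat.card A = Nat.card (A ⧸ center A) * Nat.card ↥(center A) :=
    card_eq_card_quotient_mul_card_subgroup _
  have hLX : Nat.card ↥S.L ∣ Nat.card X := card_subgroup_dvd_card _
  rw [card_L] at hLX
  -- `p ∤ |Z(A)|`
  have hZ : ¬ p ∣ Nat.card ↥(center A) := by
    intro h
    apply hX
    rw [pow_succ]
    refine (Nat.mul_dvd_mul hA h).trans ?_
    rw [← hcA]
    exact hLX
  have hpk : p ^ k ∣ Nat.card A := hA.trans (Dvd.intro _ hcA.symm)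
  have hfX : (Nat.card X).factorization p = k := by
    have h1 : k ≤ (Nat.card X).factorization p :=
      (hp.out.pow_dvd_iff_le_factorization Nat.card_pos.ne').1 (hpk.trans hLX)
    have h2 : ¬ k + 1 ≤ (Nat.card X).factorization p := fun h =>
      hX ((hp.out.pow_dvd_iff_le_factorization Nat.card_pos.ne').2 h)
    omega
  have hfL : (Nat.card ↥S.L).factorization p = k := by
    rw [card_L]
    have h1 : k ≤ (Nat.card A).factorization p :=
      (hp.out.pow_dvd_iff_le_factorization Nat.card_pos.ne').1 hpk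
    have h2 : ¬ k + 1 ≤ (Nat.card A).factorization p := fun h =>
      hX (((hp.out.pow_dvd_iff_le_factorization Nat.card_pos.ne').2 h).trans hLX)
    omega
  obtain ⟨Q⟩ : Nonempty (Sylow p ↥S.L) := inferInstance
  have hQ : Nat.card ↥(Q : Subgroup ↥S.L) = p ^ k := by rw [Q.card_eq_multiplicity, hfL]
  let P : Sylow p X := Sylow.ofCard ((Q : Subgroup ↥S.L).map S.L.subtype) (by
    rw [card_map_of_injective S.L.subtype_injective, hQ, hfX])
  have hP : (P : Subgroup X) = (Q : Subgroup ↥S.L).map S.L.subtype := rfl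
  have hPL : (P : Subgroup X) ≤ S.L := by
    rw [hP]
    exact map_subtype_le _
  -- the centralizer of `L` in `X`
  have hcent : ∀ u : X, S.t u = u → (∀ l ∈ S.L, u * l = l * u) → u = 1 := by
    intro u htu hul
    have h1 : u ∈ (P : Subgroup X) := hC P (by
      rw [mem_centralizer_iff]
      intro x hx
      exact (hul x (hPL hx)).symm)
    -- `u` is in the center of `L`
    have h2 : (⟨u, hPL h1⟩ : ↥S.L) ∈ center ↥S.L := by
      rw [mem_center_iff]
      intro l
      exact Subtype.ext (hul l l.2).symm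
    have h3 : orderOf u ∣ Nat.card ↥(center A) := by
      have h4 : orderOf (⟨⟨u, hPL h1⟩, h2⟩ : ↥(center ↥S.L)) ∣ Nat.card ↥(center ↥S.L) := orderOf_dvd_natCard _
      rw [Subgroup.orderOf_mk, Subgroup.orderOf_mk] at h4
      rwa [Nat.card_congr (centerCongr S.e).toEquiv] at h4
    obtain ⟨j, hj⟩ := (P.isPGroup' ⟨u, h1⟩ : ∃ j : ℕ, (⟨u, h1⟩ : ↥(P : Subgroup X)) ^ p ^ j = 1)
    have h5 : orderOf u ∣ p ^ j := orderOf_dvd_of_pow_eq_one (congrArg Subtype.val hj)
    obtain ⟨i, -, hi⟩ := (Nat.dvd_prime_pow hp.out).1 h5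
    rcases i with _ | i
    · rw [pow_zero] at hi
      exact orderOf_eq_one_iff.1 hi
    · exfalso
      apply hZ
      rw [hi] at h3
      exact (dvd_pow_self p (by omega)).trans h3
  refine ⟨?_, ?_, ?_, ?_⟩
  · rw [eq_bot_iff]
    intro z hz
    have h1 := hcent ((S.e.symm z : ↥S.L) : X) (S.fix _ (S.e.symm z).2) (fun l hl => by
      have h2 : S.e ⟨l, hl⟩ * z = z * S.e ⟨l, hl⟩ := mem_center_iff.1 hz _
      have h3 := congrArg S.e.symm h2
      rw [map_mul, map_mul, S.e.symm_apply_apply] at h3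
      exact (congrArg Subtype.val h3).symm)
    have h2 : S.e.symm z = 1 := Subtype.ext h1
    have h3 : z = 1 := by rw [← S.e.apply_symm_apply z, h2, map_one]
    rw [h3]
    exact one_mem _
  · exact H291.FixIndex.index_modEq S.t S.tt ho P (fun x hx => S.fix x (hPL hx)) (hC P)
  · rw [← card_L S]
    exact card_dvd_of_le (L_le S)
  · have h1 : Function.Injective (cj S) := by
      rw [injective_iff_map_eq_one]
      intro u hu
      exact Subtype.ext (hcent u u.2 (cj_eq_one S hu))
    have h2 := card_subgroup_dvd_card (cj S).range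
    rwa [← Nat.card_congr (MonoidHom.ofInjective h1).toEquiv,
      Nat.card_congr (MulAut.congr S.e).toEquiv] at h2

/-- no involutory automorphism fixes an element of order `r` -/
def NoFix (r : ℕ) (Y : Type v) [Group Y] : Prop :=
  ∀ α : MulAut Y, α * α = 1 → α ≠ 1 → ∀ w : Y, orderOf w = r → α w ≠ w

theorem NoFix.congr {r : ℕ} {Y : Type u} {Z : Type v} [Group Y] [Group Z] (e : Y ≃* Z) (h : NoFix r Y) :
    NoFix r Z := by
  intro α h1 h2 w hw hαw
  refine h ((MulAut.congr e).symm α) ?_ ?_ (e.symm w) ?_ ?_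
  · rw [← map_mul, h1, map_one]
  · intro h3
    apply h2
    rw [← (MulAut.congr e).apply_symm_apply α, h3, map_one]
  · rw [MulEquiv.orderOf_eq, hw]
  · show e.symm (α (e (e.symm w))) = e.symm w
    rw [e.apply_symm_apply, hαw]

include S in
/-- **The case of an odd centralizer in `Aut(A)`.** -/
theorem no_even {r : ℕ} (hr : r.Prime) (hX : ¬ r ^ 2 ∣ Nat.card X) (hA : r ∣ Nat.card (A ⧸ center A))
    (hev : ∀ w : X, orderOf w = r → Even (Nat.card ↥(centralizer ({w} : Set X))))
    (hF : NoFix r (A ⧸ center A)) : False := by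
  have hp : Fact r.Prime := ⟨hr⟩
  have hfA : Finite A := Finite.of_equiv _ S.e.toEquiv
  have hcA : Nat.card A = Nat.card (A ⧸ center A) * Nat.card ↥(center A) :=
    card_eq_card_quotient_mul_card_subgroup _
  have hLX : Nat.card ↥S.L ∣ Nat.card X := card_subgroup_dvd_card _
  have hrA : r ∣ Nat.card ↥S.L := by
    rw [card_L]
    exact hA.trans (Dvd.intro _ hcA.symm)
  obtain ⟨w, hw⟩ := exists_prime_orderOf_dvd_card' (G := ↥S.L) r hrA
  have hwX : orderOf (w : X) = r := by rw [Subgroup.orderOf_coe, hw]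
  -- `w` is not central
  have hwZ : w ∉ center ↥S.L := by
    intro h
    apply hX
    have h1 : r ∣ Nat.card ↥(center A) := by
      rw [← Nat.card_congr (centerCongr S.e).toEquiv]
      have h2 : orderOf (⟨w, h⟩ : ↥(center ↥S.L)) ∣ Nat.card ↥(center ↥S.L) := orderOf_dvd_natCard _
      rwa [Subgroup.orderOf_mk, hw] at h2
    rw [pow_two]
    refine (Nat.mul_dvd_mul hA h1).trans ?_
    rw [← hcA, ← card_L S]
    exact hLX
  obtain ⟨u, hu, htu, huw⟩ := H291.Parity.exists_comm_invo S.t S.tt (S.fix _ w.2) (hev _ hwX)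
  have huu : u * u = 1 := by rw [← pow_two, ← hu, pow_orderOf_eq_one]
  have hu1 : u ≠ 1 := by
    rintro rfl
    rw [orderOf_one] at hu
    omega
  let U : ↥(fixedSubgroup S.t) := ⟨u, htu⟩
  have hUU : U * U = 1 := Subtype.ext huu
  have hperf : commutator ↥S.L = ⊤ := Group.isPerfect_def.1 S.qs.1
  have hk : NoFix r (↥S.L ⧸ center ↥S.L) := by
    obtain ⟨k⟩ := OddComp.exists_quoEquiv S.e
    exact hF.congr k.symm
  refine hk (bar (cj S U)) ?_ ?_ (QuotientGroup.mk' _ w) ?_ ?_
  · rw [← bar_mul, ← map_mul, hUU, map_one, bar_one]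
  · intro h
    have h1 := eq_one_of_bar hperf _ h
    exact hu1 (S.inv u htu huu (cj_eq_one S h1))
  · -- the order
    have h1 : orderOf (QuotientGroup.mk' (center ↥S.L) w) ∣ r := by
      rw [← hw]
      exact orderOf_map_dvd _ _
    rcases (Nat.dvd_prime hr).1 h1 with h2 | h2
    · exfalso
      rw [orderOf_eq_one_iff] at h2
      exact hwZ ((QuotientGroup.eq_one_iff w).1 h2)
    · exact h2
  · rw [bar_mk]
    congr 1
    apply Subtype.ext
    rw [coe_cj]
    show u * (w : X) * u⁻¹ = w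
    rw [huw, mul_inv_cancel_right]

end sylow

end Cfsg.Agent.H283.OutTools
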