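import Cfsg.Agent.H283.NoFixes
import Cfsg.Agent.H283.BRow
import Cfsg.Agent.H287.FixInn
import Cfsg.Agent.H287.FixInnB
import Cfsg.Agent.H287.InnTwo
import Cfsg.Agent.H287.TwoAlt
import Cfsg.Agent.H287.InnON
import Cfsg.Agent.H287.OutA
import Cfsg.Agent.H287.OutMcL
import Cfsg.Agent.H287.OutHe
import Cfsg.Agent.H287.OutON
import Cfsg.Agent.H287.OutFi22
import Cfsg.Agent.H287.OutFi24
import Cfsg.Agent.H287.HasRow
import Cfsg.Agent.H498.SporOut
import Cfsg.Agent.NotCT.Orders
import Cfsg.Agent.S2084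
/-!
# Sporadic `X` with a standard subgroup `A`, `A / Z(A)` in the list `Seven` (helper283)
-/

set_option autoImplicit false

namespace Cfsg.Agent.H283.Rows93

open Cfsg Subgroup Cfsg.Agent.SignalizersComponents.Components Cfsg.Agent.H283.StdSpor
open Cfsg.Agent.H283.NotCTSpor Cfsg.Agent.H283.OutTools Cfsg.Agent.CTwoTab Cfsg.Agent.H287

universe u v

/-- the orders of the list -/
def Ord7 (m : ℕ) : Prop :=
  m = 95040 ∨ m = 175560 ∨ m = 604800 ∨ m = 495766656000 ∨ m = 448345497600 ∨ m = 460815505920 ∨ m = 4030387200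

section card

variable {Y : Type u} [Group Y] [Finite Y] [IsSimpleGroup Y]

theorem seven_card (h : Seven Y) : Ord7 (Nat.card Y) := by
  unfold Ord7
  rcases h with h | h | h | h | h | h | h
  · exact Or.inl (NotCT.Orders.m12 h)
  · exact Or.inr (Or.inl (NotCT.Orders.j1 h))
  · exact Or.inr (Or.inr (Or.inl (NotCT.Orders.j2 h)))
  · exact Or.inr (Or.inr (Or.inr (Or.inl (NotCT.Orders.co3 h))))
  · exact Or.inr (Or.inr (Or.inr (Or.inr (Or.inl (NotCT.Orders.suz h)))))
  · exact Or.inr (Or.inr (Or.inr (Or.inr (Or.inr (Or.inl (NotCT.Orders.on h))))))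
  · exact Or.inr (Or.inr (Or.inr (Or.inr (Or.inr (Or.inr (NotCT.Orders.he h))))))

theorem iso_m12 (h : Seven Y) (hc : Nat.card Y = 95040) : Spor.IsoM12 Y := by
  rcases h with h | h | h | h | h | h | h
  · exact h
  · rw [NotCT.Orders.j1 h] at hc; norm_num at hc
  · rw [NotCT.Orders.j2 h] at hc; norm_num at hc
  · rw [NotCT.Orders.co3 h] at hc; norm_num at hc
  · rw [NotCT.Orders.suz h] at hc; norm_num at hc
  · rw [NotCT.Orders.on h] at hc; norm_num at hc
  · rw [NotCT.Orders.he h] at hc; norm_num at hc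

theorem iso_j1 (h : Seven Y) (hc : Nat.card Y = 175560) : Spor.IsoJ1 Y := by
  rcases h with h | h | h | h | h | h | h
  · rw [NotCT.Orders.m12 h] at hc; norm_num at hc
  · exact h
  · rw [NotCT.Orders.j2 h] at hc; norm_num at hc
  · rw [NotCT.Orders.co3 h] at hc; norm_num at hc
  · rw [NotCT.Orders.suz h] at hc; norm_num at hc
  · rw [NotCT.Orders.on h] at hc; norm_num at hc
  · rw [NotCT.Orders.he h] at hc; norm_num at hc

theorem iso_j2 (h : Seven Y) (hc : Nat.card Y = 604800) : Spor.IsoJ2 Y := by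
  rcases h with h | h | h | h | h | h | h
  · rw [NotCT.Orders.m12 h] at hc; norm_num at hc
  · rw [NotCT.Orders.j1 h] at hc; norm_num at hc
  · exact h
  · rw [NotCT.Orders.co3 h] at hc; norm_num at hc
  · rw [NotCT.Orders.suz h] at hc; norm_num at hc
  · rw [NotCT.Orders.on h] at hc; norm_num at hc
  · rw [NotCT.Orders.he h] at hc; norm_num at hc

theorem iso_suz (h : Seven Y) (hc : Nat.card Y = 448345497600) : Spor.IsoSuz Y := by
  rcases h with h | h | h | h | h | h | h
  · rw [NotCT.Orders.m12 h] at hc; norm_num at hc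
  · rw [NotCT.Orders.j1 h] at hc; norm_num at hc
  · rw [NotCT.Orders.j2 h] at hc; norm_num at hc
  · rw [NotCT.Orders.co3 h] at hc; norm_num at hc
  · exact h
  · rw [NotCT.Orders.on h] at hc; norm_num at hc
  · rw [NotCT.Orders.he h] at hc; norm_num at hc

end card

section sit

variable {X : Type u} [Group X] {A : Type v} [Group A]

/-- `L` as a component -/
theorem Sit.comp (S : Sit X A) : IsComponent (S.L.subgroupOf (fixedSubgroup S.t)) := by
  have hle : S.L ≤ fixedSubgroup S.t := fun l hl => S.fix l hl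
  refine ⟨?_, (isQuasisimple_congr (subgroupOfEquivOfLe hle)).2 S.qs⟩
  have hn : (S.L.subgroupOf (fixedSubgroup S.t)).Normal := by
    refine ⟨fun l hl u => ?_⟩
    rw [mem_subgroupOf] at hl ⊢
    exact S.norm u u.2 _ hl
  exact hn.isSubnormal

theorem of_outCard {S : ℕ → ℕ → Prop} (h : OutCard S X) (T : Sit X A) :
    S (Nat.card A) (Nat.card (A ⧸ center A)) := by
  have hle : T.L ≤ fixedSubgroup T.t := fun l hl => T.fix l hl
  have h2 : orderOf T.t = 2 := orderOf_eq_prime (by rw [pow_two]; exact T.tt) T.ne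
  have h1 := h T.t h2 T.out _ (Sit.comp T)
  have e : ↥(T.L.subgroupOf (fixedSubgroup T.t)) ≃* A := (subgroupOfEquivOfLe hle).trans T.e
  rwa [Nat.card_congr e.toEquiv, Nat.card_congr (quoEquiv e).toEquiv] at h1

theorem of_compCard {S : ℕ → ℕ → Prop} (h : CompCard S X) (T : InnRow X A) :
    S (Nat.card A) (Nat.card (A ⧸ center A)) := by
  obtain ⟨z, hz, K, hK, ⟨e⟩⟩ := T
  have h1 := h z hz K hK
  rwa [Nat.card_congr e.toEquiv, Nat.card_congr (quoEquiv e).toEquiv] at h1

theorem of_fixCard {S : ℕ → ℕ → Prop} (hc : center X = ⊥) (h : FixCard S X) (T : InnRow X A ∨ Nonempty (Sit X A)) :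
    S (Nat.card A) (Nat.card (A ⧸ center A)) := by
  rcases T with T | ⟨⟨T⟩⟩
  · exact of_compCard (h.compCard hc) T
  · exact of_outCard (fun x hx _ => h x hx) T

theorem dvd_lt [Finite X] [IsSimpleGroup X] (hna : ¬ IsMulCommutative X) (T : InnRow X A ∨ Nonempty (Sit X A)) :
    Nat.card A ∣ Nat.card X ∧ Nat.card A < Nat.card X := by
  have hz := CTwoTab.center_eq_bot_of_simple hna
  rcases T with ⟨z, hz2, K, hK, ⟨e⟩⟩ | ⟨⟨T⟩⟩
  · rw [← Nat.card_congr e.toEquiv]
    refine ⟨card_subgroup_dvd_card K, lt_of_le_of_ne (Nat.card_le_card_of_injective _ K.subtype_injective) ?_⟩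
    intro h
    have h1 : K = ⊤ := (card_eq_iff_eq_top K).1 h
    have h2 : z ∈ center X := by
      rw [mem_center_iff]
      intro x
      exact mem_centralizer_singleton_iff.1 (hK.1 (by rw [h1]; exact mem_top x))
    rw [hz, mem_bot] at h2
    rw [h2, orderOf_one] at hz2
    omega
  · rw [← Nat.card_congr T.e.toEquiv]
    refine ⟨card_subgroup_dvd_card T.L, lt_of_le_of_ne (Nat.card_le_card_of_injective _ T.L.subtype_injective) ?_⟩
    intro h
    have h1 : T.L = ⊤ := (card_eq_iff_eq_top T.L).1 h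
    apply T.ne
    ext x
    exact T.fix x (by rw [h1]; exact mem_top x)

end sit

/-- the conclusion -/
def Good (X : Type u) [Group X] (A : Type v) [Group A] : Prop :=
  (Spor.IsoCo3 X ∧ Spor.IsoM12 (A ⧸ center A)) ∨
    (Spor.IsoSuz X ∧ (Spor.IsoM12 (A ⧸ center A) ∨ Spor.IsoJ2 (A ⧸ center A))) ∨
    (Spor.IsoON X ∧ Spor.IsoJ1 (A ⧸ center A))

section table

variable {X : Type u} [Group X] [Finite X] [IsSimpleGroup X] {A : Type v} [Group A]

/-- the Baby Monster -/
theorem row_b (hX : Spor.IsoB X) (hS : Seven (A ⧸ center A)) (hQ : IsQuasisimple A) (T : InnRow X A) : False := by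
  obtain ⟨e⟩ := hX
  obtain ⟨z, hz, K, hK, ⟨f⟩⟩ := T
  have hfA : Finite A := Finite.of_equiv _ f.toEquiv
  have hQs : IsSimpleGroup (A ⧸ center A) := hQ.2
  have h7 := seven_card hS
  have h1 := isComponentOf_map e hK
  rw [map_centralizer_singleton] at h1
  have hB : Finite Spor.BabyMonster := Finite.of_equiv X e.toEquiv
  have e2 : ↥(K.map e.toMonoidHom) ≃* A := (subMap e K).symm.trans f
  rcases BRow.pack_model (e z) (by rw [MulEquiv.orderOf_eq, hz]) _ h1 with h | ⟨hs, hna, -, -, h5, -⟩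
  · rw [Nat.card_congr (quoEquiv e2).toEquiv] at h
    unfold Ord7 at h7
    omega
  · rw [Nat.card_congr (MulAut.congr e2).toEquiv] at h5
    have hsA : IsSimpleGroup A := e2.symm.isSimpleGroup
    have hnA : ¬ IsMulCommutative A := BRow.not_comm_of_equiv e2 hna
    have hzA := CTwoTab.center_eq_bot_of_simple hnA
    have e3 : A ⧸ center A ≃* A := (QuotientGroup.quotientMulEquivOfEq hzA).trans QuotientGroup.quotientBot
    have hsp := (StdSpor.Seven.congr e3 hS).sporadic
    have h6 := H498.SporOut.index_le_two hsp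
    have h8 : Nat.card (MulAut A) ≤ Nat.card A * 2 := by
      rw [← (MulAut.conj : A →* MulAut A).range.card_mul_index]
      exact Nat.mul_le_mul (Nat.card_le_card_of_surjective _ (MulAut.conj : A →* MulAut A).rangeRestrict_surjective) h6
    rw [Nat.card_congr e3.toEquiv] at h7
    unfold Ord7 at h7
    omega

/-- only orders -/
theorem kill {m n N : ℕ} (h7 : Ord7 m) (hmn : m ∣ n) (hn : 0 < n) (hd : n ∣ N) (hl : n < N)
    (h : ∀ k, Ord7 k → k ∣ N → k < N → False) : False :=
  h m h7 (hmn.trans hd) (lt_of_le_of_lt (Nat.le_of_dvd hn hmn) hl)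

/-- `11` and the outer involutions of `Fi₂₂`, `HN` -/
theorem eleven (hX : Spor.IsoHN X) (hQs : IsSimpleGroup (A ⧸ center A)) (T : Sit X A)
    (h : Spor.IsoM12 (A ⧸ center A) ∨ Spor.IsoJ1 (A ⧸ center A)) : False := by
  have hfA : Finite A := Finite.of_equiv _ T.e.toEquiv
  have hc := NotCT.Orders.hn hX
  obtain ⟨e⟩ := hX
  obtain ⟨z, hz1, hz2⟩ := H291.RowsB.inv_hn11.congr e.symm
  have h11 : Nat.Prime 11 := by norm_num
  have hX : ¬ 11 ^ 2 ∣ Nat.card X := by rw [hc]; norm_num
  refine no_even T h11 hX ?_ (fun w hw => H291.Parity.even_cent_of_small h11 hX hz1 hz2 hw) ?_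
  · rcases h with h | h
    · rw [NotCT.Orders.m12 h]; norm_num
    · rw [NotCT.Orders.j1 h]; norm_num
  · rcases h with h | h
    · exact noFix_m12 h
    · exact noFix_j1 h

/-- the outer involutions of `Fi₂₂` -/
theorem out_fi22 (hX : Spor.IsoFi22 X) (hQs : IsSimpleGroup (A ⧸ center A)) (hfA : Finite A) (T : Sit X A)
    (h : Spor.IsoM12 (A ⧸ center A) ∨ Spor.IsoJ2 (A ⧸ center A) ∨ Spor.IsoSuz (A ⧸ center A)) : False := by
  obtain ⟨f⟩ := hX
  have h1 : (MulAut.congr f).symm (MulAut.congr f T.t) = T.t := (MulAut.congr f).symm_apply_apply T.t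
  have h2 : orderOf (MulAut.congr f T.t) = 2 := by
    rw [MulEquiv.orderOf_eq]
    exact orderOf_eq_prime (by rw [pow_two]; exact T.tt) T.ne
  have h3 : ¬ ∃ g, MulAut.congr f T.t = MulAut.conj g := by
    rintro ⟨g, hg⟩
    apply T.out
    refine ⟨f.symm g, ?_⟩
    rw [← h1, hg]
    ext b
    change f.symm (g * f b * g⁻¹) = f.symm g * b * (f.symm g)⁻¹
    rw [map_mul, map_mul, f.symm_apply_apply, map_inv]
  have h4 := (OutFi22.hcomp h2 h3).congr (CpAut.fixEquiv f T.t).symm
  have hle : T.L ≤ fixedSubgroup T.t := fun l hl => T.fix l hl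
  have e : ↥(T.L.subgroupOf (fixedSubgroup T.t)) ≃* A := (subgroupOfEquivOfLe hle).trans T.e
  have hev : 2 ∣ Nat.card A := by
    refine Dvd.dvd.trans ?_ (card_quotient_dvd_card (center A))
    rcases h with h | h | h
    · rw [NotCT.Orders.m12 h]; norm_num
    · rw [NotCT.Orders.j2 h]; norm_num
    · rw [NotCT.Orders.suz h]; norm_num
  rcases h4 _ (Sit.comp T) (by rwa [Nat.card_congr e.toEquiv]) with h5 | ⟨-, h5⟩
  · change Nat.card _ = 1451520 at h5
    rw [Nat.card_congr (quoEquiv e).toEquiv] at h5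
    rcases h with h | h | h
    · rw [NotCT.Orders.m12 h] at h5; omega
    · rw [NotCT.Orders.j2 h] at h5; omega
    · rw [NotCT.Orders.suz h] at h5; omega
  · have h6 := h5.of_equiv (quoEquiv e)
    rcases h with h | h | h
    · exact has_m12 h (h6.mono fun n m h => by
        change m = 1451520 at h
        omega)
    · exact has_j2 h (h6.mono fun n m h => by
        change m = 1451520 at h
        omega)
    · exact has_suz h (h6.mono fun n m h => by
        change m = 1451520 at h
        omega)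

/-- **The table.** -/
theorem table (hs : IsSporadicGroup X) (hna : ¬ IsMulCommutative X) (hQ : IsQuasisimple A)
    (hS : Seven (A ⧸ center A)) (T : InnRow X A ∨ Nonempty (Sit X A))
    (hHN : Spor.IsoHN X → Spor.IsoJ2 (A ⧸ center A) → Sit X A → False) : Good X A := by
  have hz := CTwoTab.center_eq_bot_of_simple hna
  have hQs : IsSimpleGroup (A ⧸ center A) := hQ.2
  have hfA : Finite A := by
    rcases T with ⟨z, hz2, K, hK, ⟨e⟩⟩ | ⟨⟨T⟩⟩
    · exact Finite.of_equiv _ e.toEquiv
    · exact Finite.of_equiv _ T.e.toEquiv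
  have h7 := seven_card hS
  obtain ⟨hd, hl⟩ := dvd_lt hna T
  have hmn : Nat.card (A ⧸ center A) ∣ Nat.card A := card_quotient_dvd_card _
  have hn0 : 0 < Nat.card A := Nat.card_pos
  rcases hs with h | h | h | h | h | h | h | h | h | h | h | h | h | h | h | h | h | h | h | h | h | h | h | h | h | h
  · -- M11
    exact (of_fixCard hz (fix_m11 h) T).elim
  · -- M12
    exfalso
    rw [NotCT.Orders.m12 h] at hd hl
    refine kill h7 hmn hn0 hd hl ?_
    rintro k (rfl | rfl | rfl | rfl | rfl | rfl | rfl) h1 h2 <;> omega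
  · -- M22
    exfalso
    rw [NotCT.Orders.m22 h] at hd hl
    refine kill h7 hmn hn0 hd hl ?_
    rintro k (rfl | rfl | rfl | rfl | rfl | rfl | rfl) h1 h2 <;> omega
  · exact (of_fixCard hz (fix_m23 h) T).elim
  · exact (of_fixCard hz (fix_m24 h) T).elim
  · -- J1
    have h1 := of_fixCard hz (fix_j1 h) T
    unfold Ord7 at h7
    omega
  · -- J2
    exfalso
    rw [NotCT.Orders.j2 h] at hd hl
    refine kill h7 hmn hn0 hd hl ?_
    rintro k (rfl | rfl | rfl | rfl | rfl | rfl | rfl) h1 h2 <;> omega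
  · -- J3
    exfalso
    rw [NotCT.Orders.j3 h] at hd hl
    refine kill h7 hmn hn0 hd hl ?_
    rintro k (rfl | rfl | rfl | rfl | rfl | rfl | rfl) h1 h2 <;> omega
  · exact (of_fixCard hz (fix_j4 h) T).elim
  · -- Co1
    have h1 := of_fixCard hz (fix_co1 h) T
    unfold Ord7 at h7
    omega
  · exact (of_fixCard hz (fix_co2 h) T).elim
  · -- Co3
    have h1 := of_fixCard hz (fix_co3 h) T
    left
    refine ⟨h, iso_m12 hS ?_⟩
    unfold Ord7 at h7
    omega
  · -- McL
    exfalso
    rcases T with T | ⟨⟨T⟩⟩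
    · have h1 := of_compCard (TwoAlt.compCard_mcl h) T
      unfold Ord7 at h7
      omega
    · have h1 := of_outCard (outCard_mcl h) T
      have h2 := hmn.trans h1.1
      have h3 : ¬ 64 ∣ Nat.card (A ⧸ center A) := fun h => h1.2 (h.trans hmn)
      rcases h7 with h7 | h7 | h7 | h7 | h7 | h7 | h7 <;> rw [h7] at h2 h3 <;> omega
  · -- HS
    exfalso
    rw [NotCT.Orders.hs h] at hd hl
    refine kill h7 hmn hn0 hd hl ?_
    rintro k (rfl | rfl | rfl | rfl | rfl | rfl | rfl) h1 h2 <;> omega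
  · -- Suz
    right; left
    refine ⟨h, ?_⟩
    rw [NotCT.Orders.suz h] at hd hl
    have h1 := hmn.trans hd
    have h2 := Nat.le_of_dvd hn0 hmn
    rcases h7 with h7 | h7 | h7 | h7 | h7 | h7 | h7
    · exact Or.inl (iso_m12 hS h7)
    · rw [h7] at h1; omega
    · exact Or.inr (iso_j2 hS h7)
    all_goals (rw [h7] at h1 h2; omega)
  · -- He
    exfalso
    rcases T with T | ⟨⟨T⟩⟩
    · have h1 := of_compCard (compCard_he h) T
      unfold Ord7 at h7
      omega
    · have h1 := of_outCard (OutHe.outCard h) T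
      have h2 := hmn.trans h1.1
      have h3 : ¬ 2 ^ 7 ∣ Nat.card (A ⧸ center A) := fun h => h1.2 (h.trans hmn)
      rcases h7 with h7 | h7 | h7 | h7 | h7 | h7 | h7 <;> rw [h7] at h2 h3 <;> omega
  · -- Ru
    have h1 := of_fixCard hz (fix_ru h) T
    unfold Ord7 at h7
    omega
  · -- ON
    right; right
    refine ⟨h, ?_⟩
    rcases T with T | ⟨⟨T⟩⟩
    · have h1 := of_compCard (InnON.compCard h) T
      unfold Ord7 at h7
      omega
    · have h1 := of_outCard (OutON.outCard h) T
      have h2 := hmn.trans h1.1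
      have h3 : ¬ 16 ∣ Nat.card (A ⧸ center A) := fun h => h1.2 (h.trans hmn)
      rcases h7 with h7 | h7 | h7 | h7 | h7 | h7 | h7
      · rw [h7] at h3; omega
      · exact iso_j1 hS h7
      all_goals (rw [h7] at h3; omega)
  · -- Ly
    have h1 := of_fixCard hz (fix_ly h) T
    unfold Ord7 at h7
    omega
  · -- Fi22
    exfalso
    rcases T with T | ⟨⟨T⟩⟩
    · have h1 := of_compCard (compCard_fi22 h) T
      unfold Ord7 at h7
      omega
    · rw [NotCT.Orders.fi22 h] at hd hl
      have h1 := hmn.trans hd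
      have h2 := Nat.le_of_dvd hn0 hmn
      rcases h7 with h7 | h7 | h7 | h7 | h7 | h7 | h7
      · exact out_fi22 h hQs hfA T (Or.inl (iso_m12 hS h7))
      · rw [h7] at h1; omega
      · exact out_fi22 h hQs hfA T (Or.inr (Or.inl (iso_j2 hS h7)))
      · rw [h7] at h1; omega
      · exact out_fi22 h hQs hfA T (Or.inr (Or.inr (iso_suz hS h7)))
      all_goals (rw [h7] at h1; omega)
  · -- Fi23
    have h1 := of_fixCard hz (fix_fi23 h) T
    unfold Ord7 at h7
    omega
  · -- Fi24'
    exfalso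
    rcases T with T | ⟨⟨T⟩⟩
    · have h1 := of_compCard (compCard_fi24 h) T
      unfold Ord7 at h7
      omega
    · have h1 := of_outCard (OutFi24.outCard h) T
      unfold Ord7 at h7
      omega
  · -- HN
    exfalso
    rcases T with T | ⟨⟨T⟩⟩
    · have h1 := of_compCard (compCard_hn h) T
      unfold Ord7 at h7
      omega
    · rw [NotCT.Orders.hn h] at hd hl
      have h1 := hmn.trans hd
      have h2 := Nat.le_of_dvd hn0 hmn
      rcases h7 with h7 | h7 | h7 | h7 | h7 | h7 | h7
      · exact eleven h hQs T (Or.inl (iso_m12 hS h7))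
      · exact eleven h hQs T (Or.inr (iso_j1 hS h7))
      · exact hHN h (iso_j2 hS h7) T
      all_goals (rw [h7] at h1 h2; omega)
  · exact (of_fixCard hz (fix_th h) T).elim
  · -- B
    exfalso
    rcases T with T | ⟨⟨T⟩⟩
    · exact row_b h hS hQ T
    · apply T.out
      obtain ⟨e⟩ := h
      exact CpAut.TwoInner.inner_congr e (fun α => inner_of_out S2084.result α) T.t
  · -- M
    have h1 := of_fixCard hz (fix_m h) T
    unfold Ord7 at h7
    omega

end table

end Cfsg.Agent.H283.Rows93
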