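import Cfsg.Agent.H283.SporFourB
import Cfsg.Agent.H283.BFour
import Cfsg.Agent.H283.MFour
import Cfsg.Agent.H283.HSFour
import Cfsg.Agent.H329.FourRows
/-!
# S3092, the sporadic row (helper283)

`RowRu`, `RowCo1` : the two rows which are inputs; `spor` : the row.
-/

set_option autoImplicit false

namespace Cfsg.Agent.H283.FourSpor

open Cfsg Subgroup Cfsg.Agent.SignalizersComponents Cfsg.Agent.SignalizersComponents.Components
open Cfsg.Agent.H283.FourStd Cfsg.Agent.CTwoTab Cfsg.Agent.H287 Cfsg.Agent.H283.NoIn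

universe u v w

/-- the row of `Ru` -/
def RowRu : Prop := ∀ {X A : Type u} [Group X] [Finite X] [IsSimpleGroup X] [Group A], In1 X A → Spor.IsoRu X →
  ∃ (F : Type) (_ : Field F) (_ : Fintype F), Fintype.card F = 8 ∧ Nonempty (A ≃* ↥(Cfsg.Lie.Sz F 4))

/-- the row of `Co₁` -/
def RowCo1 : Prop := ∀ {X A : Type u} [Group X] [Finite X] [IsSimpleGroup X] [Group A], In1 X A → Spor.IsoCo1 X →
  ∃ (F : Type) (_ : Field F) (_ : Fintype F), Fintype.card F = 4 ∧ Nonempty (A ≃* ↥(Cfsg.Lie.chevG2.group F))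

/-- a group with this situation is not commutative -/
theorem not_comm_of_four {X : Type u} {A : Type v} [Group X] [Group A] (F : Four X A) : ¬ IsMulCommutative X := by
  intro h
  apply quasisimple_not_isMulCommutative F.qs
  exact ⟨⟨fun a b => Subtype.ext (h.is_comm.comm (a : X) b)⟩⟩

/-- **The sporadic row.** -/
theorem spor (hRu : RowRu.{u}) (hCo : RowCo1.{u}) {X A : Type u} [Group X] [Finite X] [IsSimpleGroup X] [Group A]
    (hs : IsSporadicGroup X) (hF : Nonempty (Four X A)) : Concl X A := by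
  obtain ⟨F0⟩ := hF
  have hna := not_comm_of_four F0
  have hz : center X = ⊥ := CTwoTab.center_eq_bot_of_simple hna
  obtain ⟨F⟩ := of_four hs hna F0
  unfold Concl
  rcases hs with h | h | h | h | h | h | h | h | h | h | h | h | h | h | h | h | h | h | h | h | h | h | h | h | h | h
  · exact (false_rows hz F (by tauto)).elim
  · -- M12
    obtain ⟨K, i1, i2, h1, h2⟩ := row_m12 h F
    exact Or.inr (Or.inl ⟨K, i1, i2, h1, h2, Or.inl h⟩)
  · exact (false_rows hz F (by tauto)).elim
  · exact (false_rows hz F (by tauto)).elim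
  · exact (false_rows hz F (by tauto)).elim
  · exact (false_rows hz F (by tauto)).elim
  · -- J2
    obtain ⟨K, i1, i2, h1, h2⟩ := psl_two_four F.qsA (of_comp (compCard_j2 h) F).1
    exact Or.inr (Or.inl ⟨K, i1, i2, h1, h2, Or.inr h⟩)
  · exact (false_rows hz F (by tauto)).elim
  · exact (false_rows hz F (by tauto)).elim
  · -- Co1
    obtain ⟨K, i1, i2, h1, h2⟩ := hCo F h
    exact Or.inr (Or.inr (Or.inr (Or.inr (Or.inr ⟨K, i1, i2, h1, h2, h⟩))))
  · exact (false_rows hz F (by tauto)).elim
  · exact (false_rows hz F (by tauto)).elim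
  · exact (false_rows hz F (by tauto)).elim
  · -- HS
    exact (HSFour.row hz h F).elim
  · -- Suz
    obtain ⟨K, i1, i2, h1, h2⟩ := H329.FourRows.suz F h
    exact Or.inr (Or.inr (Or.inl ⟨K, i1, i2, h1, h2, h⟩))
  · -- He
    obtain ⟨K, i1, i2, h1, h2, h3⟩ := H329.FourRows.he F h
    exact Or.inr (Or.inr (Or.inr (Or.inl ⟨K, i1, i2, h1, h2, h3, h⟩)))
  · -- Ru
    obtain ⟨K, i1, i2, h1, h2⟩ := hRu F h
    exact Or.inr (Or.inr (Or.inr (Or.inr (Or.inl ⟨K, i1, i2, h1, h2, h⟩))))
  · exact (false_rows hz F (by tauto)).elim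
  · exact (false_rows hz F (by tauto)).elim
  · exact (false_rows hz F (by tauto)).elim
  · exact (false_rows hz F (by tauto)).elim
  · exact (false_rows hz F (by tauto)).elim
  · exact (false_rows hz F (by tauto)).elim
  · exact (false_rows hz F (by tauto)).elim
  · -- B
    have h1 := BFour.noIn h
    obtain ⟨e⟩ := h
    exact (of_all hz (CpAut.TwoInner.inner_congr e fun α => inner_of_out S2084.result α) h1 F).elim
  · -- M
    have h1 := MFour.noIn h
    obtain ⟨e⟩ := h
    exact (of_all hz (CpAut.TwoInner.inner_congr e fun α => inner_of_out S2085.result α) h1 F).elim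

end Cfsg.Agent.H283.FourSpor
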