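import Cfsg.Agent.H283.FourSpor
import Cfsg.Agent.H283.NoIn
import Cfsg.Agent.H287.FixCard
/-!
# S3092, the sporadic row: generalities (helper283)

`In1.of_equiv`, `inner_false`, `of_comp`, `of_out`, `dvd_fix`.
-/

set_option autoImplicit false

namespace Cfsg.Agent.H283.FourSpor

open Cfsg Subgroup Cfsg.Agent.SignalizersComponents Cfsg.Agent.SignalizersComponents.Components
open Cfsg.Agent.H283.FourStd Cfsg.Agent.CTwoTab Cfsg.Agent.H287 Cfsg.Agent.H283.NoIn

universe u v w

section

variable {X : Type u} [Group X] {A : Type v} [Group A]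

theorem In1.comp (F : In1 X A) : IsComponentOf F.L (centralizer ({F.t} : Set X)) := (F.all F.t F.ht F.tL).2

theorem In1.compY (F : In1 X A) : IsComponentOf F.L (fixedSubgroup F.y) := ⟨fun l hl => F.fix l hl, F.yc⟩

/-- the table of the components of the centralizers of involutions -/
theorem of_comp {S : ℕ → ℕ → Prop} (h : CompCard S X) (F : In1 X A) : S (Nat.card A) (Nat.card (A ⧸ center A)) := by
  have h1 := h F.t F.ht F.L F.comp
  rwa [Nat.card_congr F.e.toEquiv, Nat.card_congr (quoEquiv F.e).toEquiv] at h1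

theorem In1.orderOf_y (F : In1 X A) : orderOf F.y = 2 :=
  orderOf_eq_prime (by rw [pow_two]; exact F.yy) F.y1

/-- the table of the components of the centralizers of outer involutions -/
theorem of_out {S : ℕ → ℕ → Prop} (h : OutCard S X) (F : In1 X A) (hy : ¬ ∃ g, F.y = MulAut.conj g) :
    S (Nat.card A) (Nat.card (A ⧸ center A)) := by
  have h1 := h F.y F.orderOf_y hy _ F.yc
  have e : ↥(F.L.subgroupOf (fixedSubgroup F.y)) ≃* A := (subgroupOfEquivOfLe F.compY.1).trans F.e
  rwa [Nat.card_congr e.toEquiv, Nat.card_congr (quoEquiv e).toEquiv] at h1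

/-- `|A|` divides `|C_X(y)|` -/
theorem dvd_fix (F : In1 X A) : Nat.card A ∣ Nat.card ↥(fixedSubgroup F.y) := by
  rw [← Nat.card_congr F.e.toEquiv, ← Nat.card_congr (subgroupOfEquivOfLe F.compY.1).toEquiv]
  exact card_subgroup_dvd_card _

/-- the inner case: a second involution of `C(L)` -/
theorem exists_inner (hc : center X = ⊥) (F : In1 X A) (hy : ∃ g, F.y = MulAut.conj g) : ∃ s : X, orderOf s = 2 ∧
    s ≠ F.t ∧ s * F.t = F.t * s ∧ (∀ l ∈ F.L, s * l = l * s) ∧ F.y = MulAut.conj s := by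
  obtain ⟨g, hg⟩ := hy
  have hinj : ∀ a : X, (MulAut.conj a : MulAut X) = 1 → a = 1 := by
    intro a ha
    rw [← mem_bot, ← hc, mem_center_iff]
    intro x
    have h4 : MulAut.conj a x = x := by rw [ha]; rfl
    exact (conj_mem_iff.1 h4).symm
  refine ⟨g, orderOf_eq_prime ?_ ?_, ?_, ?_, ?_, hg⟩
  · rw [pow_two]
    apply hinj
    rw [map_mul, ← hg, F.yy]
  · intro h
    apply F.y1
    rw [hg, h, map_one]
  · intro h
    apply F.ynt
    rw [hg, h]
  · have h1 := F.yt
    rw [hg, conj_mem_iff] at h1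
    exact h1
  · intro l hl
    have h1 := F.fix l hl
    rwa [hg, conj_mem_iff] at h1

/-- **the inner case** -/
theorem inner_false (hc : center X = ⊥) (h : NoIn X) (F : In1 X A) (hy : ∃ g, F.y = MulAut.conj g) : False := by
  obtain ⟨s, hs, hst, hc2, hL, -⟩ := exists_inner hc F hy
  have hss : s * s = 1 := by rw [← pow_two, ← hs, pow_orderOf_eq_one]
  rcases h F.t F.ht F.L F.comp (fun z hz hk => (F.all z hz hk).2) s hss hc2 hL with h1 | h1
  · rw [h1, orderOf_one] at hs
    omega
  · exact hst h1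

end

section transport

variable {X : Type u} [Group X] {A : Type v} [Group A] {Y : Type w} [Group Y]

theorem fixed_congr (e : X ≃* Y) (y : MulAut X) :
    fixedSubgroup (MulAut.congr e y : MulAut Y) = (fixedSubgroup y).map e.toMonoidHom := by
  ext z
  constructor
  · intro hz
    refine ⟨e.symm z, ?_, e.apply_symm_apply z⟩
    have h1 : e (y (e.symm z)) = z := hz
    change y (e.symm z) = e.symm z
    apply e.injective
    rw [h1, e.apply_symm_apply]
  · rintro ⟨x, hx, rfl⟩
    change e (y (e.symm (e x))) = e x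
    have h1 : y x = x := hx
    rw [e.symm_apply_apply, h1]

theorem normal_map (e : X ≃* Y) {L M : Subgroup X} (h : (L.subgroupOf M).Normal) :
    ((L.map e.toMonoidHom).subgroupOf (M.map e.toMonoidHom)).Normal := by
  refine ⟨?_⟩
  rintro ⟨_, n, hn, rfl⟩ hnL ⟨_, g, hg, rfl⟩
  rw [mem_subgroupOf] at hnL ⊢
  obtain ⟨l, hl, hle⟩ := hnL
  have h1 : l = n := e.injective hle
  subst h1
  exact ⟨g * l * g⁻¹, mem_subgroupOf.1 (h.conj_mem ⟨l, hn⟩ (mem_subgroupOf.2 hl) ⟨g, hg⟩), by
    change e (g * l * g⁻¹) = e g * e l * (e g)⁻¹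
    rw [map_mul, map_mul, map_inv]⟩

/-- transport -/
theorem In1.of_equiv (e : X ≃* Y) (F : In1 X A) : ∃ F' : In1 Y A, F'.L = F.L.map e.toMonoidHom ∧ F'.t = e F.t ∧
    F'.y = MulAut.congr e F.y := by
  have hc : ∀ z : X, (centralizer ({z} : Set X)).map e.toMonoidHom = centralizer ({e z} : Set Y) :=
    map_centralizer_singleton e
  have hy := isComponentOf_map e F.compY
  have hyn := normal_map e F.yn
  rw [← fixed_congr] at hy hyn
  refine ⟨{
    L := F.L.map e.toMonoidHom
    e := (subMap e F.L).symm.trans F.e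
    qs := (isQuasisimple_congr (subMap e F.L)).1 F.qs
    t := e F.t
    ht := by rw [MulEquiv.orderOf_eq, F.ht]
    tL := ?_
    all := ?_
    y := MulAut.congr e F.y
    yy := by rw [← map_mul, F.yy, map_one]
    y1 := fun h => F.y1 ((MulAut.congr e).injective (h.trans (map_one _).symm))
    yt := ?_
    ynt := ?_
    fix := ?_
    yn := hyn
    yc := hy.2
    nocomm := ?_ }, rfl, rfl, rfl⟩
  · rintro _ ⟨l, hl, rfl⟩
    change e F.t * e l = e l * e F.t
    rw [← map_mul, F.tL l hl, map_mul]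
  · intro z hz hzL
    obtain ⟨h1, h2⟩ := F.all (e.symm z) (by rw [MulEquiv.orderOf_eq, hz]) (fun l hl => by
      apply e.injective
      rw [map_mul, map_mul, e.apply_symm_apply]
      exact hzL _ ⟨l, hl, rfl⟩)
    have h3 := normal_map e h1
    have h4 := isComponentOf_map e h2
    rw [hc, e.apply_symm_apply] at h3 h4
    exact ⟨h3, h4⟩
  · change e (F.y (e.symm (e F.t))) = e F.t
    rw [e.symm_apply_apply, F.yt]
  · intro h
    apply F.ynt
    ext x
    have h1 := DFunLike.congr_fun h (e x)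
    change e (F.y (e.symm (e x))) = e F.t * e x * (e F.t)⁻¹ at h1
    rw [e.symm_apply_apply, ← map_mul, ← map_inv, ← map_mul] at h1
    exact e.injective h1
  · rintro _ ⟨l, hl, rfl⟩
    change e (F.y (e.symm (e l))) = e l
    rw [e.symm_apply_apply, F.fix l hl]
  · intro g h
    apply F.nocomm (e.symm g)
    intro l hl m hm
    have h1 := h (e l) ⟨l, hl, rfl⟩ (e m) ⟨m, hm, rfl⟩
    apply e.injective
    simp only [map_mul, map_inv, e.apply_symm_apply]
    exact h1

theorem out_congr (e : X ≃* Y) {y : MulAut X} (h : ¬ ∃ g, y = MulAut.conj g) :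
    ¬ ∃ g, (MulAut.congr e y : MulAut Y) = MulAut.conj g := by
  rintro ⟨g, hg⟩
  apply h
  refine ⟨e.symm g, ?_⟩
  ext b
  have h1 := DFunLike.congr_fun hg (e b)
  change e (y (e.symm (e b))) = g * e b * g⁻¹ at h1
  rw [e.symm_apply_apply] at h1
  apply e.injective
  rw [h1]
  change _ = e (e.symm g * b * (e.symm g)⁻¹)
  rw [map_mul, map_mul, map_inv, e.apply_symm_apply]

end transport

end Cfsg.Agent.H283.FourSpor
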