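import Cfsg.Agent.H283.SporFourA
import Cfsg.Agent.H283.NoInRows
import Cfsg.Agent.H283.Rows93
import Cfsg.Agent.H287.HNd
import Cfsg.Agent.StdL2.SFive.IdBridge
import Cfsg.Agent.ClassicalGeometry.PSL2Basic
import Cfsg.Agent.TwoFusion.SLTwoFacts
import Cfsg.Agent.S0494
/-!
# S3092, the sporadic row: the groups without four-groups of this kind, `M12`, `J2` (helper283)
-/

set_option autoImplicit false

namespace Cfsg.Agent.H283.FourSpor

open Cfsg Subgroup Cfsg.Agent.SignalizersComponents Cfsg.Agent.SignalizersComponents.Components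
open Cfsg.Agent.H283.FourStd Cfsg.Agent.CTwoTab Cfsg.Agent.H287 Cfsg.Agent.H283.NoIn

universe u v w

/-- `|A| = 60` -/
theorem psl_two_four {A : Type v} [Group A] (hA : IsQuasisimple A) (h : Nat.card A = 60) :
    ∃ (F : Type) (_ : Field F) (_ : Fintype F), Fintype.card F = 4 ∧
      Nonempty (A ≃* Matrix.ProjectiveSpecialLinearGroup (Fin 2) F) := by
  have hfin : Finite A := Nat.finite_of_card_ne_zero (by rw [h]; norm_num)
  obtain ⟨e⟩ := StdL2.SFive.IdBridge.exists_alt hA h
  have : Fact (Nat.Prime 2) := ⟨Nat.prime_two⟩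
  let F := GaloisField 2 2
  let _ : Fintype F := Fintype.ofFinite F
  have hF : Fintype.card F = 4 := by
    rw [← Nat.card_eq_fintype_card]
    exact (GaloisField.card 2 2 (by norm_num)).trans (by norm_num)
  have h1 : Nat.card (Matrix.ProjectiveSpecialLinearGroup (Fin 2) F) = 60 := by
    rw [ClassicalGeometry.PSL2Basic.card_PSL2_even F (by rw [hF]; decide), hF]; norm_num
  have h2 : IsSimpleGroup (Matrix.ProjectiveSpecialLinearGroup (Fin 2) F) :=
    TwoFusion.SLTwoFacts.isSimpleGroup_psl (by rw [hF]; norm_num)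
  have hfin2 : Finite (Matrix.ProjectiveSpecialLinearGroup (Fin 2) F) :=
    Nat.finite_of_card_ne_zero (by rw [h1]; norm_num)
  obtain ⟨f⟩ := S0494.result h1
  exact ⟨F, inferInstance, inferInstance, hF, ⟨e.trans f.symm⟩⟩

section rows

variable {X : Type u} [Group X] [Finite X] [IsSimpleGroup X] {A : Type v} [Group A]

theorem In1.qsA (F : In1 X A) : IsQuasisimple A := (isQuasisimple_congr F.e).1 F.qs

/-- `M₁₂`, `J₂` -/
theorem row_m12 (h : Spor.IsoM12 X) (F : In1 X A) : ∃ (F : Type) (_ : Field F) (_ : Fintype F), Fintype.card F = 4 ∧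
    Nonempty (A ≃* Matrix.ProjectiveSpecialLinearGroup (Fin 2) F) :=
  psl_two_four F.qsA (of_comp (compCard_m12 h) F).1

theorem of_all (hz : center X = ⊥) (hall : ∀ α : MulAut X, ∃ g : X, α = MulAut.conj g) (h : NoIn X) (F : In1 X A) :
    False := inner_false hz h F (hall _)

/-- the outer involutions of `Fi₂₂` -/
theorem out_fi22 (h : Spor.IsoFi22 X) (F : In1 X A) (hy : ¬ ∃ g, F.y = MulAut.conj g) : False := by
  obtain ⟨f⟩ := h
  have hcard := of_comp (compCard_fi22 ⟨f⟩) F
  have hfin : Finite Spor.Fi22 := Finite.of_equiv X f.toEquiv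
  obtain ⟨F', -, -, hFy⟩ := In1.of_equiv f F
  have hy' : ¬ ∃ g, F'.y = MulAut.conj g := by
    rw [hFy]
    exact out_congr f hy
  let u : ↥(fixedSubgroup F'.y) := ⟨F'.t, F'.yt⟩
  have hu : orderOf u = 2 := by rw [← Subgroup.orderOf_coe]; exact F'.ht
  let D : Subgroup Spor.Fi22 := (centralizer ({u} : Set ↥(fixedSubgroup F'.y))).map (fixedSubgroup F'.y).subtype
  have hDC : D ≤ centralizer ({F'.t} : Set Spor.Fi22) := by
    rintro _ ⟨x, hx, rfl⟩
    rw [mem_centralizer_singleton_iff]
    exact congrArg Subtype.val (mem_centralizer_singleton_iff.1 hx)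
  have hLD : F'.L ≤ D := by
    intro l hl
    refine ⟨⟨l, F'.fix l hl⟩, ?_, rfl⟩
    rw [SetLike.mem_coe, mem_centralizer_singleton_iff]
    exact Subtype.ext (F'.tL l hl).symm
  have hcomp := CTwoTab.Fi22.isComponentOf_of_le F'.comp hDC hLD
  rcases CpAut.Fi22Row.cases F'.yy hy' u hu with h | ⟨θ, hθ, hk⟩
  · have h1 : HCard NoC ↥(centralizer ({u} : Set ↥(fixedSubgroup F'.y))) := HCard.of_ct h
    have h2 : HCard NoC ↥D := h1.congr ((centralizer ({u} : Set ↥(fixedSubgroup F'.y))).equivMapOfInjective _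
      (subtype_injective _))
    exact h2.comp hcomp
  · have h1 : Nat.card ↥F'.L ∣ Nat.card ↥D := by
      have h2 := card_subgroup_dvd_card (F'.L.subgroupOf D)
      rwa [Nat.card_congr (subgroupOfEquivOfLe hLD).toEquiv] at h2
    have h3 : Nat.card ↥D = 1451520 * 2 := by
      rw [← Nat.card_congr ((centralizer ({u} : Set ↥(fixedSubgroup F'.y))).equivMapOfInjective _
        (subtype_injective _)).toEquiv, card_eq_card_quotient_mul_card_subgroup θ.ker,
        Nat.card_congr (QuotientGroup.quotientKerEquivOfSurjective θ hθ).toEquiv, CpAut.UnitFix.card_sp6]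
      congr 1
      have h4 : (θ.ker : Set ↥(centralizer ({u} : Set ↥(fixedSubgroup F'.y)))) =
          {1, ⟨u, mem_centralizer_singleton_iff.2 rfl⟩} := by
        ext c
        exact hk c
      have h5 : Nat.card ↥θ.ker = (θ.ker : Set ↥(centralizer ({u} : Set ↥(fixedSubgroup F'.y)))).ncard := rfl
      rw [h5, h4, Set.ncard_pair]
      intro h6
      have h7 : (1 : ↥(fixedSubgroup F'.y)) = u := congrArg Subtype.val h6
      rw [← h7, orderOf_one] at hu
      omega
    have h8 : Nat.card ↥F'.L = 18393661440 := by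
      rw [Nat.card_congr F'.e.toEquiv]
      exact hcard.1
    rw [h3, h8] at h1
    norm_num at h1

/-- **The table**, the rows of the groups without four-groups of this kind. -/
theorem false_rows (hz : center X = ⊥) (F : In1 X A)
    (hs : Spor.IsoM11 X ∨ Spor.IsoM22 X ∨ Spor.IsoM23 X ∨ Spor.IsoM24 X ∨ Spor.IsoJ1 X ∨ Spor.IsoJ3 X ∨ Spor.IsoJ4 X ∨
      Spor.IsoCo2 X ∨ Spor.IsoCo3 X ∨ Spor.IsoMcL X ∨ Spor.IsoON X ∨ Spor.IsoLy X ∨ Spor.IsoFi22 X ∨
      Spor.IsoFi23 X ∨ Spor.IsoFi24' X ∨ Spor.IsoHN X ∨ Spor.IsoTh X) : False := by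
  rcases hs with h | h | h | h | h | h | h | h | h | h | h | h | h | h | h | h | h
  · exact of_comp ((fix_m11 h).compCard hz) F
  · exact of_comp (compCard_m22 h) F
  · exact of_comp ((fix_m23 h).compCard hz) F
  · exact of_comp ((fix_m24 h).compCard hz) F
  · -- J1
    have h1 := j1 h
    obtain ⟨e⟩ := h
    exact of_all hz (CpAut.TwoInner.inner_congr e fun α => inner_of_out S2065.result α) h1 F
  · exact of_comp (compCard_j3 h) F
  · exact of_comp ((fix_j4 h).compCard hz) F
  · exact of_comp ((fix_co2 h).compCard hz) F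
  · -- Co3
    have h1 := co3 h
    obtain ⟨e⟩ := h
    exact of_all hz (CpAut.TwoInner.inner_congr e fun α => inner_of_out S2071.result α) h1 F
  · -- McL
    by_cases hy : ∃ g, F.y = MulAut.conj g
    · exact inner_false hz (mcl h) F hy
    · have h1 := of_comp (TwoAlt.compCard_mcl h) F
      have h2 := of_out (outCard_mcl h) F hy
      rw [h1.1] at h2
      omega
  · -- ON
    by_cases hy : ∃ g, F.y = MulAut.conj g
    · exact inner_false hz (NoIn.on h) F hy
    · have h1 := of_comp (InnON.compCard h) F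
      have h2 := of_out (OutON.outCard h) F hy
      rw [h1.1] at h2
      omega
  · -- Ly
    have h1 := ly h
    obtain ⟨e⟩ := h
    exact of_all hz (CpAut.TwoInner.inner_congr e fun α => inner_of_out S2076.result α) h1 F
  · -- Fi22
    by_cases hy : ∃ g, F.y = MulAut.conj g
    · exact inner_false hz (fi22 h) F hy
    · exact out_fi22 h F hy
  · -- Fi23
    have h1 := fi23 h
    obtain ⟨e⟩ := h
    exact of_all hz (CpAut.TwoInner.inner_congr e fun α => inner_of_out S2080.result α) h1 F
  · -- Fi24'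
    by_cases hy : ∃ g, F.y = MulAut.conj g
    · exact inner_false hz (fi24 h) F hy
    · have h1 := of_comp (compCard_fi24 h) F
      have h2 := of_out (OutFi24.outCard h) F hy
      omega
  · -- HN
    by_cases hy : ∃ g, F.y = MulAut.conj g
    · exact inner_false hz (NoIn.hn h) F hy
    · have h1 := of_comp (compCard_hn h) F
      have h2 := dvd_fix F
      rw [h1.1] at h2
      exact OutHN.eleven h F.orderOf_y hy ((by norm_num : 11 ∣ 88704000).trans h2)
  · exact of_comp ((fix_th h).compCard hz) F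

end rows

end Cfsg.Agent.H283.FourSpor
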