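import Cfsg.Agent.H283.OddSpor
import Cfsg.Agent.H283.NotCTSpor
import Cfsg.Agent.H284.FStd
import Cfsg.Agent.H284.AltComp
import Cfsg.Agent.H677.OrdSporIso
import Cfsg.Agent.EvenType.ChevTwo
import Cfsg.Agent.EvenType.CharTwoCent
import Cfsg.Agent.S0000
/-!
# Sporadic standard subgroups (helper283)

`F*(G)` simple, non-abelian, `A` standard in `G`, `A / Z(A)` one of `M₁₂`, `J₁`, `J₂`, `Co₃`, `Suz`, `O'N`, `He`:
`F*(G)` is sporadic, and `A` is a normal component of `C_X(x)`, `X = F*(G)`, `x` an involutory automorphism of `X`.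
-/

set_option autoImplicit false

namespace Cfsg.Agent.H283.StdSpor

open Cfsg Subgroup Cfsg.Agent.SignalizersComponents Cfsg.Agent.SignalizersComponents.Components
open Cfsg.Agent.H283.NotCTSpor Cfsg.Agent.H284.FStd Cfsg.Agent.H284.CharTwoComp Cfsg.Agent.H283.OddComp

universe u

/-- the groups of Lie type in characteristic 2 and the Tits group -/
theorem act_two {X : Type u} [Group X] [Finite X] [IsSimpleGroup X] (hna : ¬ IsMulCommutative X)
    (h : IsLieTypeChar 2 X ∨ Lie.IsoTits X) : ACT X := by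
  have h1 : IsChevSimple 2 X := by
    rcases h with h | h
    · exact Or.inl h
    · exact Or.inr (Or.inl ⟨rfl, Or.inr (Or.inr h)⟩)
  intro u hu
  exact Cfsg.Agent.EvenType.CharTwoCent.char2_centralizer (Cfsg.Agent.EvenType.ChevTwo.charTwo hna h1) hu

theorem Seven.congr {X Y : Type*} [Group X] [Group Y] (e : X ≃* Y) (h : Seven X) : Seven Y := by
  rcases h with ⟨⟨f⟩⟩ | ⟨⟨f⟩⟩ | ⟨⟨f⟩⟩ | ⟨⟨f⟩⟩ | ⟨⟨f⟩⟩ | ⟨⟨f⟩⟩ | ⟨⟨f⟩⟩
  · exact Or.inl ⟨e.symm.trans f⟩
  · exact Or.inr (Or.inl ⟨e.symm.trans f⟩)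
  · exact Or.inr (Or.inr (Or.inl ⟨e.symm.trans f⟩))
  · exact Or.inr (Or.inr (Or.inr (Or.inl ⟨e.symm.trans f⟩)))
  · exact Or.inr (Or.inr (Or.inr (Or.inr (Or.inl ⟨e.symm.trans f⟩))))
  · exact Or.inr (Or.inr (Or.inr (Or.inr (Or.inr (Or.inl ⟨e.symm.trans f⟩)))))
  · exact Or.inr (Or.inr (Or.inr (Or.inr (Or.inr (Or.inr ⟨e.symm.trans f⟩)))))

/-- **A known simple group with a component on the list.** -/
theorem sporadic_of_comp {X : Type u} [Group X] [Finite X] [IsSimpleGroup X] (hna : ¬ IsMulCommutative X)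
    (hk : IsKnownSimple' X) {x : MulAut X} (hxx : x * x = 1) (hx1 : x ≠ 1) {A : Subgroup ↥(fixedSubgroup x)}
    (hAn : A.Normal) (hA : IsComponent A) (hS : Seven (↥A ⧸ center ↥A)) : IsSporadicGroup X := by
  have hs := hS.sporadic
  rcases OddHalf.Known.classify hna hk with h | ⟨p, hp, hp2, h⟩ | h | h
  · exfalso
    obtain ⟨m, hm, ⟨e⟩⟩ := h
    obtain ⟨n, k, hn, -, -, ⟨f⟩, -⟩ := H284.AltComp.table hm e hxx hx1 hA
    have hsA : IsSimpleGroup ↥(alternatingGroup (Fin n)) :=
      alternatingGroup.isSimpleGroup (by rw [Nat.card_fin]; exact hn)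
    have hsA' : IsSimpleGroup ↥A := f.isSimpleGroup
    have hZ : center ↥A = ⊥ := by
      rcases IsSimpleGroup.eq_bot_or_eq_top_of_normal (center ↥A) inferInstance with h1 | h1
      · exact h1
      · exact absurd h1 (quasisimple_center_ne_top hA.2)
    have hc : Nat.card (↥A ⧸ center ↥A) = Nat.card ↥A := by
      have h1 := (center ↥A).card_eq_card_quotient_mul_card_subgroup
      rw [hZ, Subgroup.card_bot, mul_one] at h1
      rw [hZ]
      exact h1.symm
    have hn2 : Nontrivial (Fin n) := Fin.nontrivial_iff_two_le.2 (by omega)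
    have h2 : 2 * Nat.card (↥A ⧸ center ↥A) = n.factorial := by
      rw [hc, Nat.card_congr f.toEquiv, Nat.card_eq_fintype_card, two_mul_card_alternatingGroup, Fintype.card_perm,
        Fintype.card_fin]
    exact H677.OrdSporIso.alt_spor (Or.inl hs) h2
  · exact absurd hs (OddSpor.no_spor hp hp2 h (by rw [pow_two]; exact hxx) hA)
  · exfalso
    obtain ⟨h1, -, -, h2⟩ := of_fix (act_two hna h) hxx hA
    have hZ : center ↥A = ⊥ := by
      rcases IsSimpleGroup.eq_bot_or_eq_top_of_normal (center ↥A) inferInstance with h1 | h1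
      · exact h1
      · exact absurd h1 (quasisimple_center_ne_top hA.2)
    have e : ↥A ⧸ center ↥A ≃* ↥A :=
      (QuotientGroup.quotientMulEquivOfEq hZ).trans QuotientGroup.quotientBot
    exact not_ACT (Seven.congr e hS) h2
  · exact h

/-- the subgroup `A` of `C_X(t)` is normal -/
theorem BB_normal {G : Type u} [Group G] [Finite G] {X A : Subgroup G} [hX : X.Normal] (hA : IsStandardSubgroup A)
    {t : G} (ht : orderOf t = 2) (htA : t ∈ centralizer (A : Set G)) : (BB X A t).Normal := by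
  refine ⟨fun a ha y => ?_⟩
  have hy : ((y : ↥X) : G) ∈ centralizer ({t} : Set G) := by
    rw [mem_centralizer_singleton_iff]
    exact (mem_fix.1 y.2).symm
  have hn := StandardTrichotomy.centralizer_involution_le hA ht htA hy
  exact (mem_normalizer_iff.1 hn _).1 ha

/-- the situation -/
structure Row (X : Type u) [Group X] (A : Type u) [Group A] : Prop where
  ex : ∃ (x : MulAut X) (L : Subgroup ↥(fixedSubgroup x)), x * x = 1 ∧ x ≠ 1 ∧ L.Normal ∧ IsComponent L ∧
    Nonempty (↥L ≃* A)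

/-- **The reduction.** -/
theorem row {G : Type u} [Group G] [Finite G] (hs : IsSimpleGroup ↥(generalizedFittingSubgroup G))
    (hna : ¬ IsMulCommutative ↥(generalizedFittingSubgroup G)) {A : Subgroup G} (hA : IsStandardSubgroup A) :
    Row ↥(generalizedFittingSubgroup G) ↥A := by
  obtain ⟨h1, h2, t, htA, ht⟩ := fstd hs hna hA
  have hn : (generalizedFittingSubgroup G).Normal := Lib.GenFitting.genFitting_normal
  obtain ⟨h3, h4, h5⟩ := comp_fix h2 hA h1 ht htA
  exact ⟨_, _, h3, h4, BB_normal hA ht htA, h5, ⟨BBequiv h1 htA⟩⟩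

/-- **`F*(G)` is sporadic.** -/
theorem main {G : Type u} [Group G] [Finite G] (hs : IsSimpleGroup ↥(generalizedFittingSubgroup G))
    (hna : ¬ IsMulCommutative ↥(generalizedFittingSubgroup G)) {A : Subgroup G} (hA : IsStandardSubgroup A)
    (hS : Seven (↥A ⧸ center ↥A)) :
    IsSporadicGroup ↥(generalizedFittingSubgroup G) ∧ Row ↥(generalizedFittingSubgroup G) ↥A := by
  have hr := row hs hna hA
  refine ⟨?_, hr⟩
  obtain ⟨x, L, h1, h2, h3, h4, ⟨e⟩⟩ := hr.ex
  obtain ⟨k⟩ := exists_quoEquiv e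
  exact sporadic_of_comp hna (S0000.result) h1 h2 h3 h4 (Seven.congr k.symm hS)

end Cfsg.Agent.H283.StdSpor
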