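import Cfsg.Agent.H283.StdSpor
import Cfsg.Agent.H287.FixCard
import Cfsg.Agent.H291.Parity
/-!
# Sporadic standard subgroups: inner and outer case (helper283)

`row2` : `F*(G)` simple, `A` standard in `G`, `X = F*(G)`: there is an involutory automorphism `x` of `X` such that `A` is
a normal component of `C_X(x)`, and either `x` is inner, or no involution of `C_X(x)` centralizes `A`.
-/

set_option autoImplicit false

namespace Cfsg.Agent.H283.StdSpor

open Cfsg Subgroup Cfsg.Agent.SignalizersComponents Cfsg.Agent.SignalizersComponents.Components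
open Cfsg.Agent.H283.NotCTSpor Cfsg.Agent.H284.FStd Cfsg.Agent.H284.CharTwoComp Cfsg.Agent.H283.OddComp

universe u v

/-- outer case -/
structure Sit (X : Type u) [Group X] (A : Type v) [Group A] where
  t : MulAut X
  tt : t * t = 1
  ne : t ≠ 1
  out : ¬ ∃ g : X, t = MulAut.conj g
  L : Subgroup X
  fix : ∀ l ∈ L, t l = l
  norm : ∀ u : X, t u = u → ∀ l ∈ L, u * l * u⁻¹ ∈ L
  inv : ∀ u : X, t u = u → u * u = 1 → (∀ l ∈ L, u * l = l * u) → u = 1
  qs : IsQuasisimple ↥L
  e : ↥L ≃* A

/-- inner case -/
def InnRow (X : Type u) [Group X] (A : Type v) [Group A] : Prop :=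
  ∃ z : X, orderOf z = 2 ∧ ∃ K : Subgroup X, IsComponentOf K (centralizer ({z} : Set X)) ∧ Nonempty (↥K ≃* A)

/-- **The reduction.** -/
theorem row2 {G : Type u} [Group G] [Finite G] (hs : IsSimpleGroup ↥(generalizedFittingSubgroup G))
    (hna : ¬ IsMulCommutative ↥(generalizedFittingSubgroup G)) {A : Subgroup G} (hA : IsStandardSubgroup A) :
    InnRow ↥(generalizedFittingSubgroup G) ↥A ∨ Nonempty (Sit ↥(generalizedFittingSubgroup G) ↥A) := by
  obtain ⟨h1, h2, t, htA, ht⟩ := fstd hs hna hA
  have hn : (generalizedFittingSubgroup G).Normal := Lib.GenFitting.genFitting_normal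
  by_cases hin : ∃ z ∈ generalizedFittingSubgroup G, z ∈ centralizer (A : Set G) ∧ orderOf z = 2
  · left
    obtain ⟨z, hzX, hzA, hz⟩ := hin
    obtain ⟨h3, h4, h5⟩ := comp_fix h2 hA h1 hz hzA
    have hz' : orderOf (⟨z, hzX⟩ : ↥(generalizedFittingSubgroup G)) = 2 := by rw [Subgroup.orderOf_mk, hz]
    have hle : A.subgroupOf (generalizedFittingSubgroup G) ≤
        centralizer ({(⟨z, hzX⟩ : ↥(generalizedFittingSubgroup G))} : Set ↥(generalizedFittingSubgroup G)) := by
      intro y hy
      rw [mem_centralizer_singleton_iff]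
      exact Subtype.ext (mem_centralizer_iff.1 hzA (y : G) (mem_subgroupOf.1 hy))
    have hfix : fixedSubgroup (MulAut.conjNormal z : MulAut ↥(generalizedFittingSubgroup G)) =
        centralizer ({(⟨z, hzX⟩ : ↥(generalizedFittingSubgroup G))} : Set ↥(generalizedFittingSubgroup G)) := by
      ext y
      rw [mem_fix, mem_centralizer_singleton_iff]
      constructor
      · intro h
        exact Subtype.ext h.symm
      · intro h
        exact (congrArg Subtype.val h).symm
    refine ⟨⟨z, hzX⟩, hz', A.subgroupOf (generalizedFittingSubgroup G), ⟨hle, ?_⟩, ⟨subgroupOfEquivOfLe h1⟩⟩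
    rw [← hfix]
    exact h5
  · right
    obtain ⟨h3, h4, h5⟩ := comp_fix h2 hA h1 ht htA
    have hBn := BB_normal (X := generalizedFittingSubgroup G) hA ht htA
    have hin' : ∀ u : ↥(generalizedFittingSubgroup G), u * u = 1 →
        (∀ l ∈ A.subgroupOf (generalizedFittingSubgroup G), u * l = l * u) → u = 1 := by
      intro u huu hul
      by_contra hu1
      refine hin ⟨u, u.2, ?_, ?_⟩
      · rw [mem_centralizer_iff]
        intro a ha
        exact (congrArg Subtype.val (hul ⟨a, h1 ha⟩ (mem_subgroupOf.2 ha))).symm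
      · refine orderOf_eq_prime ?_ (fun h => hu1 (Subtype.ext h))
        rw [pow_two]
        exact congrArg Subtype.val huu
    refine ⟨⟨MulAut.conjNormal t, h3, h4, ?_, A.subgroupOf (generalizedFittingSubgroup G), ?_, ?_, ?_, ?_,
      subgroupOfEquivOfLe h1⟩⟩
    · rintro ⟨g, hg⟩
      have hz := Cfsg.Agent.CTwoTab.center_eq_bot_of_simple hna
      have hgg : g * g = 1 := by
        have h6 : MulAut.conj (g * g) = (1 : MulAut ↥(generalizedFittingSubgroup G)) := by
          rw [map_mul, ← hg, h3]
        have h7 : g * g ∈ center ↥(generalizedFittingSubgroup G) := by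
          rw [mem_center_iff]
          intro y
          have h8 := DFunLike.congr_fun h6 y
          rw [MulAut.conj_apply, MulAut.one_apply] at h8
          exact (mul_inv_eq_iff_eq_mul.1 h8).symm
        rwa [hz, mem_bot] at h7
      have hg1 := hin' g hgg (fun l hl => by
        have h6 : l ∈ fixedSubgroup (MulAut.conjNormal t : MulAut ↥(generalizedFittingSubgroup G)) :=
          le_fix htA hl
        have h7 : (MulAut.conjNormal t : MulAut ↥(generalizedFittingSubgroup G)) l = l := h6
        rw [hg, MulAut.conj_apply] at h7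
        exact mul_inv_eq_iff_eq_mul.1 h7)
      rw [hg1, map_one] at hg
      exact h4 hg
    · intro l hl
      exact le_fix htA hl
    · intro u hu l hl
      have h6 := hBn.conj_mem ⟨l, le_fix htA hl⟩ hl ⟨u, hu⟩
      exact h6
    · intro u hu huu hul
      exact hin' u huu hul
    · exact (isQuasisimple_congr (subgroupOfEquivOfLe h1)).2 hA.1

end Cfsg.Agent.H283.StdSpor
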