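import Cfsg.Agent.H283.FourStd
/-!
# S3092, `X` of Lie type in characteristic 2: the centralizers agree (helper283)

`Four X A`, the centralizers of the involutions of `X` of characteristic 2 (`ACT X`): `C_X(L) = 1`, and the centralizers in `X`
of all the involutions `z` of `W` are equal to `N_X(L)`; no involution of `W` is inner; the product of two different commuting
involutions of `W` is an involution of `W` (`Four.mul`).
-/

set_option autoImplicit false

namespace Cfsg.Agent.H283.TwoFix

open Cfsg Subgroup Cfsg.Agent.SignalizersComponents Cfsg.Agent.SignalizersComponents.Components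
open Cfsg.Agent.H283.FourStd Cfsg.Agent.H284.CharTwoComp

universe u v

variable {X : Type u} [Group X] {A : Type v} [Group A]

theorem xyW (F : Four X A) : F.x * F.y ∈ F.W := mul_mem F.xW F.yW

theorem xy1 (F : Four X A) : F.x * F.y ≠ 1 := by
  intro h
  apply F.ne
  have h1 := congrArg (fun z => z * F.y) h
  simp only [one_mul] at h1
  rwa [mul_assoc, F.yy, mul_one] at h1

theorem xy2 (F : Four X A) : (F.x * F.y) * (F.x * F.y) = 1 := by
  calc (F.x * F.y) * (F.x * F.y) = (F.x * F.y) * (F.y * F.x) := by rw [← F.xy]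
    _ = F.x * (F.y * F.y) * F.x := by group
    _ = 1 := by rw [F.yy, mul_one, F.xx]

variable [Finite X]

/-- an element of `C_X(z)` centralizing `L` is trivial -/
theorem eq_one (hX : ACT X) (F : Four X A) {z : MulAut X} (hz : z ∈ F.W) (hzz : z * z = 1) (hz1 : z ≠ 1) {g : X}
    (hg : z g = g) (hgL : ∀ l ∈ F.L, g * l = l * g) : g = 1 := by
  obtain ⟨-, -, h1, -⟩ := of_fix hX hzz (F.comp z hz hzz hz1).2
  have h2 : (⟨g, hg⟩ : ↥(fixedSubgroup z)) ∈ centralizer ((F.L.subgroupOf (fixedSubgroup z) :
      Subgroup ↥(fixedSubgroup z)) : Set ↥(fixedSubgroup z)) := by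
    rw [mem_centralizer_iff]
    intro l hl
    exact Subtype.ext (hgL l (mem_subgroupOf.1 hl)).symm
  rw [h1, mem_bot] at h2
  exact congrArg Subtype.val h2

/-- **`C_X(L) = 1`** -/
theorem centralizer_eq_bot (hX : ACT X) (F : Four X A) : centralizer (F.L : Set X) = ⊥ := by
  -- an involution of `W` inverts `C_X(L)`
  have key : ∀ z ∈ F.W, z * z = 1 → z ≠ 1 → ∀ g ∈ centralizer (F.L : Set X), z g = g⁻¹ := by
    intro z hz hzz hz1 g hg
    have hst : ∀ d ∈ centralizer (F.L : Set X), z d ∈ centralizer (F.L : Set X) := by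
      intro d hd
      rw [mem_centralizer_iff] at hd ⊢
      intro l hl
      have h1 := congrArg z (hd l hl)
      rw [map_mul, map_mul, F.fix z hz l hl] at h1
      exact h1
    let φ : ↥(centralizer (F.L : Set X)) →* ↥(centralizer (F.L : Set X)) :=
      { toFun := fun d => ⟨z d, hst d d.2⟩
        map_one' := Subtype.ext (map_one z)
        map_mul' := fun a b => Subtype.ext (map_mul z (a : X) (b : X)) }
    have hφ : MonoidHom.FixedPointFree φ := by
      intro d hd
      have h1 : z (d : X) = d := congrArg Subtype.val hd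
      exact Subtype.ext (eq_one hX F hz hzz hz1 h1 (fun l hl => (mem_centralizer_iff.1 d.2 l hl).symm))
    have hzz' : ∀ g : X, z (z g) = g := fun g => by
      have := DFunLike.congr_fun hzz g
      exact this
    have h2 : Function.Involutive φ := fun d => Subtype.ext (hzz' (d : X))
    have h3 := congrFun (hφ.coe_eq_inv_of_involutive h2) ⟨g, hg⟩
    exact congrArg Subtype.val h3
  rw [eq_bot_iff]
  intro g hg
  rw [mem_bot]
  refine eq_one hX F (xyW F) (xy2 F) (xy1 F) ?_ (fun l hl => (mem_centralizer_iff.1 hg l hl).symm)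
  change F.x (F.y g) = g
  rw [key F.y F.yW F.yy F.y1 g hg, map_inv, key F.x F.xW F.xx F.x1 g hg, inv_inv]

/-- **The centralizer of an involution of `W` is `N_X(L)`.** -/
theorem fixed_eq (hX : ACT X) (F : Four X A) {z : MulAut X} (hz : z ∈ F.W) (hzz : z * z = 1) (hz1 : z ≠ 1) :
    fixedSubgroup z = normalizer (F.L : Set X) := by
  have hn := (F.comp z hz hzz hz1).1
  ext g
  constructor
  · intro hg
    rw [mem_normalizer_iff]
    have key : ∀ u : X, z u = u → ∀ l ∈ F.L, u * l * u⁻¹ ∈ F.L := by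
      intro u hu l hl
      exact mem_subgroupOf.1 (hn.conj_mem ⟨l, F.fix z hz l hl⟩ (mem_subgroupOf.2 hl) ⟨u, hu⟩)
    intro l
    constructor
    · exact key g hg l
    · intro h
      have h1 := key g⁻¹ (by rw [map_inv]; congr 1) _ h
      have e : g⁻¹ * (g * l * g⁻¹) * g⁻¹⁻¹ = l := by group
      rwa [e] at h1
  · intro hg
    rw [mem_normalizer_iff] at hg
    have h1 : g⁻¹ * z g ∈ centralizer (F.L : Set X) := by
      rw [mem_centralizer_iff]
      intro l hl
      have h2 := F.fix z hz _ ((hg l).1 hl)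
      rw [map_mul, map_mul, map_inv, F.fix z hz l hl] at h2
      calc l * (g⁻¹ * z g) = g⁻¹ * (g * l * g⁻¹) * z g := by group
        _ = g⁻¹ * (z g * l * (z g)⁻¹) * z g := by rw [h2]
        _ = g⁻¹ * z g * l := by group
    rw [centralizer_eq_bot hX F, mem_bot] at h1
    exact (inv_mul_eq_one.1 h1).symm

/-- the centralizers of `x`, `y`, `x y` are equal -/
theorem fixed_xy (hX : ACT X) (F : Four X A) : fixedSubgroup F.x = fixedSubgroup F.y ∧
    fixedSubgroup (F.x * F.y) = fixedSubgroup F.y := by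
  rw [fixed_eq hX F F.xW F.xx F.x1, fixed_eq hX F F.yW F.yy F.y1, fixed_eq hX F (xyW F) (xy2 F) (xy1 F)]
  exact ⟨rfl, rfl⟩

/-- no involution of `W` is inner -/
theorem not_inner (hX : ACT X) (F : Four X A) {z : MulAut X} (hz : z ∈ F.W) (hzz : z * z = 1) (hz1 : z ≠ 1) :
    ¬ ∃ g, z = MulAut.conj g := by
  rintro ⟨g, rfl⟩
  have h1 : g ∈ centralizer (F.L : Set X) := by
    rw [mem_centralizer_iff]
    intro l hl
    have h2 := F.fix _ hz l hl
    rw [MulAut.conj_apply] at h2
    exact (mul_inv_eq_iff_eq_mul.1 h2).symm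
  rw [centralizer_eq_bot hX F, mem_bot] at h1
  apply hz1
  rw [h1, map_one]

/-- the situation with `x`, `y`, `x y` exchanged: any two different involutions of `⟨x, y⟩` -/
theorem swap (F : Four X A) {a b : MulAut X} (ha : a ∈ F.W) (hb : b ∈ F.W) (haa : a * a = 1) (hbb : b * b = 1)
    (hab : a * b = b * a) (ha1 : a ≠ 1) (hb1 : b ≠ 1) (hne : a ≠ b) : ∃ F' : Four X A, F'.L = F.L ∧ F'.W = F.W ∧
      F'.x = a ∧ F'.y = b :=
  ⟨{ F with x := a, y := b, xW := ha, yW := hb, xx := haa, yy := hbb, xy := hab, x1 := ha1, y1 := hb1, ne := hne },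
    rfl, rfl, rfl, rfl⟩

end Cfsg.Agent.H283.TwoFix
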